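import Mathlib
import Cfsg.Prelude.Def_Transfer

/-!
Piece (1) of the joint proof of S4016: in a non-abelian simple minimal counterexample the cyclic
Sylow `p`-subgroup `P` satisfies `N(U) = N(P)` for every nontrivial `U ≤ P`, and `P` is a
TI-subgroup.  Also Burnside: `N(P) ≤ C(P)` is impossible.
-/

namespace Cfsg.Agent.S4016P

/-- In a finite cyclic group an element whose order equals that of `x` is a power of `x`. -/
theorem h3_cyc_mem_zpowers {C : Type*} [Group C] [Finite C] [IsCyclic C] (x y : C)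
    (h : orderOf y = orderOf x) : y ∈ Subgroup.zpowers x := by
  classical
  have := Fintype.ofFinite C
  have hd : 0 < orderOf x := orderOf_pos x
  have hle := IsCyclic.card_pow_eq_one_le (α := C) hd
  have hsub : (Finset.univ.filter fun a : C => a ∈ Subgroup.zpowers x) ⊆
      (Finset.univ.filter fun a : C => a ^ orderOf x = 1) := by
    intro a ha
    simp only [Finset.mem_filter, Finset.mem_univ, true_and] at ha ⊢
    obtain ⟨k, rfl⟩ := ha
    rw [← zpow_natCast, ← zpow_mul, mul_comm, zpow_mul, zpow_natCast, pow_orderOf_eq_one,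
      one_zpow]
  have hcard : (Finset.univ.filter fun a : C => a ∈ Subgroup.zpowers x).card = orderOf x := by
    rw [← Nat.card_zpowers x, Nat.card_eq_fintype_card, Fintype.card_subtype]
  have heq := Finset.eq_of_subset_of_card_le hsub (by rw [hcard]; exact hle)
  have hy : y ∈ (Finset.univ.filter fun a : C => a ^ orderOf x = 1) := by
    simp [← h, pow_orderOf_eq_one]
  rw [← heq] at hy
  simpa using hy

/-- Membership in a normalizer from closure under conjugation by `g` and by `g⁻¹`. -/
theorem h3_mem_normalizer_of_conj {G : Type*} [Group G] (U : Subgroup G) (g : G)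
    (h1 : ∀ x ∈ U, g * x * g⁻¹ ∈ U) (h2 : ∀ x ∈ U, g⁻¹ * x * g ∈ U) :
    g ∈ Subgroup.normalizer (U : Set G) := by
  rw [Subgroup.mem_normalizer_iff]
  intro x
  refine ⟨h1 x, fun hx => ?_⟩
  have := h2 _ hx
  simpa [mul_assoc] using this

theorem h3_orderOf_conj_eq {G : Type*} [Group G] (g x : G) : orderOf (g * x * g⁻¹) = orderOf x := by
  rw [← MulAut.conj_apply]
  exact MulEquiv.orderOf_eq _ _

/-- Piece (1): `N(U) = N(P)` for `1 ≠ U ≤ P`, and `P` is TI. -/
theorem ti_of_min.{u} {G : Type u} [Group G] [Finite G] {p : ℕ} [Fact p.Prime] [IsSimpleGroup G]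
    (hna : ∃ a b : G, a * b ≠ b * a) (P : Sylow p G) (hcyc : IsCyclic P)
    (hmin : ∀ H : Subgroup G, H ≠ ⊤ → ∀ P1 : Sylow p H,
      Cfsg.HasNormalPComplement p H ∨ (P1 : Subgroup H).Normal)
    (hNC : ¬ Subgroup.normalizer ((P : Subgroup G) : Set G) ≤
      Subgroup.centralizer ((P : Subgroup G) : Set G)) :
    (∀ U : Subgroup G, U ≤ (P : Subgroup G) → U ≠ ⊥ →
      Subgroup.normalizer (U : Set G) = Subgroup.normalizer ((P : Subgroup G) : Set G)) ∧
    (∀ g u : G, u ∈ (P : Subgroup G) → u ≠ 1 → g * u * g⁻¹ ∈ (P : Subgroup G) →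
      g ∈ Subgroup.normalizer ((P : Subgroup G) : Set G)) := by
  have hPc : ∀ a ∈ (P : Subgroup G), ∀ b ∈ (P : Subgroup G), a * b = b * a := by
    intro a ha b hb
    have := mul_comm' (⟨a, ha⟩ : (P : Subgroup G)) ⟨b, hb⟩
    exact congrArg Subtype.val this
  have hkey : ∀ x ∈ (P : Subgroup G), ∀ y ∈ (P : Subgroup G), orderOf y = orderOf x →
      y ∈ Subgroup.zpowers x := by
    intro x hx y hy hxy
    have h1 : (⟨y, hy⟩ : (P : Subgroup G)) ∈ Subgroup.zpowers (⟨x, hx⟩ : (P : Subgroup G)) := by
      apply h3_cyc_mem_zpowers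
      rw [Subgroup.orderOf_mk, Subgroup.orderOf_mk, hxy]
    obtain ⟨k, hk⟩ := h1
    refine ⟨k, ?_⟩
    have := congrArg Subtype.val hk
    simpa using this
  have hclose : ∀ U : Subgroup G, U ≤ (P : Subgroup G) → ∀ n : G, ∀ x ∈ U,
      n * x * n⁻¹ ∈ (P : Subgroup G) → n * x * n⁻¹ ∈ U := by
    intro U hU n x hx hnx
    have := hkey x (hU hx) _ hnx (h3_orderOf_conj_eq n x)
    exact (Subgroup.zpowers_le.2 hx) this
  have hNPU : ∀ U : Subgroup G, U ≤ (P : Subgroup G) →
      Subgroup.normalizer ((P : Subgroup G) : Set G) ≤ Subgroup.normalizer (U : Set G) := by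
    intro U hU n hn
    have hn' : n⁻¹ ∈ Subgroup.normalizer ((P : Subgroup G) : Set G) := inv_mem hn
    refine h3_mem_normalizer_of_conj U n (fun x hx => ?_) (fun x hx => ?_)
    · exact hclose U hU n x hx ((Subgroup.mem_normalizer_iff.1 hn x).1 (hU hx))
    · have := hclose U hU n⁻¹ x hx ((Subgroup.mem_normalizer_iff.1 hn' x).1 (hU hx))
      simpa using this
  have hpart1 : ∀ U : Subgroup G, U ≤ (P : Subgroup G) → U ≠ ⊥ →
      Subgroup.normalizer (U : Set G) = Subgroup.normalizer ((P : Subgroup G) : Set G) := by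
    intro U hU hU1
    refine le_antisymm ?_ (hNPU U hU)
    have hPH : (P : Subgroup G) ≤ Subgroup.normalizer (U : Set G) :=
      le_trans Subgroup.le_normalizer (hNPU U hU)
    have hHtop : Subgroup.normalizer (U : Set G) ≠ ⊤ := by
      intro htop
      have hn : U.Normal := Subgroup.normalizer_eq_top_iff.1 htop
      rcases hn.eq_bot_or_eq_top with h | h
      · exact hU1 h
      · obtain ⟨a, b, hab⟩ := hna
        apply hab
        have ha : a ∈ (P : Subgroup G) := hU (h ▸ Subgroup.mem_top a)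
        have hb : b ∈ (P : Subgroup G) := hU (h ▸ Subgroup.mem_top b)
        exact hPc a ha b hb
    rcases hmin _ hHtop (P.subtype hPH) with hcomp | hnorm
    · exfalso
      apply hNC
      obtain ⟨P2, K, hKn, hK⟩ := hcomp
      have hcard : Nat.card K * Nat.card (P.subtype hPH : Subgroup ↥(Subgroup.normalizer (U : Set G))) =
          Nat.card (Subgroup.normalizer (U : Set G)) := by
        rw [← hK.card_mul_card, Sylow.card_eq_multiplicity, Sylow.card_eq_multiplicity]
      have hcop : Nat.Coprime (Nat.card K) (Nat.card (P.subtype hPH : Subgroup ↥(Subgroup.normalizer (U : Set G)))) := by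
        rw [Sylow.card_eq_multiplicity]
        apply Nat.Coprime.pow_right
        rw [Nat.coprime_comm, Nat.Prime.coprime_iff_not_dvd Fact.out]
        rw [← hK.index_eq_card]
        exact P2.not_dvd_index
      have hK1 : K.IsComplement' (P.subtype hPH : Subgroup ↥(Subgroup.normalizer (U : Set G))) :=
        Subgroup.isComplement'_of_coprime hcard hcop
      intro n hn
      rw [Subgroup.mem_centralizer_iff]
      intro v hv
      have hnH : n ∈ Subgroup.normalizer (U : Set G) := hNPU U hU hn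
      obtain ⟨⟨⟨k, hk⟩, ⟨y, hy⟩⟩, hky⟩ := hK1.2 ⟨n, hnH⟩
      have hy' : (y : G) ∈ (P : Subgroup G) := by
        have : y ∈ (P.subtype hPH : Subgroup ↥(Subgroup.normalizer (U : Set G))) := hy
        rw [Sylow.coe_subtype, Subgroup.mem_subgroupOf] at this
        exact this
      have hn_eq : n = (k : G) * (y : G) := by
        have := congrArg Subtype.val hky
        simpa using this.symm
      have hkN : (k : G) ∈ Subgroup.normalizer ((P : Subgroup G) : Set G) := by
        have : (k : G) = n * (y : G)⁻¹ := by rw [hn_eq]; group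
        rw [this]
        exact mul_mem hn (inv_mem (Subgroup.le_normalizer hy'))
      have hkv : (k : G) * v * (k : G)⁻¹ ∈ (P : Subgroup G) :=
        (Subgroup.mem_normalizer_iff.1 hkN v).1 hv
      have hc1 : k * ⟨v, hPH hv⟩ * k⁻¹ * (⟨v, hPH hv⟩ : Subgroup.normalizer (U : Set G))⁻¹ ∈ K := by
        have h1 := hKn.conj_mem k⁻¹ (K.inv_mem hk) ⟨v, hPH hv⟩
        have h2 := K.mul_mem hk h1
        simpa [mul_assoc] using h2
      have hc2 : k * ⟨v, hPH hv⟩ * k⁻¹ * (⟨v, hPH hv⟩ : Subgroup.normalizer (U : Set G))⁻¹ ∈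
          (P.subtype hPH : Subgroup ↥(Subgroup.normalizer (U : Set G))) := by
        rw [Sylow.coe_subtype, Subgroup.mem_subgroupOf]
        simpa using mul_mem hkv (inv_mem hv)
      have hc := Subgroup.disjoint_def.1 hK1.disjoint hc1 hc2
      have hc' : (k : G) * v * (k : G)⁻¹ * v⁻¹ = 1 := by
        have := congrArg Subtype.val hc
        simpa using this
      have hkv' : (k : G) * v = v * (k : G) := by
        have : (k : G) * v * (k : G)⁻¹ = v := by
          rw [mul_inv_eq_one] at hc'; exact hc'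
        calc (k : G) * v = (k : G) * v * (k : G)⁻¹ * (k : G) := by group
          _ = v * (k : G) := by rw [this]
      rw [hn_eq, ← mul_assoc, ← hkv', mul_assoc, mul_assoc, hPc v hv (y : G) hy']
    · intro g hg
      have hgi : g⁻¹ ∈ Subgroup.normalizer (U : Set G) := inv_mem hg
      have hconj : ∀ g' ∈ Subgroup.normalizer (U : Set G), ∀ x ∈ (P : Subgroup G),
          g' * x * g'⁻¹ ∈ (P : Subgroup G) := by
        intro g' hg' x hx
        have hxm : (⟨x, hPH hx⟩ : Subgroup.normalizer (U : Set G)) ∈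
            (P.subtype hPH : Subgroup ↥(Subgroup.normalizer (U : Set G))) := by
          rw [Sylow.coe_subtype, Subgroup.mem_subgroupOf]; exact hx
        have := hnorm.conj_mem _ hxm ⟨g', hg'⟩
        rw [Sylow.coe_subtype, Subgroup.mem_subgroupOf] at this
        simpa using this
      refine h3_mem_normalizer_of_conj _ g (fun x hx => hconj g hg x hx) (fun x hx => ?_)
      have := hconj g⁻¹ hgi x hx
      simpa using this
  refine ⟨hpart1, ?_⟩
  intro g u hu hu1 hgu
  have hU : Subgroup.zpowers u ≤ (P : Subgroup G) := Subgroup.zpowers_le.2 hu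
  have hU1 : Subgroup.zpowers u ≠ ⊥ := fun h => hu1 (Subgroup.zpowers_eq_bot.1 h)
  rw [← hpart1 _ hU hU1]
  have h1 : g * u * g⁻¹ ∈ Subgroup.zpowers u := hkey u hu _ hgu (h3_orderOf_conj_eq g u)
  have h2 : u ∈ Subgroup.zpowers (g * u * g⁻¹) := hkey _ hgu u hu (h3_orderOf_conj_eq g u).symm
  refine h3_mem_normalizer_of_conj _ g (fun x hx => ?_) (fun x hx => ?_)
  · obtain ⟨k, rfl⟩ := hx
    have : g * u ^ k * g⁻¹ = (g * u * g⁻¹) ^ k := conj_zpow.symm
    rw [this]
    exact Subgroup.zpow_mem _ h1 k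
  · obtain ⟨k, rfl⟩ := hx
    obtain ⟨m, hm⟩ := h2
    have hm' : g⁻¹ * u * g = u ^ m := by
      have e1 : (g * u * g⁻¹) ^ m = g * u ^ m * g⁻¹ := conj_zpow
      have e2 : u = g * u ^ m * g⁻¹ := by rw [← e1]; exact hm.symm
      calc g⁻¹ * u * g = g⁻¹ * (g * u ^ m * g⁻¹) * g := by rw [← e2]
        _ = u ^ m := by group
    have e3 : g⁻¹ * u ^ k * g = (g⁻¹ * u * g) ^ k := by
      have := (conj_zpow (i := k) (a := g⁻¹) (b := u)).symm
      simpa using this
    rw [e3, hm']
    exact Subgroup.zpow_mem _ (Subgroup.zpow_mem _ (Subgroup.mem_zpowers u) m) k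

/-- Burnside: in a non-abelian simple group a nontrivial cyclic Sylow subgroup is not central in
its normalizer. -/
theorem burnside_nc {G : Type*} [Group G] [Finite G] {p : ℕ} [Fact p.Prime] [IsSimpleGroup G]
    (hna : ∃ a b : G, a * b ≠ b * a) (P : Sylow p G) (hcyc : IsCyclic P)
    (hP : (P : Subgroup G) ≠ ⊥) :
    ¬ Subgroup.normalizer ((P : Subgroup G) : Set G) ≤
      Subgroup.centralizer ((P : Subgroup G) : Set G) := by
  intro hle
  have hc := MonoidHom.ker_transferSylow_isComplement' P hle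
  rcases (MonoidHom.normal_ker (MonoidHom.transferSylow P hle)).eq_bot_or_eq_top with h | h
  · rw [h, Subgroup.isComplement'_bot_left] at hc
    obtain ⟨a, b, hab⟩ := hna
    apply hab
    have ha : a ∈ (P : Subgroup G) := hc ▸ Subgroup.mem_top a
    have hb : b ∈ (P : Subgroup G) := hc ▸ Subgroup.mem_top b
    have := mul_comm' (⟨a, ha⟩ : (P : Subgroup G)) ⟨b, hb⟩
    exact congrArg Subtype.val this
  · rw [h, Subgroup.isComplement'_top_left] at hc
    exact hP hc

end Cfsg.Agent.S4016P
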