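import Mathlib

/-!
Glue lemmas (G4), (G5) for the joint proof of S4016: orders of `N(P)` and `C(P)` from a complement
`L` of `P` in `N(P)`, and `L` of order 4 is a Sylow 2-subgroup.
-/

namespace Cfsg.Agent.S4016P

/-- Elements of `P ⊔ L` are products when `L` normalises `P`. -/
theorem h3_mem_sup_aux {G : Type*} [Group G] (P L : Subgroup G)
    (hLN : L ≤ Subgroup.normalizer (P : Set G)) :
    ∀ n ∈ P ⊔ L, ∃ a ∈ P, ∃ b ∈ L, n = a * b := by
  let S : Subgroup G :=
    { carrier := {n | ∃ a ∈ P, ∃ b ∈ L, n = a * b}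
      one_mem' := ⟨1, P.one_mem, 1, L.one_mem, by simp⟩
      mul_mem' := by
        rintro _ _ ⟨a, ha, b, hb, rfl⟩ ⟨a', ha', b', hb', rfl⟩
        exact ⟨a * (b * a' * b⁻¹),
          P.mul_mem ha ((Subgroup.mem_normalizer_iff.1 (hLN hb) a').1 ha'), b * b',
          L.mul_mem hb hb', by group⟩
      inv_mem' := by
        rintro _ ⟨a, ha, b, hb, rfl⟩
        refine ⟨b⁻¹ * a⁻¹ * b, ?_, b⁻¹, L.inv_mem hb, by group⟩
        have := (Subgroup.mem_normalizer_iff.1 (hLN (L.inv_mem hb)) a⁻¹).1 (P.inv_mem ha)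
        simpa using this }
  have h1 : P ≤ S := fun x hx => ⟨x, hx, 1, L.one_mem, by simp⟩
  have h2 : L ≤ S := fun x hx => ⟨1, P.one_mem, x, hx, by simp⟩
  exact fun n hn => (sup_le h1 h2) hn

/-- `|P ⊔ L| = |L| * |P|` when `L` normalises `P` and `P ⊓ L = ⊥`. -/
theorem h3_card_sup {G : Type*} [Group G] (P L N : Subgroup G)
    (hLN : L ≤ Subgroup.normalizer (P : Set G)) (hPL : P ⊓ L = ⊥) (hsup : P ⊔ L = N) :
    Nat.card N = Nat.card L * Nat.card P := by
  have hmem : ∀ x : P × L, (x.1 : G) * (x.2 : G) ∈ N := fun x =>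
    hsup ▸ Subgroup.mul_mem _ (Subgroup.mem_sup_left x.1.2) (Subgroup.mem_sup_right x.2.2)
  have hbij : Function.Bijective (fun x : P × L => (⟨(x.1 : G) * (x.2 : G), hmem x⟩ : N)) := by
    constructor
    · rintro ⟨⟨a, ha⟩, ⟨b, hb⟩⟩ ⟨⟨a', ha'⟩, ⟨b', hb'⟩⟩ h
      have h' : a * b = a' * b' := congrArg Subtype.val h
      have h1 : a'⁻¹ * a = b' * b⁻¹ := by
        calc a'⁻¹ * a = a'⁻¹ * (a * b) * b⁻¹ := by group
          _ = a'⁻¹ * (a' * b') * b⁻¹ := by rw [h']
          _ = b' * b⁻¹ := by group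
      have h2 : a'⁻¹ * a ∈ P ⊓ L :=
        ⟨P.mul_mem (P.inv_mem ha') ha, h1 ▸ L.mul_mem hb' (L.inv_mem hb)⟩
      rw [hPL, Subgroup.mem_bot] at h2
      have ha_eq : a = a' := (inv_mul_eq_one.1 h2).symm
      subst ha_eq
      have hb_eq : b = b' := mul_left_cancel h'
      subst hb_eq
      rfl
    · rintro ⟨n, hn⟩
      obtain ⟨a, ha, b, hb, rfl⟩ := h3_mem_sup_aux P L hLN n (hsup ▸ hn)
      exact ⟨(⟨a, ha⟩, ⟨b, hb⟩), rfl⟩
  rw [← Nat.card_congr (Equiv.ofBijective _ hbij), Nat.card_prod, mul_comm]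

/-- (G4c) -/
theorem h3_mem_sup {G : Type*} [Group G] {p : ℕ} (P : Sylow p G) (L : Subgroup G)
    (hsup : (P : Subgroup G) ⊔ L = Subgroup.normalizer ((P : Subgroup G) : Set G)) :
    ∀ n ∈ Subgroup.normalizer ((P : Subgroup G) : Set G),
      ∃ a ∈ (P : Subgroup G), ∃ b ∈ L, n = a * b := by
  intro n hn
  have hLN : L ≤ Subgroup.normalizer ((P : Subgroup G) : Set G) := hsup ▸ le_sup_right
  exact h3_mem_sup_aux (P : Subgroup G) L hLN n (hsup ▸ hn)

/-- (G4a) -/
theorem h3_card_norm {G : Type*} [Group G] {p : ℕ} (P : Sylow p G) (L : Subgroup G)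
    (hPL : (P : Subgroup G) ⊓ L = ⊥)
    (hsup : (P : Subgroup G) ⊔ L = Subgroup.normalizer ((P : Subgroup G) : Set G)) :
    Nat.card (Subgroup.normalizer ((P : Subgroup G) : Set G)) = Nat.card L * Nat.card P := by
  have hLN : L ≤ Subgroup.normalizer ((P : Subgroup G) : Set G) := hsup ▸ le_sup_right
  exact h3_card_sup (P : Subgroup G) L _ hLN hPL hsup

/-- (G4b) -/
theorem h3_card_cent {G : Type*} [Group G] {p : ℕ} (P : Sylow p G) (L : Subgroup G)
    (hPL : (P : Subgroup G) ⊓ L = ⊥)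
    (hsup : (P : Subgroup G) ⊔ L = Subgroup.normalizer ((P : Subgroup G) : Set G))
    (hcyc : IsCyclic P) :
    Nat.card (Subgroup.centralizer ((P : Subgroup G) : Set G)) =
      Nat.card ↥(L ⊓ Subgroup.centralizer ((P : Subgroup G) : Set G)) * Nat.card P := by
  have hLN : L ≤ Subgroup.normalizer ((P : Subgroup G) : Set G) := hsup ▸ le_sup_right
  have hPC : (P : Subgroup G) ≤ Subgroup.centralizer ((P : Subgroup G) : Set G) := by
    intro a ha
    rw [Subgroup.mem_centralizer_iff]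
    intro b hb
    have := mul_comm' (⟨b, hb⟩ : (P : Subgroup G)) ⟨a, ha⟩
    exact congrArg Subtype.val this
  have hCN : Subgroup.centralizer ((P : Subgroup G) : Set G) ≤
      Subgroup.normalizer ((P : Subgroup G) : Set G) := Subgroup.centralizer_le_normalizer _
  refine h3_card_sup (P : Subgroup G) (L ⊓ Subgroup.centralizer ((P : Subgroup G) : Set G)) _
    (le_trans inf_le_left hLN) ?_ ?_
  · rw [← inf_assoc, hPL, bot_inf_eq]
  · apply le_antisymm (sup_le hPC inf_le_right)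
    intro c hc
    obtain ⟨a, ha, b, hb, rfl⟩ := h3_mem_sup P L hsup c (hCN hc)
    refine Subgroup.mul_mem _ (Subgroup.mem_sup_left ha) (Subgroup.mem_sup_right ⟨hb, ?_⟩)
    have : b = a⁻¹ * (a * b) := by group
    rw [this]
    exact Subgroup.mul_mem _ (Subgroup.inv_mem _ (hPC ha)) hc

/-- (G5): a complement `L` of order 4 is a Sylow 2-subgroup. -/
theorem h3_sylow2_eq {G : Type*} [Group G] [Finite G] (P : Sylow 3 G) (L : Subgroup G)
    (hL : Nat.card L = 4)
    (hN : Nat.card (Subgroup.normalizer ((P : Subgroup G) : Set G)) = 4 * Nat.card P)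
    (hab : ∀ H : Subgroup G, ¬ 3 ∣ Nat.card H → IsMulCommutative H) (t : G) (ht : orderOf t = 2)
    (hCt : Subgroup.centralizer ({t} : Set G) ≤ Subgroup.normalizer ((P : Subgroup G) : Set G)) :
    ∃ Q : Sylow 2 G, (Q : Subgroup G) = L := by
  have : Fact (Nat.Prime 2) := ⟨Nat.prime_two⟩
  have : Fact (Nat.Prime 3) := ⟨Nat.prime_three⟩
  have htp : IsPGroup 2 (Subgroup.zpowers t) := by
    apply IsPGroup.of_card (n := 1)
    rw [Nat.card_zpowers, ht, pow_one]
  obtain ⟨Q2, hQ2⟩ := htp.exists_le_sylow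
  have htQ : t ∈ (Q2 : Subgroup G) := hQ2 (Subgroup.mem_zpowers t)
  obtain ⟨k, hk⟩ := IsPGroup.iff_card.1 Q2.isPGroup'
  have h3 : ¬ 3 ∣ Nat.card (Q2 : Subgroup G) := by
    rw [hk]
    intro h
    have := Nat.Prime.dvd_of_dvd_pow Nat.prime_three h
    omega
  have hQc := hab Q2 h3
  have hQN : (Q2 : Subgroup G) ≤ Subgroup.normalizer ((P : Subgroup G) : Set G) := by
    intro y hy
    apply hCt
    rw [Subgroup.mem_centralizer_iff]
    intro z hz
    rw [Set.mem_singleton_iff] at hz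
    subst hz
    have := mul_comm' (⟨z, htQ⟩ : (Q2 : Subgroup G)) ⟨y, hy⟩
    exact congrArg Subtype.val this
  have hdvd : Nat.card (Q2 : Subgroup G) ∣ 4 * Nat.card P := by
    rw [← hN]
    exact Subgroup.card_dvd_of_le hQN
  obtain ⟨m, hm⟩ := IsPGroup.iff_card.1 P.isPGroup'
  have hdvd4 : Nat.card (Q2 : Subgroup G) ∣ 4 := by
    have hcop : Nat.Coprime (Nat.card (Q2 : Subgroup G)) (Nat.card P) := by
      rw [hk, hm]
      exact Nat.Coprime.pow _ _ (by norm_num)
    exact hcop.dvd_of_dvd_mul_right hdvd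
  have h4G : 4 ∣ Nat.card G := hL ▸ Subgroup.card_subgroup_dvd_card L
  have hQ2card : Nat.card (Q2 : Subgroup G) = 2 ^ (Nat.card G).factorization 2 :=
    Q2.card_eq_multiplicity
  have hge : 4 ∣ Nat.card (Q2 : Subgroup G) := by
    rw [hQ2card]
    have h22 : 2 ^ 2 ∣ Nat.card G := by simpa using h4G
    have h2 := (Nat.Prime.pow_dvd_iff_le_factorization Nat.prime_two (Nat.card_pos.ne')).1 h22
    have := pow_dvd_pow 2 h2
    simpa using this
  have hQ4 : Nat.card (Q2 : Subgroup G) = 4 := Nat.dvd_antisymm hdvd4 hge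
  exact ⟨Sylow.ofCard L (by rw [hL, ← hQ4, hQ2card]), rfl⟩

end Cfsg.Agent.S4016P
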