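import Mathlib
import Cfsg.Prelude.Def_LieExceptional
import Cfsg.Prelude.Def_Solvable
import Cfsg.Agent.S0035

set_option autoImplicit false

namespace Cfsg.Agent.Helper3

open Cfsg
open scoped Pointwise

theorem mem_conj_smul_iff {G : Type*} [Group G] (H : Subgroup G) (g x : G) :
    x ∈ MulAut.conj g • H ↔ g⁻¹ * x * g ∈ H := by
  rw [Subgroup.mem_pointwise_smul_iff_inv_smul_mem]
  simp [MulAut.smul_def]

/-- Frobenius kernel for a finite group acting with a "Frobenius" point stabilizer: if no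
non-identity element fixes `b` and another point of its orbit, the stabilizer of `b` is
nontrivial and `b` is moved, then there is a normal subgroup acting regularly on the orbit
of `b`, consisting of the identity and the elements without fixed points on the orbit. -/
theorem frob_kernel {S Δ : Type*} [Group S] [Finite S] [MulAction S Δ] (b : Δ)
    (h1 : ∀ s : S, s ≠ 1 → ∀ g : S, s • b = b → s • (g • b) = g • b → g • b = b)
    (h2 : MulAction.stabilizer S b ≠ ⊥) (h3 : ∃ s : S, s • b ≠ b) :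
    ∃ K : Subgroup S, K.Normal ∧ (∀ k ∈ K, k ≠ 1 → ∀ g : S, k • (g • b) ≠ g • b) ∧
      (∀ g : S, ∃ k ∈ K, k • b = g • b) ∧
      (∀ s : S, (∀ g : S, s • (g • b) ≠ g • b) → s ∈ K) := by
  have hH : IsFrobeniusComplement (MulAction.stabilizer S b) := by
    refine ⟨h2, ?_, ?_⟩
    · intro htop
      obtain ⟨s, hs⟩ := h3
      have : s ∈ MulAction.stabilizer S b := htop ▸ Subgroup.mem_top s
      exact hs this
    · intro g hg
      rw [eq_bot_iff]
      rintro x ⟨hx1, hx2⟩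
      rw [Subgroup.mem_bot]
      by_contra hx
      apply hg
      have hx2' : g⁻¹ * x * g ∈ MulAction.stabilizer S b := (mem_conj_smul_iff _ g x).mp hx2
      have hx1' : x • b = b := hx1
      rw [MulAction.mem_stabilizer_iff] at hx2' ⊢
      apply h1 x hx g hx1'
      have := congrArg (fun y => g • y) hx2'
      simpa [mul_smul] using this
  obtain ⟨K, hKset, hKn, hKc⟩ := Cfsg.Agent.S0035.result _ hH
  have hmemK : ∀ x : S, x ∈ K ↔
      (x = 1 ∨ ∀ g : S, x ∉ MulAut.conj g • MulAction.stabilizer S b) := by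
    intro x
    rw [← SetLike.mem_coe, hKset]
    rfl
  refine ⟨K, hKn, ?_, ?_, ?_⟩
  · intro k hk hk1 g hfix
    rcases (hmemK k).mp hk with h | h
    · exact hk1 h
    · apply h g
      rw [mem_conj_smul_iff, MulAction.mem_stabilizer_iff]
      simp [mul_smul, hfix]
  · intro g
    obtain ⟨⟨⟨k, hk⟩, ⟨h, hh⟩⟩, hkh⟩ := hKc.2 g
    refine ⟨k, hk, ?_⟩
    have hkh' : k * h = g := hkh
    have hh' : h • b = b := hh
    rw [← hkh', mul_smul, hh']
  · intro s hs
    rw [hmemK]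
    right
    intro g hmem
    rw [mem_conj_smul_iff, MulAction.mem_stabilizer_iff] at hmem
    apply hs g
    have := congrArg (fun y => g • y) hmem
    simpa [mul_smul] using this

/-- The data of a Zassenhaus group, unpacked in elementary terms. -/
structure ZData (G Ω : Type*) [Group G] [MulAction G Ω] : Prop where
  faithful : ∀ g : G, (∀ x : Ω, g • x = x) → g = 1
  two : ∀ {a b c d : Ω}, a ≠ b → c ≠ d → ∃ g : G, g • a = c ∧ g • b = d
  three : ∀ g : G, ∀ a b c : Ω, a ≠ b → b ≠ c → a ≠ c → g • a = a → g • b = b → g • c = c → g = 1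
  fix2 : ∃ g : G, g ≠ 1 ∧ ∃ a b : Ω, a ≠ b ∧ g • a = a ∧ g • b = b
  noreg : ∀ N : Subgroup G, N.Normal → (∀ u v : Ω, ∃ n ∈ N, n • u = v) →
    ∃ n ∈ N, n ≠ 1 ∧ ∃ a : Ω, n • a = a

theorem zdata_of {G Ω : Type*} [Group G] [MulAction G Ω] (hZ : IsZassenhausGroup G Ω) :
    ZData G Ω := by
  obtain ⟨hf, h2, h3, h4, h5⟩ := hZ
  refine ⟨?_, ?_, h3, h4, ?_⟩
  · intro g hg
    exact hf.eq_of_smul_eq_smul (fun a : Ω => by rw [hg a, one_smul])
  · intro a b c d hab hcd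
    exact MulAction.is_two_pretransitive_iff.mp h2 hab hcd
  · intro N hN hT
    haveI : MulAction.IsPretransitive N Ω :=
      ⟨fun u v => let ⟨n, hn, h⟩ := hT u v; ⟨⟨n, hn⟩, h⟩⟩
    obtain ⟨a, ha⟩ := h5 N hN inferInstance
    obtain ⟨⟨⟨n, hn⟩, hfix⟩, hne⟩ := (Subgroup.ne_bot_iff_exists_ne_one).mp ha
    refine ⟨n, hn, ?_, a, hfix⟩
    rintro rfl
    exact hne rfl

/-- `K` is the Frobenius kernel of the stabilizer of `a`. -/
def IsKer (G : Type*) {Ω : Type*} [Group G] [MulAction G Ω] (a : Ω) (K : Subgroup G) : Prop :=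
  (∀ k ∈ K, k • a = a) ∧ (∀ g : G, g • a = a → ∀ k ∈ K, g * k * g⁻¹ ∈ K) ∧
  (∀ k ∈ K, k ≠ 1 → ∀ c, c ≠ a → k • c ≠ c) ∧ (∀ c d, c ≠ a → d ≠ a → ∃ k ∈ K, k • c = d) ∧
  (∀ s : G, s • a = a → (∀ c, c ≠ a → s • c ≠ c) → s ∈ K)

namespace ZData

variable {G Ω : Type*} [Group G] [MulAction G Ω]

theorem finite [Finite Ω] (Z : ZData G Ω) : Finite G := by
  apply Finite.of_injective (fun g : G => (MulAction.toPerm g : Equiv.Perm Ω))
  intro g h hgh
  have : ∀ x : Ω, (g⁻¹ * h) • x = x := by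
    intro x
    have := congrArg (fun σ : Equiv.Perm Ω => σ x) hgh
    simp only [MulAction.toPerm_apply] at this
    rw [mul_smul, ← this, inv_smul_smul]
  exact inv_mul_eq_one.mp (Z.faithful _ this)

theorem exists_three (Z : ZData G Ω) (a b : Ω) (hab : a ≠ b) : ∃ c, c ≠ a ∧ c ≠ b := by
  obtain ⟨g0, hg0, a0, b0, hab0, ha0, hb0⟩ := Z.fix2
  have : ∃ c0 : Ω, g0 • c0 ≠ c0 := by
    by_contra h
    simp only [not_exists, not_not] at h
    exact hg0 (Z.faithful g0 h)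
  obtain ⟨c0, hc0⟩ := this
  have hca : c0 ≠ a0 := fun h => hc0 (h ▸ ha0)
  have hcb : c0 ≠ b0 := fun h => hc0 (h ▸ hb0)
  obtain ⟨t, hta, htb⟩ := Z.two hab0 hab
  refine ⟨t • c0, ?_, ?_⟩
  · rw [← hta]; exact fun h => hca (smul_left_cancel t h)
  · rw [← htb]; exact fun h => hcb (smul_left_cancel t h)

theorem exists_ne (Z : ZData G Ω) (a : Ω) : ∃ b, b ≠ a := by
  obtain ⟨g0, hg0, a0, b0, hab0, ha0, hb0⟩ := Z.fix2
  by_cases h : a0 = a
  · exact ⟨b0, fun hb => hab0 (h.trans hb.symm)⟩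
  · exact ⟨a0, h⟩

theorem exists_fix2 (Z : ZData G Ω) (a b : Ω) (hab : a ≠ b) :
    ∃ x : G, x ≠ 1 ∧ x • a = a ∧ x • b = b := by
  obtain ⟨g0, hg0, a0, b0, hab0, ha0, hb0⟩ := Z.fix2
  obtain ⟨t, hta, htb⟩ := Z.two hab0 hab
  refine ⟨t * g0 * t⁻¹, ?_, ?_, ?_⟩
  · intro h
    apply hg0
    have : g0 = t⁻¹ * (t * g0 * t⁻¹) * t := by group
    rw [this, h]; group
  · rw [mul_smul, mul_smul, ← hta, inv_smul_smul, ha0]
  · rw [mul_smul, mul_smul, ← htb, inv_smul_smul, hb0]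

theorem exists_ker [Finite Ω] (Z : ZData G Ω) (a : Ω) : ∃ K : Subgroup G, IsKer G a K := by
  have := Z.finite
  obtain ⟨b, hb⟩ := Z.exists_ne a
  obtain ⟨c, hca, hcb⟩ := Z.exists_three a b (Ne.symm hb)
  have horb : ∀ d, d ≠ a → ∃ g : MulAction.stabilizer G a, g • b = d := by
    intro d hd
    obtain ⟨g, hga, hgb⟩ := Z.two (Ne.symm hb) (Ne.symm hd)
    exact ⟨⟨g, hga⟩, hgb⟩
  have hne : ∀ g : MulAction.stabilizer G a, g • b ≠ a := by
    intro g h
    have hg : (g : G) • a = a := g.2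
    have : (g : G) • b = (g : G) • a := by rw [hg]; exact h
    exact hb (smul_left_cancel _ this)
  have c1 : ∀ s : MulAction.stabilizer G a, s ≠ 1 → ∀ g : MulAction.stabilizer G a,
      s • b = b → s • (g • b) = g • b → g • b = b := by
    intro s hs g hsb hsg
    by_contra hgb
    apply hs
    have := Z.three (s : G) a b (g • b) (Ne.symm hb) (Ne.symm hgb) (Ne.symm (hne g)) s.2 hsb hsg
    exact Subtype.ext this
  have c2 : MulAction.stabilizer (MulAction.stabilizer G a) b ≠ ⊥ := by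
    obtain ⟨x, hx1, hxa, hxb⟩ := Z.exists_fix2 a b (Ne.symm hb)
    intro hbot
    have : (⟨x, hxa⟩ : MulAction.stabilizer G a) ∈
        MulAction.stabilizer (MulAction.stabilizer G a) b := hxb
    rw [hbot, Subgroup.mem_bot] at this
    exact hx1 (congrArg Subtype.val this)
  have c3 : ∃ s : MulAction.stabilizer G a, s • b ≠ b := by
    obtain ⟨g, hg⟩ := horb c hca
    exact ⟨g, by rw [hg]; exact hcb⟩
  obtain ⟨K0, hK0n, hK1, hK2, hK3⟩ :=
    frob_kernel (S := MulAction.stabilizer G a) (Δ := Ω) b c1 c2 c3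
  refine ⟨K0.map (MulAction.stabilizer G a).subtype, ?_, ?_, ?_, ?_, ?_⟩
  · rintro k ⟨k0, hk0, rfl⟩
    exact k0.2
  · rintro g hg k ⟨k0, hk0, rfl⟩
    exact ⟨(⟨g, hg⟩ : MulAction.stabilizer G a) * k0 * (⟨g, hg⟩ : MulAction.stabilizer G a)⁻¹,
      hK0n.conj_mem k0 hk0 _, rfl⟩
  · rintro k ⟨k0, hk0, rfl⟩ hk1 d hd
    obtain ⟨g, rfl⟩ := horb d hd
    have hk01 : k0 ≠ 1 := by rintro rfl; exact hk1 rfl
    exact hK1 k0 hk0 hk01 g
  · intro d e hd he
    obtain ⟨g1, rfl⟩ := horb d hd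
    obtain ⟨g2, rfl⟩ := horb e he
    obtain ⟨k1, hk1, h1⟩ := hK2 g1
    obtain ⟨k2, hk2, h2⟩ := hK2 g2
    refine ⟨((k2 * k1⁻¹ : MulAction.stabilizer G a) : G),
      ⟨k2 * k1⁻¹, K0.mul_mem hk2 (K0.inv_mem hk1), rfl⟩, ?_⟩
    show (k2 * k1⁻¹) • (g1 • b) = g2 • b
    rw [← h1, ← h2, mul_smul, inv_smul_smul]
  · intro s hs hfree
    refine ⟨⟨s, hs⟩, hK3 _ ?_, rfl⟩
    intro g
    exact hfree _ (hne g)

theorem normal_trans (Z : ZData G Ω) (N : Subgroup G) [hNn : N.Normal] (hN : N ≠ ⊥) (u v : Ω) :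
    ∃ n ∈ N, n • u = v := by
  by_cases huv : u = v
  · exact ⟨1, N.one_mem, by rw [one_smul, huv]⟩
  obtain ⟨⟨n, hn⟩, hn1⟩ := (Subgroup.ne_bot_iff_exists_ne_one).mp hN
  have hn1' : n ≠ 1 := fun h => hn1 (Subtype.ext h)
  have : ∃ c : Ω, n • c ≠ c := by
    by_contra h
    simp only [not_exists, not_not] at h
    exact hn1' (Z.faithful n h)
  obtain ⟨c, hc⟩ := this
  obtain ⟨g, hg1, hg2⟩ := Z.two (Ne.symm hc) huv
  exact ⟨g * n * g⁻¹, hNn.conj_mem n hn g, by rw [mul_smul, mul_smul, ← hg1, inv_smul_smul, hg2]⟩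

theorem normal_fix2 [Finite Ω] (Z : ZData G Ω) (N : Subgroup G) [hNn : N.Normal] (hN : N ≠ ⊥) :
    ∃ x ∈ N, x ≠ 1 ∧ ∃ a b : Ω, a ≠ b ∧ x • a = a ∧ x • b = b := by
  have := Z.finite
  by_contra hcon
  have hB : ∀ x ∈ N, x ≠ 1 → ∀ a b : Ω, x • a = a → x • b = b → a = b := by
    intro x hx hx1 a b ha hb
    by_contra hab
    exact hcon ⟨x, hx, hx1, a, b, hab, ha, hb⟩
  have hT := Z.normal_trans N hN
  obtain ⟨x, hxN, hx1, a, hxa⟩ := Z.noreg N inferInstance hT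
  obtain ⟨b, hb⟩ := Z.exists_ne a
  have horb : ∀ d : Ω, ∃ g : N, g • a = d := fun d => let ⟨n, hn, h⟩ := hT a d; ⟨⟨n, hn⟩, h⟩
  have c1 : ∀ s : N, s ≠ 1 → ∀ g : N, s • a = a → s • (g • a) = g • a → g • a = a := by
    intro s hs g hsa hsg
    have hs' : (s : G) ≠ 1 := fun h => hs (Subtype.ext h)
    exact (hB s s.2 hs' a (g • a) hsa hsg).symm
  have c2 : MulAction.stabilizer N a ≠ ⊥ := by
    intro hbot
    have : (⟨x, hxN⟩ : N) ∈ MulAction.stabilizer N a := hxa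
    rw [hbot, Subgroup.mem_bot] at this
    exact hx1 (congrArg Subtype.val this)
  have c3 : ∃ s : N, s • a ≠ a := by
    obtain ⟨n, hn, h⟩ := hT a b
    refine ⟨⟨n, hn⟩, ?_⟩
    show n • a ≠ a
    rw [h]; exact hb
  obtain ⟨M0, hM0n, hM1, hM2, hM3⟩ := frob_kernel (S := N) (Δ := Ω) a c1 c2 c3
  have hMnormal : (M0.map N.subtype).Normal := by
    constructor
    rintro m ⟨m0, hm0, rfl⟩ g
    by_cases hm1 : m0 = 1
    · subst hm1
      simp
    · have hmem : g * (m0 : G) * g⁻¹ ∈ N := hNn.conj_mem _ m0.2 g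
      refine ⟨⟨_, hmem⟩, hM3 _ ?_, rfl⟩
      intro g' hfix
      obtain ⟨g'', hg''⟩ := horb (g⁻¹ • ((g' : G) • a))
      apply hM1 m0 hm0 hm1 g''
      rw [hg'']
      have hfix' : (g * (m0 : G) * g⁻¹) • ((g' : G) • a) = (g' : G) • a := hfix
      show (m0 : G) • (g⁻¹ • ((g' : G) • a)) = g⁻¹ • ((g' : G) • a)
      rw [mul_smul, mul_smul] at hfix'
      have := congrArg (fun y => g⁻¹ • y) hfix'
      simpa [inv_smul_smul] using this
  have hMt : ∀ u v : Ω, ∃ n ∈ M0.map N.subtype, n • u = v := by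
    intro u v
    obtain ⟨g1, hg1⟩ := horb u
    obtain ⟨g2, hg2⟩ := horb v
    obtain ⟨k1, hk1, h1⟩ := hM2 g1
    obtain ⟨k2, hk2, h2⟩ := hM2 g2
    refine ⟨((k2 * k1⁻¹ : N) : G), ⟨k2 * k1⁻¹, M0.mul_mem hk2 (M0.inv_mem hk1), rfl⟩, ?_⟩
    show (k2 * k1⁻¹) • u = v
    rw [← hg1, ← hg2, ← h1, ← h2, mul_smul, inv_smul_smul]
  obtain ⟨y, hyM, hy1, c, hyc⟩ := Z.noreg (M0.map N.subtype) hMnormal hMt
  obtain ⟨y0, hy0, rfl⟩ := hyM
  obtain ⟨g, hg⟩ := horb c
  have : y0 ≠ 1 := by rintro rfl; exact hy1 rfl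
  exact hM1 y0 hy0 this g (by rw [hg]; exact hyc)

theorem ker_le [Finite Ω] (Z : ZData G Ω) (N : Subgroup G) [hNn : N.Normal] (hN : N ≠ ⊥) (a : Ω)
    (K : Subgroup G) (hK : IsKer G a K) : K ≤ N := by
  have := Z.finite
  obtain ⟨hK1, hK2, hK3, hK4, hK5⟩ := hK
  obtain ⟨x0, hx0N, hx01, a0, b0, hab0, hxa0, hxb0⟩ := Z.normal_fix2 N hN
  obtain ⟨b, hb⟩ := Z.exists_ne a
  obtain ⟨t, hta, htb⟩ := Z.two hab0 (Ne.symm hb)
  obtain ⟨x, hx⟩ : ∃ x, x = t * x0 * t⁻¹ := ⟨_, rfl⟩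
  have hxN : x ∈ N := by rw [hx]; exact hNn.conj_mem _ hx0N t
  have hx1 : x ≠ 1 := by
    intro h
    apply hx01
    have : x0 = t⁻¹ * x * t := by rw [hx]; group
    rw [this, h]; group
  have hxa : x • a = a := by rw [hx, mul_smul, mul_smul, ← hta, inv_smul_smul, hxa0]
  have hxb : x • b = b := by rw [hx, mul_smul, mul_smul, ← htb, inv_smul_smul, hxb0]
  have hxinva : x⁻¹ • a = a := by rw [inv_smul_eq_iff, hxa]
  let ψ : K → K := fun k => ⟨x⁻¹ * (k : G)⁻¹ * x * k, by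
    have h1 : x⁻¹ * (k : G)⁻¹ * x⁻¹⁻¹ ∈ K := hK2 x⁻¹ hxinva _ (K.inv_mem k.2)
    rw [inv_inv] at h1
    exact K.mul_mem h1 k.2⟩
  have hinj : Function.Injective ψ := by
    intro k k' h
    have h' : x⁻¹ * (k : G)⁻¹ * x * k = x⁻¹ * (k' : G)⁻¹ * x * k' := congrArg Subtype.val h
    have h2 : (k : G)⁻¹ * x * k = (k' : G)⁻¹ * x * k' := by
      calc (k : G)⁻¹ * x * k = x * (x⁻¹ * (k : G)⁻¹ * x * k) := by group
        _ = x * (x⁻¹ * (k' : G)⁻¹ * x * k') := by rw [h']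
        _ = (k' : G)⁻¹ * x * k' := by group
    have hcomm : x * ((k : G) * (k' : G)⁻¹) = ((k : G) * (k' : G)⁻¹) * x := by
      calc x * ((k : G) * (k' : G)⁻¹) = (k : G) * ((k : G)⁻¹ * x * k) * (k' : G)⁻¹ := by group
        _ = (k : G) * ((k' : G)⁻¹ * x * k') * (k' : G)⁻¹ := by rw [h2]
        _ = ((k : G) * (k' : G)⁻¹) * x := by group
    have hj : (k : G) * (k' : G)⁻¹ ∈ K := K.mul_mem k.2 (K.inv_mem k'.2)
    have hj1 : (k : G) * (k' : G)⁻¹ = 1 := by
      by_contra hne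
      have hjb := hK3 _ hj hne b hb
      have hfix : x • (((k : G) * (k' : G)⁻¹) • b) = ((k : G) * (k' : G)⁻¹) • b := by
        rw [← mul_smul, hcomm, mul_smul, hxb]
      have hja : ((k : G) * (k' : G)⁻¹) • b ≠ a := by
        intro h
        have h3 := hK1 _ hj
        rw [← h3] at h
        exact hb (smul_left_cancel _ h)
      exact hx1 (Z.three x a b _ (Ne.symm hb) (Ne.symm hjb) (Ne.symm hja) hxa hxb hfix)
    exact Subtype.ext (mul_inv_eq_one.mp hj1)
  have hsurj : Function.Surjective ψ := Finite.surjective_of_injective hinj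
  intro k hk
  obtain ⟨k', hk'⟩ := hsurj ⟨k, hk⟩
  have e : x⁻¹ * (k' : G)⁻¹ * x * k' = k := congrArg Subtype.val hk'
  rw [← e]
  have h1 : (k' : G)⁻¹ * x * (k' : G)⁻¹⁻¹ ∈ N := hNn.conj_mem _ hxN _
  rw [inv_inv] at h1
  have e2 : x⁻¹ * (k' : G)⁻¹ * x * k' = x⁻¹ * ((k' : G)⁻¹ * x * k') := by group
  rw [e2]
  exact N.mul_mem (N.inv_mem hxN) h1

theorem normal_two [Finite Ω] (Z : ZData G Ω) (N : Subgroup G) [N.Normal] (hN : N ≠ ⊥)
    {u v u' v' : Ω} (huv : u ≠ v) (huv' : u' ≠ v') : ∃ n ∈ N, n • u = u' ∧ n • v = v' := by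
  obtain ⟨n1, hn1, h1⟩ := Z.normal_trans N hN u u'
  obtain ⟨K, hK⟩ := Z.exists_ker u'
  have hKN := Z.ker_le N hN u' K hK
  obtain ⟨hK1, hK2, hK3, hK4, hK5⟩ := hK
  have hne : n1 • v ≠ u' := by
    rw [← h1]
    exact fun h => huv (smul_left_cancel _ h).symm
  obtain ⟨k, hk, hkv⟩ := hK4 (n1 • v) v' hne (Ne.symm huv')
  exact ⟨k * n1, N.mul_mem (hKN hk) hn1, by rw [mul_smul, h1, hK1 k hk], by rw [mul_smul, hkv]⟩

/-- Two regular subgroups of `N`, both normalized by `N`: one is contained in the other. -/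
theorem regular_le [Finite Ω] (Z : ZData G Ω) (N : Subgroup G) [N.Normal] (hN : N ≠ ⊥)
    (M W : Subgroup G) (hMN : M ≤ N) (hWN : W ≤ N)
    (hMn : ∀ n ∈ N, ∀ m ∈ M, n * m * n⁻¹ ∈ M) (hWn : ∀ n ∈ N, ∀ m ∈ W, n * m * n⁻¹ ∈ W)
    (hMt : ∀ u v : Ω, ∃ m ∈ M, m • u = v) (hWt : ∀ u v : Ω, ∃ m ∈ W, m • u = v)
    (hMf : ∀ m ∈ M, ∀ c : Ω, m • c = c → m = 1) (hWf : ∀ m ∈ W, ∀ c : Ω, m • c = c → m = 1) :
    W ≤ M := by
  obtain ⟨g0, hg0, a, b0, hab0, ha0, hb0⟩ := Z.fix2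
  obtain ⟨K, hK⟩ := Z.exists_ker a
  have hKN := Z.ker_le N hN a K hK
  obtain ⟨hK1, hK2, hK3, hK4, hK5⟩ := hK
  by_cases hL : ∃ l ∈ M, l ∈ W ∧ l ≠ 1
  · obtain ⟨l, hlM, hlW, hl1⟩ := hL
    intro w hw
    by_cases hw1 : w = 1
    · rw [hw1]; exact M.one_mem
    have hla : l • a ≠ a := fun h => hl1 (hMf l hlM a h)
    have hwa : w • a ≠ a := fun h => hw1 (hWf w hw a h)
    obtain ⟨k, hk, hkl⟩ := hK4 (l • a) (w • a) hla hwa
    have hkinv : k⁻¹ • a = a := by rw [inv_smul_eq_iff, hK1 k hk]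
    have h1 : (k * l * k⁻¹) • a = w • a := by rw [mul_smul, mul_smul, hkinv, hkl]
    have h2 : k * l * k⁻¹ ∈ W := hWn k (hKN hk) l hlW
    have h3 : w⁻¹ * (k * l * k⁻¹) = 1 := by
      apply hWf _ (W.mul_mem (W.inv_mem hw) h2) a
      rw [mul_smul, h1, inv_smul_smul]
    have h4 : w = k * l * k⁻¹ := inv_mul_eq_one.mp h3
    rw [h4]; exact hMn k (hKN hk) l hlM
  · have hcomm : ∀ m ∈ M, ∀ w ∈ W, m * w = w * m := by
      intro m hm w hw
      have h1 : m * w * m⁻¹ * w⁻¹ ∈ M := by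
        have h0 : w * m⁻¹ * w⁻¹ ∈ M := hMn w (hWN hw) _ (M.inv_mem hm)
        have h := M.mul_mem hm h0
        have e : m * (w * m⁻¹ * w⁻¹) = m * w * m⁻¹ * w⁻¹ := by group
        rwa [e] at h
      have h2 : m * w * m⁻¹ * w⁻¹ ∈ W := by
        have h0 : m * w * m⁻¹ ∈ W := hWn m (hMN hm) _ hw
        exact W.mul_mem h0 (W.inv_mem hw)
      have h3 : m * w * m⁻¹ * w⁻¹ = 1 := by
        by_contra hne
        exact hL ⟨_, h1, h2, hne⟩
      calc m * w = (m * w * m⁻¹ * w⁻¹) * (w * m) := by group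
        _ = w * m := by rw [h3, one_mul]
    have key : ∀ w ∈ W, w ≠ 1 → ∀ m ∈ M, m • a = w • a → m * m = 1 := by
      intro w hw hw1 m hm hmw
      have hm1 : m ≠ 1 := by
        rintro rfl
        rw [one_smul] at hmw
        exact hw1 (hWf w hw a hmw.symm)
      have hy1 : m⁻¹ * w ≠ 1 := by
        intro h
        have hwm : w = m := by
          calc w = m * (m⁻¹ * w) := by group
            _ = m := by rw [h, mul_one]
        exact hL ⟨m, hm, hwm ▸ hw, hm1⟩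
      have hya : (m⁻¹ * w) • a = a := by rw [mul_smul, ← hmw, inv_smul_smul]
      have hym : (m⁻¹ * w) * m = m * (m⁻¹ * w) := by
        calc (m⁻¹ * w) * m = m⁻¹ * (w * m) := by group
          _ = m⁻¹ * (m * w) := by rw [hcomm m hm w hw]
          _ = m * (m⁻¹ * w) := by group
      have hy2 : (m⁻¹ * w) • (m • a) = m • a := by rw [← mul_smul, hym, mul_smul, hya]
      have hymm : (m⁻¹ * w) * (m * m) = (m * m) * (m⁻¹ * w) := by
        calc (m⁻¹ * w) * (m * m) = ((m⁻¹ * w) * m) * m := by group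
          _ = (m * (m⁻¹ * w)) * m := by rw [hym]
          _ = m * ((m⁻¹ * w) * m) := by group
          _ = m * (m * (m⁻¹ * w)) := by rw [hym]
          _ = (m * m) * (m⁻¹ * w) := by group
      have hy3 : (m⁻¹ * w) • ((m * m) • a) = (m * m) • a := by
        rw [← mul_smul, hymm, mul_smul, hya]
      by_contra hmm
      have hma : m • a ≠ a := fun h => hm1 (hMf m hm a h)
      have hmma : (m * m) • a ≠ a := fun h => hmm (hMf _ (M.mul_mem hm hm) a h)
      have hmm2 : (m * m) • a ≠ m • a := by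
        intro h
        rw [mul_smul] at h
        exact hma (smul_left_cancel _ h)
      exact hy1 (Z.three _ a (m • a) ((m * m) • a) (Ne.symm hma) (Ne.symm hmm2) (Ne.symm hmma)
        hya hy2 hy3)
    have hsq : ∀ m ∈ M, m * m = 1 := by
      intro m hm
      obtain ⟨w, hw, hwa⟩ := hWt a (m • a)
      by_cases hw1 : w = 1
      · rw [hw1, one_smul] at hwa
        have := hMf m hm a hwa.symm
        rw [this, one_mul]
      · exact key w hw hw1 m hm hwa.symm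
    have hab : ∀ m ∈ M, ∀ m' ∈ M, m * m' = m' * m := by
      intro m hm m' hm'
      have h1 := hsq m hm
      have h2 := hsq m' hm'
      have h3 := hsq (m * m') (M.mul_mem hm hm')
      have e : m * ((m * m') * (m * m')) * m' = (m * m) * (m' * m) * (m' * m') := by group
      rw [h3, h1, h2] at e
      simpa using e
    intro w hw
    by_contra hwM
    obtain ⟨m, hm, hmw⟩ := hMt a (w • a)
    have hy1 : m⁻¹ * w ≠ 1 := by
      intro h
      have hwm : w = m := by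
        calc w = m * (m⁻¹ * w) := by group
          _ = m := by rw [h, mul_one]
      exact hwM (hwm ▸ hm)
    apply hy1
    apply Z.faithful
    intro u
    obtain ⟨m', hm', rfl⟩ := hMt a u
    have hya : (m⁻¹ * w) • a = a := by rw [mul_smul, ← hmw, inv_smul_smul]
    have hc : (m⁻¹ * w) * m' = m' * (m⁻¹ * w) := by
      calc (m⁻¹ * w) * m' = m⁻¹ * (w * m') := by group
        _ = m⁻¹ * (m' * w) := by rw [hcomm m' hm' w hw]
        _ = (m⁻¹ * m') * w := by group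
        _ = (m' * m⁻¹) * w := by rw [hab m⁻¹ (M.inv_mem hm) m' hm']
        _ = m' * (m⁻¹ * w) := by group
    rw [← mul_smul, hc, mul_smul, hya]

/-- A regular subgroup of `N` normalized by `N` is normal in `G`: impossible. -/
theorem no_regular [Finite Ω] (Z : ZData G Ω) (N : Subgroup G) [hNn : N.Normal] (hN : N ≠ ⊥)
    (M : Subgroup G) (hMN : M ≤ N) (hMn : ∀ n ∈ N, ∀ m ∈ M, n * m * n⁻¹ ∈ M)
    (hMt : ∀ u v : Ω, ∃ m ∈ M, m • u = v) (hMf : ∀ m ∈ M, ∀ c : Ω, m • c = c → m = 1) :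
    False := by
  have hnorm : M.Normal := by
    constructor
    intro m hm g
    have hW : M.map (MulAut.conj g).toMonoidHom ≤ M := by
      apply Z.regular_le N hN M _ hMN ?_ hMn ?_ hMt ?_ hMf ?_
      · rintro _ ⟨m, hm, rfl⟩
        exact hNn.conj_mem m (hMN hm) g
      · rintro n hn _ ⟨m, hm, rfl⟩
        have hn' : g⁻¹ * n * g⁻¹⁻¹ ∈ N := hNn.conj_mem n hn g⁻¹
        rw [inv_inv] at hn'
        refine ⟨(g⁻¹ * n * g) * m * (g⁻¹ * n * g)⁻¹, hMn _ hn' m hm, ?_⟩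
        show g * ((g⁻¹ * n * g) * m * (g⁻¹ * n * g)⁻¹) * g⁻¹ = n * (g * m * g⁻¹) * n⁻¹
        group
      · intro u v
        obtain ⟨m, hm, h⟩ := hMt (g⁻¹ • u) (g⁻¹ • v)
        refine ⟨g * m * g⁻¹, ⟨m, hm, rfl⟩, ?_⟩
        rw [mul_smul, mul_smul, h, smul_inv_smul]
      · rintro _ ⟨m, hm, rfl⟩ c hc
        have hc' : (g * m * g⁻¹) • c = c := hc
        have h1 : m • (g⁻¹ • c) = g⁻¹ • c := by
          rw [mul_smul, mul_smul] at hc'
          have := congrArg (fun y => g⁻¹ • y) hc'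
          simpa [inv_smul_smul] using this
        have h2 := hMf m hm _ h1
        show g * m * g⁻¹ = 1
        rw [h2]; group
    exact hW ⟨m, hm, rfl⟩
  obtain ⟨y, hy, hy1, c, hyc⟩ := Z.noreg M hnorm hMt
  exact hy1 (hMf y hy c hyc)

theorem invol_fix [Fintype Ω] (Z : ZData G Ω) (hodd : Odd (Fintype.card Ω)) (u : G)
    (hu1 : u ≠ 1) (hu2 : u * u = 1) :
    (∃ c : Ω, u • c = c) ∧ ∀ c c' : Ω, u • c = c → u • c' = c' → c = c' := by
  classical
  have hσ : (MulAction.toPerm u : Equiv.Perm Ω) ^ 2 ^ 1 = 1 := by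
    ext x
    simp [pow_succ, ← mul_smul, hu2]
  have hmod := Equiv.Perm.card_compl_support_modEq (p := 2) (n := 1) hσ
  have hoddfix : Odd (MulAction.toPerm u : Equiv.Perm Ω).supportᶜ.card := by
    rw [Nat.odd_iff] at hodd ⊢
    rw [hmod]; exact hodd
  have hmem : ∀ c : Ω, c ∈ (MulAction.toPerm u : Equiv.Perm Ω).supportᶜ ↔ u • c = c := by
    intro c
    simp [Equiv.Perm.mem_support]
  constructor
  · have hne : (MulAction.toPerm u : Equiv.Perm Ω).supportᶜ.Nonempty := by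
      rw [Finset.nonempty_iff_ne_empty]
      intro h
      rw [h] at hoddfix
      simp at hoddfix
    obtain ⟨c, hc⟩ := hne
    exact ⟨c, (hmem c).mp hc⟩
  · intro c c' hc hc'
    by_contra hne
    have hsub : ({c, c'} : Finset Ω) ⊆ (MulAction.toPerm u : Equiv.Perm Ω).supportᶜ := by
      intro x hx
      rw [Finset.mem_insert, Finset.mem_singleton] at hx
      rcases hx with rfl | rfl
      · exact (hmem _).mpr hc
      · exact (hmem _).mpr hc'
    have hcard2 : ({c, c'} : Finset Ω).card = 2 := Finset.card_pair hne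
    have hlt : ({c, c'} : Finset Ω).card < (MulAction.toPerm u : Equiv.Perm Ω).supportᶜ.card := by
      have := Finset.card_le_card hsub
      rcases hoddfix with ⟨k, hk⟩
      omega
    obtain ⟨d, hd, hdn⟩ := Finset.exists_mem_notMem_of_card_lt_card hlt
    rw [Finset.mem_insert, Finset.mem_singleton, not_or] at hdn
    exact hu1 (Z.three u c c' d hne (Ne.symm hdn.2) (Ne.symm hdn.1) hc hc' ((hmem d).mp hd))

theorem normal_eq_top_of_odd [Fintype Ω] (Z : ZData G Ω) (hodd : Odd (Fintype.card Ω))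
    (N : Subgroup G) [hNn : N.Normal] (hN : N ≠ ⊥) : N = ⊤ := by
  classical
  have := Z.finite
  obtain ⟨g0, hg0, a, b, hab, ha0, hb0⟩ := Z.fix2
  obtain ⟨s, hsN, hsa, hsb⟩ := Z.normal_two N hN hab (Ne.symm hab)
  have hssa : (s * s) • a = a := by rw [mul_smul, hsa, hsb]
  have hssb : (s * s) • b = b := by rw [mul_smul, hsb, hsa]
  have hpa : ∀ j : ℕ, ((s * s) ^ j) • a = a := fun j =>
    MulAction.mem_stabilizer_iff.mp
      ((MulAction.stabilizer G a).pow_mem (MulAction.mem_stabilizer_iff.mpr hssa) j)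
  have hpb : ∀ j : ℕ, ((s * s) ^ j) • b = b := fun j =>
    MulAction.mem_stabilizer_iff.mp
      ((MulAction.stabilizer G b).pow_mem (MulAction.mem_stabilizer_iff.mpr hssb) j)
  have hordodd : Odd (orderOf (s * s)) := by
    by_contra hev
    rw [Nat.not_odd_iff_even] at hev
    obtain ⟨j, hj⟩ := hev
    have hpos : 0 < orderOf (s * s) := orderOf_pos _
    have hj0 : 0 < j := by omega
    have hu2 : (s * s) ^ j * (s * s) ^ j = 1 := by rw [← pow_add, ← hj, pow_orderOf_eq_one]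
    have hu1 : (s * s) ^ j ≠ 1 := pow_ne_one_of_lt_orderOf hj0.ne' (by omega)
    exact hab ((Z.invol_fix hodd _ hu1 hu2).2 a b (hpa j) (hpb j))
  obtain ⟨r, hr⟩ := hordodd
  obtain ⟨t, ht⟩ : ∃ t, t = s ^ (2 * r + 1) := ⟨_, rfl⟩
  have htN : t ∈ N := by rw [ht]; exact N.pow_mem hsN _
  have ht2 : t * t = 1 := by
    rw [ht, ← pow_add, show 2 * r + 1 + (2 * r + 1) = 2 * (2 * r + 1) by ring, pow_mul, pow_two,
      ← hr, pow_orderOf_eq_one]
  have hpowa : (s ^ (2 * r)) • a = a := by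
    rw [pow_mul, pow_two]; exact hpa r
  have hpowb : (s ^ (2 * r)) • b = b := by
    rw [pow_mul, pow_two]; exact hpb r
  have hta : t • a = b := by rw [ht, pow_succ, mul_smul, hsa, hpowb]
  have htb : t • b = a := by rw [ht, pow_succ, mul_smul, hsb, hpowa]
  have ht1 : t ≠ 1 := by
    intro h
    rw [h, one_smul] at hta
    exact hab hta
  obtain ⟨⟨c, hc⟩, huniq⟩ := Z.invol_fix hodd t ht1 ht2
  have hca : c ≠ a := by
    rintro rfl
    rw [hta] at hc
    exact hab hc.symm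
  have hcb : c ≠ b := by
    rintro rfl
    rw [htb] at hc
    exact hab hc
  have hHN : MulAction.stabilizer G a ⊓ MulAction.stabilizer G b ≤ N := by
    let ψ : (MulAction.stabilizer G a ⊓ MulAction.stabilizer G b : Subgroup G) →
        (MulAction.stabilizer G a ⊓ MulAction.stabilizer G b : Subgroup G) :=
      fun h => ⟨(h : G)⁻¹ * (t * h * t), by
        have h1 : (h : G) • a = a := h.2.1
        have h2 : (h : G) • b = b := h.2.2
        refine Subgroup.mul_mem _ (Subgroup.inv_mem _ h.2) ⟨?_, ?_⟩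
        · show (t * h * t) • a = a
          rw [mul_smul, mul_smul, hta, h2, htb]
        · show (t * h * t) • b = b
          rw [mul_smul, mul_smul, htb, h1, hta]⟩
    have hinj : Function.Injective ψ := by
      intro h h' e
      have e' : (h : G)⁻¹ * (t * h * t) = (h' : G)⁻¹ * (t * h' * t) := congrArg Subtype.val e
      have e2 : (h : G)⁻¹ * t * h = (h' : G)⁻¹ * t * h' := by
        calc (h : G)⁻¹ * t * h = ((h : G)⁻¹ * (t * h * t)) * t⁻¹ := by group
          _ = ((h' : G)⁻¹ * (t * h' * t)) * t⁻¹ := by rw [e']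
          _ = (h' : G)⁻¹ * t * h' := by group
      have hcomm : ((h' : G) * (h : G)⁻¹) * t = t * ((h' : G) * (h : G)⁻¹) := by
        calc ((h' : G) * (h : G)⁻¹) * t = (h' : G) * ((h : G)⁻¹ * t * h) * (h : G)⁻¹ := by group
          _ = (h' : G) * ((h' : G)⁻¹ * t * h') * (h : G)⁻¹ := by rw [e2]
          _ = t * ((h' : G) * (h : G)⁻¹) := by group
      have hj : (h' : G) * (h : G)⁻¹ ∈ MulAction.stabilizer G a ⊓ MulAction.stabilizer G b :=
        Subgroup.mul_mem _ h'.2 (Subgroup.inv_mem _ h.2)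
      have hjc : ((h' : G) * (h : G)⁻¹) • c = c :=
        huniq _ _ (by rw [← mul_smul, ← hcomm, mul_smul, hc]) hc
      have hj1 : (h' : G) * (h : G)⁻¹ = 1 :=
        Z.three _ a b c hab (Ne.symm hcb) (Ne.symm hca) hj.1 hj.2 hjc
      exact Subtype.ext (mul_inv_eq_one.mp hj1).symm
    have hsurj := Finite.surjective_of_injective hinj
    intro h hh
    obtain ⟨h', hh'⟩ := hsurj ⟨h, hh⟩
    have e : (h' : G)⁻¹ * (t * h' * t) = h := congrArg Subtype.val hh'
    rw [← e]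
    have h1 : (h' : G)⁻¹ * t * (h' : G)⁻¹⁻¹ ∈ N := hNn.conj_mem _ htN _
    rw [inv_inv] at h1
    have e2 : (h' : G)⁻¹ * (t * h' * t) = ((h' : G)⁻¹ * t * h') * t := by group
    rw [e2]
    exact N.mul_mem h1 htN
  rw [eq_top_iff]
  intro g _
  have hgab : g • a ≠ g • b := fun h => hab (smul_left_cancel _ h)
  obtain ⟨n, hn, hna, hnb⟩ := Z.normal_two N hN hab hgab
  have hmem : n⁻¹ * g ∈ MulAction.stabilizer G a ⊓ MulAction.stabilizer G b := by
    constructor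
    · show (n⁻¹ * g) • a = a
      rw [mul_smul, ← hna, inv_smul_smul]
    · show (n⁻¹ * g) • b = b
      rw [mul_smul, ← hnb, inv_smul_smul]
  have h2 := N.mul_mem hn (hHN hmem)
  rwa [mul_inv_cancel_left] at h2

end ZData

end Cfsg.Agent.Helper3
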