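import Mathlib
import Cfsg.Agent.Helper3.S4016G

/-!
Complement of a Sylow `p`-subgroup `P` in its normalizer (Schur-Zassenhaus), in the shape used by
the joint proof of S4016, plus the derived divisibility and non-centrality facts.
-/

namespace Cfsg.Agent.S4016P

/-- Schur-Zassenhaus: `P` has a complement `L` in `N(P)`. -/
theorem h3_exists_compl {G : Type*} [Group G] [Finite G] {p : ℕ} [Fact p.Prime] (P : Sylow p G) :
    ∃ L : Subgroup G, (P : Subgroup G) ⊓ L = ⊥ ∧
      (P : Subgroup G) ⊔ L = Subgroup.normalizer ((P : Subgroup G) : Set G) := by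
  have hPN : (P : Subgroup G) ≤ Subgroup.normalizer ((P : Subgroup G) : Set G) :=
    Subgroup.le_normalizer
  have hnorm : ((P : Subgroup G).subgroupOf
      (Subgroup.normalizer ((P : Subgroup G) : Set G))).Normal :=
    Subgroup.normal_subgroupOf_of_le_normalizer le_rfl
  have hcop : Nat.Coprime
      (Nat.card ((P : Subgroup G).subgroupOf (Subgroup.normalizer ((P : Subgroup G) : Set G))))
      ((P : Subgroup G).subgroupOf (Subgroup.normalizer ((P : Subgroup G) : Set G))).index := by
    have h1 : Nat.card ((P : Subgroup G).subgroupOf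
        (Subgroup.normalizer ((P : Subgroup G) : Set G))) = Nat.card (P : Subgroup G) :=
      Nat.card_congr (Subgroup.subgroupOfEquivOfLe hPN).toEquiv
    obtain ⟨k, hk⟩ := IsPGroup.iff_card.1 P.isPGroup'
    rw [h1, hk]
    apply Nat.Coprime.pow_left
    rw [Nat.Prime.coprime_iff_not_dvd Fact.out]
    intro hdiv
    have h2 : (P : Subgroup G).relIndex (Subgroup.normalizer ((P : Subgroup G) : Set G)) ∣
        (P : Subgroup G).index := Subgroup.relIndex_dvd_index_of_le hPN
    exact P.not_dvd_index (dvd_trans hdiv h2)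
  obtain ⟨H, hH⟩ := Subgroup.exists_right_complement'_of_coprime hcop
  refine ⟨H.map (Subgroup.normalizer ((P : Subgroup G) : Set G)).subtype, ?_, ?_⟩
  · rw [eq_bot_iff]
    rintro x ⟨hxP, ⟨h, hh, rfl⟩⟩
    have hmem : h ∈ (P : Subgroup G).subgroupOf (Subgroup.normalizer ((P : Subgroup G) : Set G)) :=
      Subgroup.mem_subgroupOf.2 hxP
    have := Subgroup.disjoint_def.1 hH.disjoint hmem hh
    rw [this]
    simp
  · apply le_antisymm
    · refine sup_le hPN ?_
      rintro x ⟨h, _, rfl⟩
      exact h.2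
    · intro n hn
      obtain ⟨⟨⟨a, ha⟩, ⟨h, hh⟩⟩, hah⟩ := hH.2 ⟨n, hn⟩
      have hn_eq : n = (a : G) * (h : G) := by
        have := congrArg Subtype.val hah
        simpa using this.symm
      rw [hn_eq]
      refine Subgroup.mul_mem _ (Subgroup.mem_sup_left (Subgroup.mem_subgroupOf.1 ha))
        (Subgroup.mem_sup_right ⟨h, hh, rfl⟩)

/-- A complement of `P` in `N(P)` is not central on `P` when `N(P) ≰ C(P)`. -/
theorem h3_compl_not_le {G : Type*} [Group G] {p : ℕ} (P : Sylow p G) (hcyc : IsCyclic P)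
    (L : Subgroup G)
    (hsup : (P : Subgroup G) ⊔ L = Subgroup.normalizer ((P : Subgroup G) : Set G))
    (hNC : ¬ Subgroup.normalizer ((P : Subgroup G) : Set G) ≤
      Subgroup.centralizer ((P : Subgroup G) : Set G)) :
    ¬ L ≤ Subgroup.centralizer ((P : Subgroup G) : Set G) := by
  intro hL
  apply hNC
  rw [← hsup]
  refine sup_le ?_ hL
  intro a ha
  rw [Subgroup.mem_centralizer_iff]
  intro b hb
  have := mul_comm' (⟨b, hb⟩ : (P : Subgroup G)) ⟨a, ha⟩
  exact congrArg Subtype.val this

/-- From `|N(P)| ∣ (p - 1) |C(P)|` to the complement: `|L| ∣ (p - 1) |L ⊓ C(P)|`. -/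
theorem h3_compl_dvd {G : Type*} [Group G] [Finite G] {p : ℕ} (P : Sylow p G) (hcyc : IsCyclic P)
    (L : Subgroup G) (hPL : (P : Subgroup G) ⊓ L = ⊥)
    (hsup : (P : Subgroup G) ⊔ L = Subgroup.normalizer ((P : Subgroup G) : Set G))
    (hnd : Nat.card (Subgroup.normalizer ((P : Subgroup G) : Set G)) ∣
      (p - 1) * Nat.card (Subgroup.centralizer ((P : Subgroup G) : Set G))) :
    Nat.card L ∣ (p - 1) * Nat.card ↥(L ⊓ Subgroup.centralizer ((P : Subgroup G) : Set G)) := by
  rw [h3_card_norm P L hPL hsup, h3_card_cent P L hPL hsup hcyc, ← mul_assoc] at hnd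
  exact Nat.dvd_of_mul_dvd_mul_right Nat.card_pos hnd

end Cfsg.Agent.S4016P
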