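import Mathlib
import Cfsg.Prelude.Def_Transfer

/-!
Reduction pieces (A3), (A5) for the joint proof of S4016: the hypotheses pass to subgroups, and a
proper nontrivial normal subgroup satisfying the conclusion yields a nontrivial normal `p'`- or
`p`-subgroup of `G`.
-/

namespace Cfsg.Agent.S4016P

/-- (A3): the hypotheses of S4016 pass to every subgroup. -/
theorem red_sub.{u} {G : Type u} [Group G] [Finite G] {p : ℕ} [Fact p.Prime] (P : Sylow p G)
    (hcyc : IsCyclic P) (hab : ∀ H : Subgroup G, ¬ p ∣ Nat.card H → IsMulCommutative H)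
    (H : Subgroup G) :
    (∀ P1 : Sylow p H, IsCyclic P1) ∧
      (∀ H1 : Subgroup H, ¬ p ∣ Nat.card H1 → IsMulCommutative H1) := by
  constructor
  · intro P1
    have hp1 : IsPGroup p ((P1 : Subgroup H).map H.subtype) := P1.isPGroup'.map H.subtype
    obtain ⟨Q, hQ⟩ := hp1.exists_le_sylow
    obtain ⟨g, rfl⟩ := MulAction.exists_smul_eq G P Q
    have hQc : IsCyclic ↥((g • P : Sylow p G) : Subgroup G) := (P.equivSMul g).isCyclic.1 hcyc
    let f : ↥(P1 : Subgroup H) →* ↥((g • P : Sylow p G) : Subgroup G) :=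
      MonoidHom.codRestrict (H.subtype.comp (P1 : Subgroup H).subtype) _
        (fun x => hQ ⟨x.1, x.2, rfl⟩)
    apply isCyclic_of_injective f
    intro a b hab'
    have := congrArg Subtype.val hab'
    exact Subtype.ext (Subtype.ext this)
  · intro H1 hH1
    have hcard : Nat.card (H1.map H.subtype) = Nat.card H1 :=
      (Nat.card_congr (H1.equivMapOfInjective H.subtype H.subtype_injective).toEquiv).symm
    have hc := hab (H1.map H.subtype) (by rw [hcard]; exact hH1)
    refine ⟨⟨fun a b => ?_⟩⟩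
    have := mul_comm' (⟨a.1.1, ⟨a.1, a.2, rfl⟩⟩ : ↥(H1.map H.subtype)) ⟨b.1.1, ⟨b.1, b.2, rfl⟩⟩
    have h2 := congrArg Subtype.val this
    exact Subtype.ext (Subtype.ext h2)

end Cfsg.Agent.S4016P
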