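import Mathlib
import Cfsg.Prelude.Def_Transfer
import Cfsg.Agent.Helper3.S4016R

/-!
Reduction piece (A5) for the joint proof of S4016.
-/

namespace Cfsg.Agent.S4016P

/-- A normal subgroup `M'` of `K` whose index is a power of `p` contains every element of `K`
of order prime to `p`. -/
theorem h3_mem_of_coprime {K : Type*} [Group K] [Finite K] {p : ℕ} [Fact p.Prime]
    (M' : Subgroup K) [M'.Normal] {a : ℕ} (hidx : M'.index = p ^ a) (k : K)
    (hk : (orderOf k).Coprime p) : k ∈ M' := by
  rw [← QuotientGroup.eq_one_iff]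
  have h1 : orderOf (k : K ⧸ M') ∣ orderOf k := by
    apply orderOf_dvd_of_pow_eq_one
    rw [← QuotientGroup.mk_pow, pow_orderOf_eq_one]
    rfl
  have h2 : orderOf (k : K ⧸ M') ∣ p ^ a := by
    rw [← hidx, Subgroup.index_eq_card]
    exact orderOf_dvd_natCard _
  have h3 : orderOf (k : K ⧸ M') ∣ 1 := by
    have hc : Nat.Coprime (orderOf k) (p ^ a) := Nat.Coprime.pow_right a hk
    have := Nat.dvd_gcd h1 h2
    rwa [hc] at this
  exact orderOf_eq_one_iff.1 (Nat.dvd_one.1 h3)

/-- (A5) -/
theorem red_nonsimple.{u} {G : Type u} [Group G] [Finite G] {p : ℕ} [Fact p.Prime] (P : Sylow p G)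
    (hcyc : IsCyclic P) (hab : ∀ H : Subgroup G, ¬ p ∣ Nat.card H → IsMulCommutative H)
    (K : Subgroup G) [K.Normal] (hK1 : K ≠ ⊥) (hK2 : K ≠ ⊤)
    (ihK : ∀ P' : Sylow p K, IsCyclic P' →
      (∀ H : Subgroup K, ¬ p ∣ Nat.card H → IsMulCommutative H) →
      Cfsg.HasNormalPComplement p K ∨ (P' : Subgroup K).Normal) :
    (∃ M : Subgroup G, M.Normal ∧ M ≠ ⊥ ∧ ¬ p ∣ Nat.card M) ∨
      (∃ U : Subgroup G, U.Normal ∧ U ≠ ⊥ ∧ IsPGroup p U) := by
  obtain ⟨h1, h2⟩ := red_sub P hcyc hab K
  have P1 : Sylow p K := default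
  rcases ihK P1 (h1 P1) h2 with hnpc | hnorm
  · obtain ⟨P2, M', hM'n, hM'c⟩ := hnpc
    obtain ⟨a, ha⟩ := IsPGroup.iff_card.1 P2.isPGroup'
    have hidx : M'.index = p ^ a := by rw [hM'c.symm.index_eq_card, ha]
    have hcardM : ¬ p ∣ Nat.card M' := by
      rw [← hM'c.index_eq_card]
      exact P2.not_dvd_index
    have hcardM' : Nat.card (M'.map K.subtype) = Nat.card M' :=
      (Nat.card_congr (M'.equivMapOfInjective K.subtype K.subtype_injective).toEquiv).symm
    have hMn : (M'.map K.subtype).Normal := by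
      constructor
      rintro _ ⟨m, hm, rfl⟩ g
      have hgK : g * (m : G) * g⁻¹ ∈ K := Subgroup.Normal.conj_mem inferInstance _ m.2 g
      refine ⟨⟨g * (m : G) * g⁻¹, hgK⟩, ?_, rfl⟩
      apply h3_mem_of_coprime M' hidx
      have ho : orderOf (⟨g * (m : G) * g⁻¹, hgK⟩ : K) = orderOf m := by
        rw [Subgroup.orderOf_mk, ← MulAut.conj_apply, MulEquiv.orderOf_eq, Subgroup.orderOf_coe]
      rw [ho]
      have hd : orderOf m ∣ Nat.card M' := by
        have := orderOf_dvd_natCard (⟨m, hm⟩ : M')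
        rwa [Subgroup.orderOf_mk] at this
      have hcop : Nat.Coprime (Nat.card M') p := by
        rw [Nat.coprime_comm, Nat.Prime.coprime_iff_not_dvd Fact.out]
        exact hcardM
      exact Nat.Coprime.coprime_dvd_left hd hcop
    by_cases hbot : M' = ⊥
    · right
      refine ⟨K, inferInstance, hK1, ?_⟩
      have htop : (P2 : Subgroup K) = ⊤ := by
        rw [hbot] at hM'c
        exact Subgroup.isComplement'_bot_left.1 hM'c
      intro x
      have hx : x ∈ (P2 : Subgroup K) := htop ▸ Subgroup.mem_top x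
      obtain ⟨n, hn⟩ := P2.isPGroup' ⟨x, hx⟩
      refine ⟨n, ?_⟩
      have := congrArg Subtype.val hn
      simpa using this
    · left
      refine ⟨M'.map K.subtype, hMn, ?_, ?_⟩
      · intro h
        exact hbot ((Subgroup.map_eq_bot_iff_of_injective _ K.subtype_injective).1 h)
      · rw [hcardM']
        exact hcardM
  · have hchar : (P1 : Subgroup K).Characteristic := P1.characteristic_of_normal hnorm
    have hU : ((P1 : Subgroup K).map K.subtype).Normal := inferInstance
    by_cases hbot : (P1 : Subgroup K) = ⊥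
    · left
      refine ⟨K, inferInstance, hK1, ?_⟩
      intro hdiv
      have hc := P1.card_eq_multiplicity
      rw [hbot, Subgroup.card_bot] at hc
      have hpos := (Nat.Prime.factorization_pos_of_dvd (Fact.out : p.Prime)
        (Nat.card_pos.ne') hdiv)
      have : 1 < p ^ (Nat.card K).factorization p :=
        Nat.one_lt_pow (by omega) (Fact.out : p.Prime).one_lt
      omega
    · right
      refine ⟨(P1 : Subgroup K).map K.subtype, hU, ?_, P1.isPGroup'.map K.subtype⟩
      intro h
      exact hbot ((Subgroup.map_eq_bot_iff_of_injective _ K.subtype_injective).1 h)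

end Cfsg.Agent.S4016P
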