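import Mathlib
import Cfsg.Prelude.Def_LieExceptional
import Cfsg.Agent.S0335
import Cfsg.Agent.S0326

set_option autoImplicit false
set_option linter.unusedSectionVars false
set_option linter.style.haveILetI false
set_option linter.unusedSimpArgs false
set_option linter.unusedVariables false

namespace Cfsg.Agent.Helper3

open scoped Classical
open Cfsg Matrix
open Cfsg.Agent.S0335 (fv ovA tM ovO fv_aniso fv_inv_id fv_translate tM_mulVec)

noncomputable section

variable {F : Type*} [Field F]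

/-- the automorphisms `σ` (with `σ² = Frobenius`) and `τ` (with `τ² = σ`) -/
theorem sz_ctx [Fintype F] {m : ℕ} (hF : Fintype.card F = 2 ^ (2 * m + 1)) :
    ∃ σ τ : F →+* F, (∀ x, σ x = x ^ (2 ^ (m + 1))) ∧ (∀ x, σ (σ x) = x ^ 2) ∧
      (∀ x, τ x ^ 2 = σ x) ∧ (2 : F) = 0 := by
  have hp : (ringChar F).Prime := CharP.char_is_prime F (ringChar F)
  obtain ⟨n, -, hn⟩ := FiniteField.card F (ringChar F)
  have hchar : ringChar F = 2 := by
    have h1 : ringChar F ∣ 2 ^ (2 * m + 1) := by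
      rw [← hF, hn]
      exact dvd_pow_self _ n.ne_zero
    exact (Nat.prime_dvd_prime_iff_eq hp Nat.prime_two).mp (hp.dvd_of_dvd_pow h1)
  haveI : CharP F 2 := hchar ▸ ringChar.charP F
  haveI : Fact (Nat.Prime 2) := ⟨Nat.prime_two⟩
  refine ⟨iterateFrobenius F 2 (m + 1), iterateFrobenius F 2 m,
    fun x => iterateFrobenius_def 2 (m + 1) x, fun x => ?_, fun x => ?_, CharTwo.two_eq_zero⟩
  · rw [iterateFrobenius_def, iterateFrobenius_def, ← pow_mul]
    have e : 2 ^ (m + 1) * 2 ^ (m + 1) = 2 ^ (2 * m + 1) * 2 := by ring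
    rw [e, pow_mul, ← hF, FiniteField.pow_card]
  · rw [iterateFrobenius_def, iterateFrobenius_def, ← pow_mul, pow_succ]

section sigma

variable (σ : F →+* F)

theorem fv_zero : fv σ (0 : F) 0 = 0 := by simp [fv]

theorem ovO_ne_zero (o : Option (F × F)) : ovO σ o ≠ 0 := by
  rcases o with _ | ⟨x, y⟩
  · intro h
    have := congrFun h 0
    simp [ovO] at this
  · intro h
    have := congrFun h 3
    simp [ovO, ovA] at this

theorem ovO_smul_inj (o o' : Option (F × F)) (c : F) (h : ovO σ o = c • ovO σ o') : o = o' := by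
  rcases o with _ | ⟨x, y⟩ <;> rcases o' with _ | ⟨x', y'⟩
  · rfl
  · exfalso
    have h0 := congrFun h 0
    have h3 := congrFun h 3
    simp [ovO, ovA] at h0 h3
    rw [← h3] at h0
    simp at h0
  · exfalso
    have h3 := congrFun h 3
    simp [ovO, ovA] at h3
  · have h3 := congrFun h 3
    have h2 := congrFun h 2
    have h1 := congrFun h 1
    simp [ovO, ovA] at h3 h2 h1
    rw [← h3] at h2 h1
    simp at h2 h1
    rw [h1, h2]

/-- the ovoid points -/
def pt (o : Option (F × F)) : Projectivization F (Fin 4 → F) :=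
  Projectivization.mk F (ovO σ o) (ovO_ne_zero σ o)

theorem pt_inj : Function.Injective (pt σ) := by
  intro o o' h
  unfold pt at h
  rw [Projectivization.mk_eq_mk_iff] at h
  obtain ⟨a, ha⟩ := h
  exact ovO_smul_inj σ o o' (a : F) ha.symm

theorem mem_ovoid_iff {m : ℕ} (hσ : ∀ x, σ x = x ^ (2 ^ (m + 1)))
    (p : Projectivization F (Fin 4 → F)) : p ∈ suzukiOvoid F m ↔ ∃ o, p = pt σ o := by
  have hfv : ∀ x y : F, x * y + x ^ (2 ^ (m + 1) + 2) + y ^ (2 ^ (m + 1)) = fv σ x y := by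
    intro x y
    unfold fv
    rw [hσ, hσ, pow_add]
  constructor
  · rintro ⟨v, hv, rfl, h | ⟨x, y, h⟩⟩
    · subst h
      exact ⟨none, rfl⟩
    · have h' : v = ovO σ (some (x, y)) := by
        rw [h, hfv]
        rfl
      subst h'
      exact ⟨some (x, y), rfl⟩
  · rintro ⟨o, rfl⟩
    refine ⟨ovO σ o, ovO_ne_zero σ o, rfl, ?_⟩
    rcases o with _ | ⟨x, y⟩
    · left
      rfl
    · right
      refine ⟨x, y, ?_⟩
      rw [hfv]
      rfl

/-- a matrix maps ovoid vectors to multiples of ovoid vectors -/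
def OvPres (M : Matrix (Fin 4) (Fin 4) F) : Prop :=
  ∀ o : Option (F × F), ∃ o' : Option (F × F), ∃ c : F, c ≠ 0 ∧ M *ᵥ ovO σ o = c • ovO σ o'

theorem OvPres.mul {M N : Matrix (Fin 4) (Fin 4) F} (hM : OvPres σ M) (hN : OvPres σ N) :
    OvPres σ (M * N) := by
  intro o
  obtain ⟨o1, c1, hc1, h1⟩ := hN o
  obtain ⟨o2, c2, hc2, h2⟩ := hM o1
  refine ⟨o2, c1 * c2, mul_ne_zero hc1 hc2, ?_⟩
  rw [← Matrix.mulVec_mulVec, h1, Matrix.mulVec_smul, h2, smul_smul]

theorem OvPres.one : OvPres σ (1 : Matrix (Fin 4) (Fin 4) F) := by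
  intro o
  exact ⟨o, 1, one_ne_zero, by rw [Matrix.one_mulVec, one_smul]⟩

theorem smul_pt (g : Matrix.SpecialLinearGroup (Fin 4) F) (o o' : Option (F × F)) (c : F)
    (hc : c ≠ 0) (h : g.1 *ᵥ ovO σ o = c • ovO σ o') : g • pt σ o = pt σ o' := by
  unfold pt
  rw [Projectivization.smul_mk, Projectivization.mk_eq_mk_iff]
  exact ⟨Units.mk0 c hc, h.symm⟩

theorem smul_pt_eq (g : Matrix.SpecialLinearGroup (Fin 4) F) (o o' : Option (F × F))
    (h : g • pt σ o = pt σ o') : ∃ c : F, c ≠ 0 ∧ g.1 *ᵥ ovO σ o = c • ovO σ o' := by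
  unfold pt at h
  rw [Projectivization.smul_mk, Projectivization.mk_eq_mk_iff] at h
  obtain ⟨a, ha⟩ := h
  exact ⟨a, a.ne_zero, ha.symm⟩

theorem ovoid_finite [Fintype F] (m : ℕ) : (suzukiOvoid F m).Finite := by
  have h := Cfsg.Agent.S0326.result (F := F) m
  have : Finite (suzukiOvoid F m) := Nat.finite_of_card_ne_zero (by rw [h]; positivity)
  exact Set.toFinite _

theorem mem_Sz_iff [Fintype F] {m : ℕ} (hσ : ∀ x, σ x = x ^ (2 ^ (m + 1)))
    (g : Matrix.SpecialLinearGroup (Fin 4) F) : g ∈ Sz F m ↔ OvPres σ g.1 := by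
  constructor
  · intro hg o
    have hmem : g • pt σ o ∈ suzukiOvoid F m :=
      (MulAction.mem_stabilizer_set.mp hg (pt σ o)).mpr ((mem_ovoid_iff σ hσ _).mpr ⟨o, rfl⟩)
    obtain ⟨o', ho'⟩ := (mem_ovoid_iff σ hσ _).mp hmem
    obtain ⟨c, hc, h⟩ := smul_pt_eq σ g o o' ho'
    exact ⟨o', c, hc, h⟩
  · intro hg
    rw [MulAction.mem_stabilizer_set_iff_smul_set_subset (ovoid_finite m)]
    rintro _ ⟨p, hp, rfl⟩
    obtain ⟨o, rfl⟩ := (mem_ovoid_iff σ hσ _).mp hp
    obtain ⟨o', c, hc, h⟩ := hg o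
    show g • pt σ o ∈ _
    rw [smul_pt σ g o o' c hc h]
    exact (mem_ovoid_iff σ hσ _).mpr ⟨o', rfl⟩

end sigma

section elements

variable (σ τ : F →+* F) (hσ2 : ∀ x, σ (σ x) = x ^ 2) (hτ : ∀ x, τ x ^ 2 = σ x) (h2 : (2 : F) = 0)

theorem det_tM (a b : F) : (tM σ a b).det = 1 := by
  rw [Matrix.det_of_isUpperTriangular]
  · simp [tM, Fin.prod_univ_four]
  · intro i j hij
    fin_cases i <;> fin_cases j <;> simp [tM] at hij ⊢

theorem tM_inf (a b : F) : tM σ a b *ᵥ ovO σ none = ovO σ none := by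
  ext i
  fin_cases i <;> simp [tM, ovO, Matrix.mulVec, dotProduct, Fin.sum_univ_four]

include hσ2 h2 in
theorem tM_aff (a b x y : F) :
    tM σ a b *ᵥ ovO σ (some (x, y)) = ovO σ (some (x + a, y + b + σ a * x)) :=
  tM_mulVec σ hσ2 h2 a b x y

include hσ2 h2 in
theorem tM_pres (a b : F) : OvPres σ (tM σ a b) := by
  intro o
  rcases o with _ | ⟨x, y⟩
  · exact ⟨none, 1, one_ne_zero, by rw [tM_inf, one_smul]⟩
  · exact ⟨some (x + a, y + b + σ a * x), 1, one_ne_zero, by rw [tM_aff σ hσ2 h2, one_smul]⟩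

/-- the inversion -/
def wM : Matrix (Fin 4) (Fin 4) F := !![0, 0, 0, 1; 0, 0, 1, 0; 0, 1, 0, 0; 1, 0, 0, 0]

theorem wM_mulVec (v : Fin 4 → F) :
    (wM : Matrix (Fin 4) (Fin 4) F) *ᵥ v = ![v 3, v 2, v 1, v 0] := by
  ext i
  fin_cases i <;> simp [wM, Matrix.mulVec, dotProduct, Fin.sum_univ_four]

theorem wM_mul_self : (wM : Matrix (Fin 4) (Fin 4) F) * wM = 1 := by
  ext i j
  fin_cases i <;> fin_cases j <;>
    simp [wM, Matrix.mul_apply, Fin.sum_univ_four, Matrix.one_apply]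

include h2 in
theorem det_wM : (wM : Matrix (Fin 4) (Fin 4) F).det = 1 := by
  have h := congrArg Matrix.det (wM_mul_self (F := F))
  rw [Matrix.det_mul, Matrix.det_one] at h
  have h3 : ((wM : Matrix (Fin 4) (Fin 4) F).det - 1) ^ 2 = 0 := by
    linear_combination h + (1 - (wM : Matrix (Fin 4) (Fin 4) F).det) * h2
  exact sub_eq_zero.mp ((pow_eq_zero_iff (by norm_num)).mp h3)

include hσ2 h2 in
theorem fv_inv (x y : F) (hf : fv σ x y ≠ 0) :
    fv σ (y / fv σ x y) (x / fv σ x y) = 1 / fv σ x y := by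
  have e := fv_inv_id σ hσ2 h2 x y
  have hσf : σ (fv σ x y) ≠ 0 := by rwa [Ne, map_eq_zero]
  generalize fv σ x y = f at *
  unfold fv
  rw [map_div₀, map_div₀]
  field_simp
  linear_combination e

include hσ2 h2 in
theorem wM_pres : OvPres σ (wM : Matrix (Fin 4) (Fin 4) F) := by
  intro o
  rcases o with _ | ⟨x, y⟩
  · refine ⟨some (0, 0), 1, one_ne_zero, ?_⟩
    rw [wM_mulVec, one_smul]
    ext i
    fin_cases i <;> simp [ovO, ovA, fv_zero]
  · by_cases hxy : x = 0 ∧ y = 0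
    · obtain ⟨rfl, rfl⟩ := hxy
      refine ⟨none, 1, one_ne_zero, ?_⟩
      rw [wM_mulVec, one_smul]
      ext i
      fin_cases i <;> simp [ovO, ovA, fv_zero]
    · have hf : fv σ x y ≠ 0 := fun h => hxy (fv_aniso σ hσ2 h2 x y h)
      refine ⟨some (y / fv σ x y, x / fv σ x y), fv σ x y, hf, ?_⟩
      rw [wM_mulVec]
      ext i
      fin_cases i
      · simp only [ovO, ovA]
        simp
        rw [fv_inv σ hσ2 h2 x y hf]
        field_simp
      · simp [ovO, ovA]
        field_simp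
      · simp [ovO, ovA]
        field_simp
      · simp [ovO, ovA]

/-- the torus -/
def dM (κ : F) : Matrix (Fin 4) (Fin 4) F :=
  Matrix.diagonal ![(κ * τ κ)⁻¹ * (σ κ * κ ^ 2), (κ * τ κ)⁻¹ * (σ κ * κ), (κ * τ κ)⁻¹ * κ,
    (κ * τ κ)⁻¹]

include hτ in
theorem det_dM (κ : F) (hκ : κ ≠ 0) : (dM σ τ κ).det = 1 := by
  have hτκ : τ κ ≠ 0 := by rwa [Ne, map_eq_zero]
  unfold dM
  rw [Matrix.det_diagonal, Fin.prod_univ_four]
  simp
  rw [← hτ]
  field_simp

theorem dM_inf (κ : F) :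
    dM σ τ κ *ᵥ ovO σ none = ((κ * τ κ)⁻¹ * (σ κ * κ ^ 2)) • ovO σ none := by
  unfold dM
  ext i
  rw [Matrix.mulVec_diagonal]
  fin_cases i <;> simp [ovO]

include hσ2 in
theorem dM_aff (κ x y : F) :
    dM σ τ κ *ᵥ ovO σ (some (x, y)) = (κ * τ κ)⁻¹ • ovO σ (some (κ * x, κ * σ κ * y)) := by
  unfold dM
  ext i
  rw [Matrix.mulVec_diagonal]
  fin_cases i
  · simp [ovO, ovA, fv, hσ2]
    ring
  · simp [ovO, ovA]
    ring
  · simp [ovO, ovA]
    ring
  · simp [ovO, ovA]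

include hσ2 in
theorem dM_pres (κ : F) (hκ : κ ≠ 0) : OvPres σ (dM σ τ κ) := by
  have hτκ : τ κ ≠ 0 := by rwa [Ne, map_eq_zero]
  have hσκ : σ κ ≠ 0 := by rwa [Ne, map_eq_zero]
  intro o
  rcases o with _ | ⟨x, y⟩
  · exact ⟨none, _, mul_ne_zero (inv_ne_zero (mul_ne_zero hκ hτκ))
      (mul_ne_zero hσκ (pow_ne_zero 2 hκ)), dM_inf σ τ κ⟩
  · exact ⟨_, _, inv_ne_zero (mul_ne_zero hκ hτκ), dM_aff σ τ hσ2 κ x y⟩

theorem dM_mul (κ κ' : F) : dM σ τ κ * dM σ τ κ' = dM σ τ (κ * κ') := by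
  unfold dM
  rw [Matrix.diagonal_mul_diagonal]
  congr 1
  ext i
  fin_cases i <;> simp [mul_inv] <;> ring

theorem dM_one : dM σ τ (1 : F) = 1 := by
  unfold dM
  rw [← Matrix.diagonal_one]
  congr 1
  ext i
  fin_cases i <;> simp

theorem poly_lemma [Fintype F] (s : ℕ) (hs : 3 ≤ s) (hcard : s + 2 < Fintype.card F)
    (p1 p2 ps pt : F)
    (h : ∀ x : F, p1 * x + p2 * x ^ 2 + ps * x ^ s + pt * x ^ (s + 2) = 0) :
    p1 = 0 ∧ p2 = 0 ∧ ps = 0 ∧ pt = 0 := by
  let P : Polynomial F := Polynomial.monomial 1 p1 + Polynomial.monomial 2 p2 +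
    Polynomial.monomial s ps + Polynomial.monomial (s + 2) pt
  have hcoeff : ∀ N, P.coeff N = (if 1 = N then p1 else 0) + (if 2 = N then p2 else 0) +
      (if s = N then ps else 0) + (if s + 2 = N then pt else 0) := by
    intro N
    simp only [P, Polynomial.coeff_add, Polynomial.coeff_monomial]
  have hP : P = 0 := by
    apply Polynomial.eq_zero_of_natDegree_lt_card_of_eval_eq_zero' P Finset.univ
    · intro x _
      simp only [P, Polynomial.eval_add, Polynomial.eval_monomial, pow_one]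
      exact h x
    · have hdeg : P.natDegree ≤ s + 2 := by
        rw [Polynomial.natDegree_le_iff_coeff_eq_zero]
        intro N hN
        rw [hcoeff, if_neg (by omega), if_neg (by omega), if_neg (by omega), if_neg (by omega)]
        simp
      rw [Finset.card_univ]
      omega
  have c1 := hcoeff 1
  have c2 := hcoeff 2
  have cs := hcoeff s
  have ct := hcoeff (s + 2)
  rw [hP, Polynomial.coeff_zero] at c1 c2 cs ct
  rw [if_pos rfl, if_neg (by omega), if_neg (by omega), if_neg (by omega)] at c1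
  rw [if_neg (by omega), if_pos rfl, if_neg (by omega), if_neg (by omega)] at c2
  rw [if_neg (by omega), if_neg (by omega), if_pos rfl, if_neg (by omega)] at cs
  rw [if_neg (by omega), if_neg (by omega), if_neg (by omega), if_pos rfl] at ct
  simp at c1 c2 cs ct
  exact ⟨c1.symm, c2.symm, cs.symm, by first | exact ct.symm | exact ct⟩

include hσ2 hτ h2 in
theorem torus_of_fix [Fintype F] {m : ℕ} (hm : 1 ≤ m) (hF : Fintype.card F = 2 ^ (2 * m + 1))
    (hσ : ∀ x, σ x = x ^ (2 ^ (m + 1)))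
    (M : Matrix (Fin 4) (Fin 4) F) (hdet : M.det = 1) (hM : OvPres σ M) (α δ : F) (hα : α ≠ 0)
    (hδ : δ ≠ 0) (hinf : M *ᵥ ovO σ none = α • ovO σ none)
    (hzero : M *ᵥ ovO σ (some (0, 0)) = δ • ovO σ (some (0, 0))) :
    ∃ κ : F, κ ≠ 0 ∧ M = dM σ τ κ := by
  have c00 : M 0 0 = α := by
    have := congrFun hinf 0
    simpa [ovO, Matrix.mulVec, dotProduct, Fin.sum_univ_four] using this
  have c10 : M 1 0 = 0 := by
    have := congrFun hinf 1
    simpa [ovO, Matrix.mulVec, dotProduct, Fin.sum_univ_four] using this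
  have c20 : M 2 0 = 0 := by
    have := congrFun hinf 2
    simpa [ovO, Matrix.mulVec, dotProduct, Fin.sum_univ_four] using this
  have c30 : M 3 0 = 0 := by
    have := congrFun hinf 3
    simpa [ovO, Matrix.mulVec, dotProduct, Fin.sum_univ_four] using this
  have c03 : M 0 3 = 0 := by
    have := congrFun hzero 0
    simpa [ovO, ovA, fv_zero, Matrix.mulVec, dotProduct, Fin.sum_univ_four] using this
  have c13 : M 1 3 = 0 := by
    have := congrFun hzero 1
    simpa [ovO, ovA, fv_zero, Matrix.mulVec, dotProduct, Fin.sum_univ_four] using this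
  have c23 : M 2 3 = 0 := by
    have := congrFun hzero 2
    simpa [ovO, ovA, fv_zero, Matrix.mulVec, dotProduct, Fin.sum_univ_four] using this
  have c33 : M 3 3 = δ := by
    have := congrFun hzero 3
    simpa [ovO, ovA, fv_zero, Matrix.mulVec, dotProduct, Fin.sum_univ_four] using this
  have hMv : ∀ x y : F, M *ᵥ ovO σ (some (x, y)) = ![α * fv σ x y + M 0 1 * y + M 0 2 * x,
      M 1 1 * y + M 1 2 * x, M 2 1 * y + M 2 2 * x, M 3 1 * y + M 3 2 * x + δ] := by
    intro x y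
    ext i
    fin_cases i <;>
      simp [ovO, ovA, Matrix.mulVec, dotProduct, Fin.sum_univ_four, c00, c10, c20, c30, c03, c13,
        c23, c33]
  have hinj : Function.Injective M.mulVec := by
    rw [Matrix.mulVec_injective_iff_isUnit, Matrix.isUnit_iff_isUnit_det, hdet]
    exact isUnit_one
  have haff : ∀ x y : F, ∃ x' y' : F, M *ᵥ ovO σ (some (x, y)) =
      (M 3 1 * y + M 3 2 * x + δ) • ovO σ (some (x', y')) ∧ M 3 1 * y + M 3 2 * x + δ ≠ 0 := by
    intro x y
    obtain ⟨o', c, hc, h⟩ := hM (some (x, y))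
    rcases o' with _ | ⟨x', y'⟩
    · exfalso
      have h1 : M *ᵥ ovO σ (some (x, y)) = M *ᵥ ((c / α) • ovO σ none) := by
        rw [Matrix.mulVec_smul, hinf, smul_smul, div_mul_cancel₀ _ hα, h]
      have h3 := congrFun (hinj h1) 3
      simp [ovO, ovA] at h3
    · have h3 := congrFun h 3
      rw [hMv] at h3
      simp [ovO, ovA] at h3
      refine ⟨x', y', ?_, ?_⟩
      · rw [h3]
        exact h
      · rw [h3]
        exact hc
  have c31 : M 3 1 = 0 := by
    by_contra hne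
    obtain ⟨x', y', -, h⟩ := haff 0 (-δ / M 3 1)
    apply h
    field_simp
    ring
  have c32 : M 3 2 = 0 := by
    by_contra hne
    obtain ⟨x', y', -, h⟩ := haff (-δ / M 3 2) 0
    apply h
    field_simp
    ring
  obtain ⟨A, hA⟩ : ∃ A : F, A = M 2 2 / δ := ⟨_, rfl⟩
  obtain ⟨B, hB⟩ : ∃ B : F, B = M 2 1 / δ := ⟨_, rfl⟩
  obtain ⟨C, hC⟩ : ∃ C : F, C = M 1 2 / δ := ⟨_, rfl⟩
  obtain ⟨D, hD⟩ : ∃ D : F, D = M 1 1 / δ := ⟨_, rfl⟩
  obtain ⟨c₀, hc₀⟩ : ∃ c₀ : F, c₀ = α / δ := ⟨_, rfl⟩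
  obtain ⟨e, he⟩ : ∃ e : F, e = M 0 2 / δ := ⟨_, rfl⟩
  obtain ⟨h', hh'⟩ : ∃ h' : F, h' = M 0 1 / δ := ⟨_, rfl⟩
  have key : ∀ x y : F, fv σ (A * x + B * y) (C * x + D * y) = c₀ * fv σ x y + e * x + h' * y := by
    intro x y
    obtain ⟨x', y', h, -⟩ := haff x y
    rw [hMv, c31, c32] at h
    have h0 := congrFun h 0
    have h1 := congrFun h 1
    have h2' := congrFun h 2
    simp [ovO, ovA] at h0 h1 h2'
    have hx' : x' = A * x + B * y := by
      rw [hA, hB]
      field_simp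
      linear_combination -h2'
    have hy' : y' = C * x + D * y := by
      rw [hC, hD]
      field_simp
      linear_combination -h1
    rw [← hx', ← hy', hc₀, he, hh']
    field_simp
    linear_combination -h0
  obtain ⟨s, hs⟩ : ∃ s : ℕ, s = 2 ^ (m + 1) := ⟨_, rfl⟩
  have hσs : ∀ x, σ x = x ^ s := by
    intro x
    rw [hs]
    exact hσ x
  have hs4 : 4 ≤ s := by
    rw [hs]
    calc 4 = 2 ^ 2 := by norm_num
      _ ≤ 2 ^ (m + 1) := Nat.pow_le_pow_right (by norm_num) (by omega)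
  have hcard : s + 2 < Fintype.card F := by
    rw [hF, hs]
    have e1 : 2 ^ (2 * m + 1) = 2 ^ (m + 1) * 2 ^ m := by
      rw [← pow_add]
      congr 1
      omega
    rw [e1]
    have h2m : 2 ≤ 2 ^ m := by
      calc 2 = 2 ^ 1 := by norm_num
        _ ≤ 2 ^ m := Nat.pow_le_pow_right (by norm_num) hm
    rw [← hs]
    nlinarith [hs4]
  have k1 : ∀ x : F, (-e) * x + (A * C) * x ^ 2 + σ C * x ^ s +
      (σ A * A ^ 2 - c₀) * x ^ (s + 2) = 0 := by
    intro x
    have := key x 0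
    unfold fv at this
    simp only [mul_zero, add_zero, map_zero, map_mul] at this
    rw [hσs x] at this
    rw [pow_add]
    linear_combination this
  obtain ⟨he0, hAC, hσC, hc₀A⟩ := poly_lemma s (by omega) hcard _ _ _ _ k1
  have k2 : ∀ y : F, (-h') * y + (B * D) * y ^ 2 + (σ D - c₀) * y ^ s +
      (σ B * B ^ 2) * y ^ (s + 2) = 0 := by
    intro y
    have := key 0 y
    unfold fv at this
    simp only [mul_zero, zero_add, map_zero, map_mul, zero_mul, add_zero, ne_eq,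
      OfNat.ofNat_ne_zero, not_false_eq_true, zero_pow] at this
    rw [hσs y] at this
    rw [pow_add]
    linear_combination this
  obtain ⟨hh0, hBD, hσD, hσB⟩ := poly_lemma s (by omega) hcard _ _ _ _ k2
  have hC0 : C = 0 := by rwa [map_eq_zero] at hσC
  have hB0 : B = 0 := by
    rcases mul_eq_zero.mp hσB with h | h
    · rwa [map_eq_zero] at h
    · exact (pow_eq_zero_iff (by norm_num)).mp h
  have hc₀0 : c₀ ≠ 0 := by
    rw [hc₀]
    exact div_ne_zero hα hδ
  have hc₀A' : c₀ = σ A * A ^ 2 := by linear_combination -hc₀A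
  have hA0 : A ≠ 0 := by
    intro h
    rw [h] at hc₀A'
    simp at hc₀A'
    exact hc₀0 hc₀A'
  have hAD : A * D = c₀ := by
    have := key 1 1
    unfold fv at this
    rw [hB0, hC0] at this
    simp only [mul_one, zero_mul, add_zero, zero_add, map_one, one_pow, map_mul] at this
    linear_combination this - hc₀A - hσD - he0 - hh0
  have hD' : D = σ A * A := by
    have : A * D = A * (σ A * A) := by
      rw [hAD, hc₀A']
      ring
    exact mul_left_cancel₀ hA0 this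
  have m22 : M 2 2 = δ * A := by
    rw [hA]
    field_simp
  have m21 : M 2 1 = 0 := by
    have := hB0
    rw [hB, div_eq_zero_iff] at this
    exact this.resolve_right hδ
  have m12 : M 1 2 = 0 := by
    have := hC0
    rw [hC, div_eq_zero_iff] at this
    exact this.resolve_right hδ
  have m11 : M 1 1 = δ * (σ A * A) := by
    rw [← hD', hD]
    field_simp
  have m00 : M 0 0 = δ * (σ A * A ^ 2) := by
    rw [c00, ← hc₀A', hc₀]
    field_simp
  have m01 : M 0 1 = 0 := by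
    have : h' = 0 := by linear_combination -hh0
    rw [hh', div_eq_zero_iff] at this
    exact this.resolve_right hδ
  have m02 : M 0 2 = 0 := by
    have : e = 0 := by linear_combination -he0
    rw [he, div_eq_zero_iff] at this
    exact this.resolve_right hδ
  have hMd : M = Matrix.diagonal ![δ * (σ A * A ^ 2), δ * (σ A * A), δ * A, δ] := by
    ext i j
    fin_cases i <;> fin_cases j <;>
      simp [Matrix.diagonal, c10, c20, c30, c03, c13, c23, c33, c31, c32, m22, m21, m12, m11,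
        m00, m01, m02]
  have hdet' : (δ * (A * τ A)) ^ 4 = 1 := by
    have hd := hdet
    rw [hMd, Matrix.det_diagonal, Fin.prod_univ_four] at hd
    simp at hd
    rw [← hτ A] at hd
    linear_combination hd
  have hz : δ * (A * τ A) = 1 := by
    have h4 : (δ * (A * τ A) - 1) ^ 4 = 0 := by
      linear_combination hdet' + (1 - 2 * (δ * (A * τ A)) ^ 3 + 3 * (δ * (A * τ A)) ^ 2 -
        2 * (δ * (A * τ A))) * h2
    exact sub_eq_zero.mp ((pow_eq_zero_iff (by norm_num)).mp h4)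
  have hδ' : δ = (A * τ A)⁻¹ := eq_inv_of_mul_eq_one_left hz
  refine ⟨A, hA0, ?_⟩
  unfold dM
  rw [← hδ']
  exact hMd

end elements


theorem invol_has_fixed_point {G Ω : Type*} [Group G] [MulAction G Ω] [Fintype Ω]
    (hodd : Odd (Fintype.card Ω)) (u : G) (hu2 : u * u = 1) : ∃ c : Ω, u • c = c := by
  have hσ : (MulAction.toPerm u : Equiv.Perm Ω) ^ 2 ^ 1 = 1 := by
    ext x
    simp [pow_succ, ← mul_smul, hu2]
  have hmod := Equiv.Perm.card_compl_support_modEq (p := 2) (n := 1) hσ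
  have hoddfix : Odd (MulAction.toPerm u : Equiv.Perm Ω).supportᶜ.card := by
    rw [Nat.odd_iff] at hodd ⊢
    rw [hmod]; exact hodd
  have hmem : ∀ c : Ω, c ∈ (MulAction.toPerm u : Equiv.Perm Ω).supportᶜ ↔ u • c = c := by
    intro c
    simp [Equiv.Perm.mem_support]
  have hne : (MulAction.toPerm u : Equiv.Perm Ω).supportᶜ.Nonempty := by
    rw [Finset.nonempty_iff_ne_empty]
    intro h
    rw [h] at hoddfix
    simp at hoddfix
  obtain ⟨c, hc⟩ := hne
  exact ⟨c, (hmem c).mp hc⟩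

section group

variable [Fintype F] {m : ℕ} (σ τ : F →+* F) (hσ : ∀ x, σ x = x ^ (2 ^ (m + 1)))
  (hσ2 : ∀ x, σ (σ x) = x ^ 2) (hτ : ∀ x, τ x ^ 2 = σ x) (h2 : (2 : F) = 0)

/-- translations in `SL₄` -/
def tS (a b : F) : Matrix.SpecialLinearGroup (Fin 4) F := ⟨tM σ a b, det_tM σ a b⟩

/-- the inversion in `SL₄` -/
def wS (h2 : (2 : F) = 0) : Matrix.SpecialLinearGroup (Fin 4) F := ⟨wM, det_wM h2⟩

/-- the torus in `SL₄` -/
def dS (hτ : ∀ x, τ x ^ 2 = σ x) (κ : Fˣ) : Matrix.SpecialLinearGroup (Fin 4) F :=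
  ⟨dM σ τ κ, det_dM σ τ hτ κ κ.ne_zero⟩

include hσ hσ2 h2 in
theorem tS_mem (a b : F) : tS σ a b ∈ Sz F m :=
  (mem_Sz_iff σ hσ _).mpr (tM_pres σ hσ2 h2 a b)

include hσ hσ2 in
theorem wS_mem : wS h2 ∈ Sz F m := (mem_Sz_iff σ hσ _).mpr (wM_pres σ hσ2 h2)

include hσ hσ2 in
theorem dS_mem (κ : Fˣ) : dS σ τ hτ κ ∈ Sz F m :=
  (mem_Sz_iff σ hσ _).mpr (dM_pres σ τ hσ2 κ κ.ne_zero)

theorem tS_inf (a b : F) : tS σ a b • pt σ none = pt σ none :=
  smul_pt σ _ none none 1 one_ne_zero (by rw [one_smul]; exact tM_inf σ a b)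

include hσ2 h2 in
theorem tS_aff (a b x y : F) :
    tS σ a b • pt σ (some (x, y)) = pt σ (some (x + a, y + b + σ a * x)) :=
  smul_pt σ _ _ _ 1 one_ne_zero (by rw [one_smul]; exact tM_aff σ hσ2 h2 a b x y)

theorem wS_inf : wS h2 • pt σ none = pt σ (some (0, 0)) := by
  refine smul_pt σ _ _ _ 1 one_ne_zero ?_
  show wM *ᵥ ovO σ none = _
  rw [wM_mulVec, one_smul]
  ext i
  fin_cases i <;> simp [ovO, ovA, fv_zero]

theorem dS_inf (κ : Fˣ) : dS σ τ hτ κ • pt σ none = pt σ none := by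
  have hκ := κ.ne_zero
  have hτκ : τ (κ : F) ≠ 0 := by rwa [Ne, map_eq_zero]
  have hσκ : σ (κ : F) ≠ 0 := by rwa [Ne, map_eq_zero]
  exact smul_pt σ _ _ _ _ (mul_ne_zero (inv_ne_zero (mul_ne_zero hκ hτκ))
    (mul_ne_zero hσκ (pow_ne_zero 2 hκ))) (dM_inf σ τ κ)

include hσ2 in
theorem dS_aff (κ : Fˣ) (x y : F) :
    dS σ τ hτ κ • pt σ (some (x, y)) = pt σ (some ((κ : F) * x, (κ : F) * σ κ * y)) := by
  have hκ := κ.ne_zero
  have hτκ : τ (κ : F) ≠ 0 := by rwa [Ne, map_eq_zero]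
  exact smul_pt σ _ _ _ _ (inv_ne_zero (mul_ne_zero hκ hτκ)) (dM_aff σ τ hσ2 κ x y)

include hσ in
theorem Sz_pt (g : Matrix.SpecialLinearGroup (Fin 4) F) (hg : g ∈ Sz F m)
    (o : Option (F × F)) : ∃ o', g • pt σ o = pt σ o' := by
  obtain ⟨o', c, hc, h⟩ := (mem_Sz_iff σ hσ g).mp hg o
  exact ⟨o', smul_pt σ g o o' c hc h⟩

theorem pt_inf_eq : suzukiPointInfinity F = pt σ none := rfl

theorem pt_zero_eq : suzukiPointZero F = pt σ (some (0, 0)) := by
  unfold suzukiPointZero pt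
  rw [Projectivization.mk_eq_mk_iff]
  refine ⟨1, ?_⟩
  rw [one_smul]
  ext i
  fin_cases i <;> simp [ovO, ovA, fv_zero]

/-- preservation of the alternating form -/
def JP (M : Matrix (Fin 4) (Fin 4) F) : Prop := Mᵀ * suzukiForm F * M = suzukiForm F

theorem JP.mul {M N : Matrix (Fin 4) (Fin 4) F} (hM : JP M) (hN : JP N) : JP (M * N) := by
  unfold JP at *
  rw [Matrix.transpose_mul]
  calc Nᵀ * Mᵀ * suzukiForm F * (M * N) = Nᵀ * (Mᵀ * suzukiForm F * M) * N := by
        simp only [Matrix.mul_assoc]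
    _ = suzukiForm F := by rw [hM, hN]

theorem JP_one : JP (1 : Matrix (Fin 4) (Fin 4) F) := by
  unfold JP
  simp

include h2 in
theorem JP_tM (a b : F) : JP (tM σ a b) := by
  unfold JP
  ext i j
  fin_cases i <;> fin_cases j <;>
    simp [tM, suzukiForm, Matrix.mul_apply, Fin.sum_univ_four] <;>
    first
      | linear_combination a * h2
      | linear_combination (b + σ a * a) * h2
      | linear_combination (fv σ a b + a * b) * h2
      | linear_combination σ a * h2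

theorem JP_wM : JP (wM : Matrix (Fin 4) (Fin 4) F) := by
  unfold JP
  ext i j
  fin_cases i <;> fin_cases j <;>
    simp [wM, suzukiForm, Matrix.mul_apply, Fin.sum_univ_four]

include hτ in
theorem JP_dM (κ : F) (hκ : κ ≠ 0) : JP (dM σ τ κ) := by
  have hτκ : τ κ ≠ 0 := by rwa [Ne, map_eq_zero]
  have key : (κ * τ κ)⁻¹ * (σ κ * κ ^ 2) * (κ * τ κ)⁻¹ = 1 := by
    rw [← hτ]
    field_simp
  have key2 : (κ * τ κ)⁻¹ * (σ κ * κ) * ((κ * τ κ)⁻¹ * κ) = 1 := by
    rw [← hτ]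
    field_simp
  unfold JP
  ext i j
  fin_cases i <;> fin_cases j <;>
    simp [dM, suzukiForm, Matrix.mul_apply, Fin.sum_univ_four, Matrix.diagonal] <;>
    first
      | linear_combination key
      | linear_combination key2

include hσ hσ2 h2 in
theorem Sz_trans (o : Option (F × F)) :
    ∃ g ∈ Sz F m, JP g.1 ∧ g • pt σ none = pt σ o := by
  rcases o with _ | ⟨a, b⟩
  · exact ⟨1, Subgroup.one_mem _, JP_one, one_smul _ _⟩
  · refine ⟨tS σ a b * wS h2, Subgroup.mul_mem _ (tS_mem σ hσ hσ2 h2 a b)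
      (wS_mem σ hσ hσ2 h2), (JP_tM σ h2 a b).mul JP_wM, ?_⟩
    rw [mul_smul, wS_inf, tS_aff σ hσ2 h2]
    simp

include hσ hσ2 h2 in
theorem Sz_two_trans (o1 o2 : Option (F × F)) (hne : o1 ≠ o2) :
    ∃ g ∈ Sz F m, JP g.1 ∧ g • pt σ none = pt σ o1 ∧ g • pt σ (some (0, 0)) = pt σ o2 := by
  obtain ⟨h, hh, hJ, h1⟩ := Sz_trans σ hσ hσ2 h2 o1
  obtain ⟨o', ho'⟩ := Sz_pt σ hσ h⁻¹ (Subgroup.inv_mem _ hh) o2
  rcases o' with _ | ⟨a, b⟩
  · exfalso
    apply hne
    apply pt_inj σ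
    rw [← h1, ← ho', smul_inv_smul]
  · refine ⟨h * tS σ a b, Subgroup.mul_mem _ hh (tS_mem σ hσ hσ2 h2 a b),
      hJ.mul (JP_tM σ h2 a b), ?_, ?_⟩
    · rw [mul_smul, tS_inf, h1]
    · rw [mul_smul, tS_aff σ hσ2 h2]
      simp only [zero_add, mul_zero, add_zero]
      rw [← ho', smul_inv_smul]

include hσ hσ2 hτ h2 in
theorem Sz_fix_two (hm : 1 ≤ m) (hF : Fintype.card F = 2 ^ (2 * m + 1))
    (g : Matrix.SpecialLinearGroup (Fin 4) F) (hg : g ∈ Sz F m)
    (h1 : g • pt σ none = pt σ none) (h0 : g • pt σ (some (0, 0)) = pt σ (some (0, 0))) :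
    ∃ κ : Fˣ, g = dS σ τ hτ κ := by
  obtain ⟨α, hα, hinf⟩ := smul_pt_eq σ g _ _ h1
  obtain ⟨δ, hδ, hzero⟩ := smul_pt_eq σ g _ _ h0
  obtain ⟨κ, hκ, hM⟩ := torus_of_fix σ τ hσ2 hτ h2 hm hF hσ g.1 g.2
    ((mem_Sz_iff σ hσ g).mp hg) α δ hα hδ hinf hzero
  exact ⟨Units.mk0 κ hκ, Subtype.ext hM⟩

theorem dS_mul (κ κ' : Fˣ) : dS σ τ hτ (κ * κ') = dS σ τ hτ κ * dS σ τ hτ κ' := by
  apply Subtype.ext
  show dM σ τ ((κ * κ' : Fˣ) : F) = dM σ τ κ * dM σ τ κ'
  rw [dM_mul, Units.val_mul]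

theorem dS_one : dS σ τ hτ 1 = 1 := by
  apply Subtype.ext
  show dM σ τ ((1 : Fˣ) : F) = 1
  rw [Units.val_one, dM_one]

theorem dM_22 (κ : F) : dM σ τ κ 2 2 = (κ * τ κ)⁻¹ * κ := by simp [dM]

theorem dM_33 (κ : F) : dM σ τ κ 3 3 = (κ * τ κ)⁻¹ := by simp [dM]

theorem dS_inj : Function.Injective (dS σ τ hτ) := by
  intro κ κ' h
  have h1 : dM σ τ (κ : F) = dM σ τ (κ' : F) := congrArg Subtype.val h
  have e22 := congrFun (congrFun h1 2) 2
  have e33 := congrFun (congrFun h1 3) 3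
  rw [dM_22, dM_22] at e22
  rw [dM_33, dM_33] at e33
  rw [e33] at e22
  have hτκ : τ (κ' : F) ≠ 0 := by rw [Ne, map_eq_zero]; exact κ'.ne_zero
  exact Units.ext (mul_left_cancel₀ (inv_ne_zero (mul_ne_zero κ'.ne_zero hτκ)) e22)

include hσ hσ2 hτ h2 in
theorem Sz_JP (hm : 1 ≤ m) (hF : Fintype.card F = 2 ^ (2 * m + 1))
    (g : Matrix.SpecialLinearGroup (Fin 4) F) (hg : g ∈ Sz F m) : JP g.1 := by
  obtain ⟨o, ho⟩ := Sz_pt σ hσ g hg none
  obtain ⟨o0, ho0⟩ := Sz_pt σ hσ g hg (some (0, 0))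
  have hne : o ≠ o0 := by
    rintro rfl
    have := (smul_left_cancel g (ho.trans ho0.symm))
    exact absurd (pt_inj σ this) (by simp)
  obtain ⟨h, hh, hJ, h1, h0⟩ := Sz_two_trans σ hσ hσ2 h2 o o0 hne
  have f1 : (h⁻¹ * g) • pt σ none = pt σ none := by
    rw [mul_smul, ho, ← h1, inv_smul_smul]
  have f0 : (h⁻¹ * g) • pt σ (some (0, 0)) = pt σ (some (0, 0)) := by
    rw [mul_smul, ho0, ← h0, inv_smul_smul]
  obtain ⟨κ, hκ⟩ := Sz_fix_two σ τ hσ hσ2 hτ h2 hm hF (h⁻¹ * g)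
    (Subgroup.mul_mem _ (Subgroup.inv_mem _ hh) hg) f1 f0
  have hg' : g = h * dS σ τ hτ κ := by
    rw [← hκ]
    group
  rw [hg']
  exact hJ.mul (JP_dM σ τ hτ κ κ.ne_zero)

include hσ hσ2 hτ h2 in
theorem Sz_torus_iso (hm : 1 ≤ m) (hF : Fintype.card F = 2 ^ (2 * m + 1)) :
    Nonempty (↥(MulAction.stabilizer (Sz F m) (suzukiPointInfinity F) ⊓
      MulAction.stabilizer (Sz F m) (suzukiPointZero F)) ≃* Fˣ) := by
  let ψ : Fˣ →* Sz F m :=
    { toFun := fun κ => ⟨dS σ τ hτ κ, dS_mem σ τ hσ hσ2 hτ κ⟩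
      map_one' := Subtype.ext (dS_one σ τ hτ)
      map_mul' := fun κ κ' => Subtype.ext (dS_mul σ τ hτ κ κ') }
  have hinj : Function.Injective ψ := fun κ κ' h => dS_inj σ τ hτ (congrArg Subtype.val h)
  have hrange : ψ.range = MulAction.stabilizer (Sz F m) (suzukiPointInfinity F) ⊓
      MulAction.stabilizer (Sz F m) (suzukiPointZero F) := by
    ext g
    rw [Subgroup.mem_inf, MulAction.mem_stabilizer_iff, MulAction.mem_stabilizer_iff,
      pt_inf_eq σ, pt_zero_eq σ]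
    constructor
    · rintro ⟨κ, rfl⟩
      refine ⟨dS_inf σ τ hτ κ, ?_⟩
      have h3 := dS_aff σ τ hσ2 hτ κ 0 0
      simp only [mul_zero] at h3
      exact h3
    · rintro ⟨h1, h0⟩
      obtain ⟨κ, hκ⟩ := Sz_fix_two σ τ hσ hσ2 hτ h2 hm hF g.1 g.2 h1 h0
      exact ⟨κ, Subtype.ext hκ.symm⟩
  exact ⟨((MonoidHom.ofInjective hinj).trans (MulEquiv.subgroupCongr hrange)).symm⟩

include hσ hσ2 hτ h2 in
theorem card_Sz (hm : 1 ≤ m) (hF : Fintype.card F = 2 ^ (2 * m + 1)) :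
    Nat.card (Sz F m) =
      Fintype.card F ^ 2 * (Fintype.card F ^ 2 + 1) * (Fintype.card F - 1) := by
  have horb : MulAction.orbit (Sz F m) ((pt σ none, pt σ (some (0, 0))) :
      Projectivization F (Fin 4 → F) × Projectivization F (Fin 4 → F)) =
      (Prod.map (pt σ) (pt σ)) '' ((Finset.univ : Finset (Option (F × F))).offDiag : Set _) := by
    ext ⟨p1, p2⟩
    constructor
    · rintro ⟨g, hg⟩
      obtain ⟨o1, ho1⟩ := Sz_pt σ hσ g.1 g.2 none
      obtain ⟨o2, ho2⟩ := Sz_pt σ hσ g.1 g.2 (some (0, 0))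
      have e1 : p1 = pt σ o1 := by
        rw [← ho1]
        exact (congrArg Prod.fst hg).symm
      have e2 : p2 = pt σ o2 := by
        rw [← ho2]
        exact (congrArg Prod.snd hg).symm
      refine ⟨(o1, o2), ?_, ?_⟩
      · rw [Finset.mem_coe, Finset.mem_offDiag]
        refine ⟨Finset.mem_univ _, Finset.mem_univ _, ?_⟩
        intro h
        have h' : o1 = o2 := h
        rw [h'] at ho1
        have := (smul_left_cancel g.1 (ho1.trans ho2.symm))
        exact absurd (pt_inj σ this) (by simp)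
      · rw [e1, e2]
        rfl
    · rintro ⟨⟨o1, o2⟩, ho, hp⟩
      rw [Finset.mem_coe, Finset.mem_offDiag] at ho
      obtain ⟨g, hg, -, h1, h0⟩ := Sz_two_trans σ hσ hσ2 h2 o1 o2 ho.2.2
      refine ⟨⟨g, hg⟩, ?_⟩
      rw [← hp]
      exact Prod.ext h1 h0
  have hstab : MulAction.stabilizer (Sz F m) ((pt σ none, pt σ (some (0, 0))) :
      Projectivization F (Fin 4 → F) × Projectivization F (Fin 4 → F)) =
      MulAction.stabilizer (Sz F m) (suzukiPointInfinity F) ⊓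
        MulAction.stabilizer (Sz F m) (suzukiPointZero F) := by
    ext g
    rw [Subgroup.mem_inf, MulAction.mem_stabilizer_iff, MulAction.mem_stabilizer_iff,
      MulAction.mem_stabilizer_iff, pt_zero_eq σ, pt_inf_eq σ, Prod.smul_mk, Prod.mk.injEq]
  have h1 := Subgroup.card_mul_index (MulAction.stabilizer (Sz F m)
    ((pt σ none, pt σ (some (0, 0))) :
      Projectivization F (Fin 4 → F) × Projectivization F (Fin 4 → F)))
  obtain ⟨e⟩ := Sz_torus_iso σ τ hσ hσ2 hτ h2 hm hF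
  rw [MulAction.index_stabilizer, horb, hstab, Nat.card_congr e.toEquiv, Nat.card_units,
    Set.ncard_image_of_injective _ (Function.Injective.prodMap (pt_inj σ) (pt_inj σ)),
    Set.ncard_coe_finset, Finset.offDiag_card, Finset.card_univ, Fintype.card_option,
    Fintype.card_prod, Nat.card_eq_fintype_card] at h1
  rw [← h1]
  have e3 : (Fintype.card F * Fintype.card F + 1) * (Fintype.card F * Fintype.card F + 1) -
      (Fintype.card F * Fintype.card F + 1) =
      (Fintype.card F * Fintype.card F + 1) * (Fintype.card F * Fintype.card F) := by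
    rw [Nat.mul_add_one, Nat.add_sub_cancel]
  rw [e3]
  ring

include hσ hσ2 hτ h2 in
theorem card_Sz_inf (hm : 1 ≤ m) (hF : Fintype.card F = 2 ^ (2 * m + 1)) :
    Nat.card (MulAction.stabilizer (Sz F m) (suzukiPointInfinity F)) =
      Fintype.card F ^ 2 * (Fintype.card F - 1) := by
  have horb : MulAction.orbit (Sz F m) (suzukiPointInfinity F) = Set.range (pt σ) := by
    ext p
    constructor
    · rintro ⟨g, rfl⟩
      obtain ⟨o, ho⟩ := Sz_pt σ hσ g.1 g.2 none
      exact ⟨o, ho.symm⟩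
    · rintro ⟨o, rfl⟩
      obtain ⟨g, hg, -, h⟩ := Sz_trans σ hσ hσ2 h2 o
      exact ⟨⟨g, hg⟩, h⟩
  have h1 := Subgroup.card_mul_index (MulAction.stabilizer (Sz F m) (suzukiPointInfinity F))
  rw [MulAction.index_stabilizer, horb, card_Sz σ τ hσ hσ2 hτ h2 hm hF, ← Set.image_univ,
    Set.ncard_image_of_injective _ (pt_inj σ), Set.ncard_univ,
    Nat.card_eq_fintype_card (α := Option (F × F)), Fintype.card_option, Fintype.card_prod] at h1
  have h3 : Nat.card (MulAction.stabilizer (Sz F m) (suzukiPointInfinity F)) *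
      (Fintype.card F * Fintype.card F + 1) =
      (Fintype.card F ^ 2 * (Fintype.card F - 1)) * (Fintype.card F * Fintype.card F + 1) := by
    rw [h1]
    ring
  exact Nat.eq_of_mul_eq_mul_right (by positivity) h3

end group


end

end Cfsg.Agent.Helper3
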