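import Mathlib
import Cfsg.Agent.Helper3.Suzuki
import Cfsg.Agent.Helper3.Zassenhaus

set_option autoImplicit false
set_option linter.unusedSectionVars false
set_option linter.style.haveILetI false
set_option linter.unusedSimpArgs false
set_option linter.unusedVariables false

namespace Cfsg.Agent.Helper3

open scoped Classical
open Cfsg Matrix

noncomputable section

variable {F : Type*} [Field F] [Fintype F] {m : ℕ} (σ τ : F →+* F)
  (hσ : ∀ x, σ x = x ^ (2 ^ (m + 1)))
  (hσ2 : ∀ x, σ (σ x) = x ^ 2) (hτ : ∀ x, τ x ^ 2 = σ x) (h2 : (2 : F) = 0)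

/-- ovoid points as elements of the subtype -/
def ptO (hσ : ∀ x, σ x = x ^ (2 ^ (m + 1))) (o : Option (F × F)) : suzukiOvoid F m :=
  ⟨pt σ o, (mem_ovoid_iff σ hσ _).mpr ⟨o, rfl⟩⟩

include hσ hσ2 hτ h2 in
theorem Sz_three (hm : 1 ≤ m) (hF : Fintype.card F = 2 ^ (2 * m + 1))
    (g : Matrix.SpecialLinearGroup (Fin 4) F) (hg : g ∈ Sz F m) (oa ob oc : Option (F × F))
    (hab : oa ≠ ob) (hbc : ob ≠ oc) (hac : oa ≠ oc) (ha : g • pt σ oa = pt σ oa)
    (hb : g • pt σ ob = pt σ ob) (hc : g • pt σ oc = pt σ oc) : g = 1 := by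
  obtain ⟨h, hh, -, h1, h0⟩ := Sz_two_trans σ hσ hσ2 h2 oa ob hab
  have f1 : (h⁻¹ * g * h) • pt σ none = pt σ none := by
    rw [mul_smul, mul_smul, h1, ha, ← h1, inv_smul_smul]
  have f0 : (h⁻¹ * g * h) • pt σ (some (0, 0)) = pt σ (some (0, 0)) := by
    rw [mul_smul, mul_smul, h0, hb, ← h0, inv_smul_smul]
  have hmem : h⁻¹ * g * h ∈ Sz F m :=
    Subgroup.mul_mem _ (Subgroup.mul_mem _ (Subgroup.inv_mem _ hh) hg) hh
  obtain ⟨κ, hκ⟩ := Sz_fix_two σ τ hσ hσ2 hτ h2 hm hF _ hmem f1 f0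
  obtain ⟨o3, ho3⟩ := Sz_pt σ hσ h⁻¹ (Subgroup.inv_mem _ hh) oc
  have f3 : (h⁻¹ * g * h) • pt σ o3 = pt σ o3 := by
    rw [mul_smul, mul_smul, ← ho3, smul_inv_smul, hc]
  have ho3a : o3 ≠ none := by
    rintro rfl
    apply hac
    apply pt_inj σ
    rw [← h1, ← ho3, smul_inv_smul]
  have ho3b : o3 ≠ some (0, 0) := by
    rintro rfl
    apply hbc
    apply pt_inj σ
    rw [← h0, ← ho3, smul_inv_smul]
  rcases o3 with _ | ⟨x, y⟩
  · exact absurd rfl ho3a
  · rw [hκ, dS_aff σ τ hσ2 hτ] at f3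
    have f4 := pt_inj σ f3
    simp only [Option.some.injEq, Prod.mk.injEq] at f4
    obtain ⟨fx, fy⟩ := f4
    have hκ1 : κ = 1 := by
      by_cases hx : x = 0
      · have hy : y ≠ 0 := by
          rintro rfl
          exact ho3b (by rw [hx])
        have e : (κ : F) * σ κ = 1 := by
          have : ((κ : F) * σ κ) * y = 1 * y := by rw [fy, one_mul]
          exact mul_right_cancel₀ hy this
        have e2 : σ (κ : F) = (κ : F)⁻¹ := eq_inv_of_mul_eq_one_right e
        have e3 : (κ : F) ^ 2 = κ := by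
          have := congrArg σ e2
          rw [hσ2, map_inv₀, e2, inv_inv] at this
          exact this
        apply Units.ext
        have e4 : (κ : F) * ((κ : F) - 1) = 0 := by linear_combination e3
        rcases mul_eq_zero.mp e4 with h5 | h5
        · exact absurd h5 κ.ne_zero
        · exact sub_eq_zero.mp h5
      · apply Units.ext
        have : (κ : F) * x = 1 * x := by rw [fx, one_mul]
        exact mul_right_cancel₀ hx this
    rw [hκ1, dS_one] at hκ
    calc g = h * (h⁻¹ * g * h) * h⁻¹ := by group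
      _ = 1 := by rw [hκ]; group

theorem ovoid_odd (hF : Fintype.card F = 2 ^ (2 * m + 1)) [Fintype (suzukiOvoid F m)] :
    Odd (Fintype.card (suzukiOvoid F m)) := by
  rw [← Nat.card_eq_fintype_card, Cfsg.Agent.S0326.result, hF]
  exact ⟨2 ^ (2 * m) * 2 ^ (2 * m + 1), by ring⟩

include hσ hσ2 hτ h2 in
theorem Sz_zassenhaus (hm : 1 ≤ m) (hF : Fintype.card F = 2 ^ (2 * m + 1)) :
    IsZassenhausGroup (Sz F m) (suzukiOvoid F m) := by
  have hsurj : ∀ x : suzukiOvoid F m, ∃ o, x = ptO σ hσ o := fun x => by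
    obtain ⟨o, ho⟩ := (mem_ovoid_iff σ hσ _).mp x.2
    exact ⟨o, Subtype.ext ho⟩
  have hinj : ∀ o o', ptO σ hσ o = ptO σ hσ o' → o = o' :=
    fun o o' h => pt_inj σ (congrArg Subtype.val h)
  have hsm : ∀ (g : Sz F m) (o o' : Option (F × F)),
      g • ptO σ hσ o = ptO σ hσ o' ↔ g.1 • pt σ o = pt σ o' := fun g o o' => Subtype.ext_iff
  have hF8 : 8 ≤ Fintype.card F := by
    rw [hF]
    calc 8 = 2 ^ 3 := by norm_num
      _ ≤ 2 ^ (2 * m + 1) := Nat.pow_le_pow_right (by norm_num) (by omega)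
  obtain ⟨κ, hκ⟩ : ∃ κ : Fˣ, κ ≠ 1 := by
    haveI : Nontrivial Fˣ := by
      rw [← Fintype.one_lt_card_iff_nontrivial, Fintype.card_units]
      omega
    exact exists_ne 1
  let d : Sz F m := ⟨dS σ τ hτ κ, dS_mem σ τ hσ hσ2 hτ κ⟩
  have hd1 : d ≠ 1 := by
    intro h
    apply hκ
    apply dS_inj σ τ hτ
    rw [dS_one]
    exact congrArg Subtype.val h
  have hd_inf : d • ptO σ hσ none = ptO σ hσ none := (hsm d _ _).mpr (dS_inf σ τ hτ κ)
  have hd_zero : d • ptO σ hσ (some (0, 0)) = ptO σ hσ (some (0, 0)) := by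
    rw [hsm]
    have h3 := dS_aff σ τ hσ2 hτ κ 0 0
    simp only [mul_zero] at h3
    exact h3
  have hne0 : ptO σ hσ none ≠ ptO σ hσ (some ((0 : F), (0 : F))) := fun h => by
    have := hinj _ _ h
    simp at this
  have three : ∀ g : Sz F m, ∀ a b c : suzukiOvoid F m, a ≠ b → b ≠ c → a ≠ c → g • a = a →
      g • b = b → g • c = c → g = 1 := by
    intro g a b c hab hbc hac ha hb hc
    obtain ⟨oa, rfl⟩ := hsurj a
    obtain ⟨ob, rfl⟩ := hsurj b
    obtain ⟨oc, rfl⟩ := hsurj c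
    apply Subtype.ext
    exact Sz_three σ τ hσ hσ2 hτ h2 hm hF g.1 g.2 oa ob oc (fun h => hab (by rw [h]))
      (fun h => hbc (by rw [h])) (fun h => hac (by rw [h])) ((hsm g _ _).mp ha)
      ((hsm g _ _).mp hb) ((hsm g _ _).mp hc)
  have two : ∀ {a b c d : suzukiOvoid F m}, a ≠ b → c ≠ d →
      ∃ g : Sz F m, g • a = c ∧ g • b = d := by
    intro a b c d hab hcd
    obtain ⟨oa, rfl⟩ := hsurj a
    obtain ⟨ob, rfl⟩ := hsurj b
    obtain ⟨oc, rfl⟩ := hsurj c
    obtain ⟨od, rfl⟩ := hsurj d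
    obtain ⟨g1, hg1, -, h11, h10⟩ := Sz_two_trans σ hσ hσ2 h2 oa ob (fun h => hab (by rw [h]))
    obtain ⟨g2, hg2, -, h21, h20⟩ := Sz_two_trans σ hσ hσ2 h2 oc od (fun h => hcd (by rw [h]))
    refine ⟨⟨g2 * g1⁻¹, Subgroup.mul_mem _ hg2 (Subgroup.inv_mem _ hg1)⟩, ?_, ?_⟩
    · rw [hsm]
      show (g2 * g1⁻¹) • pt σ oa = pt σ oc
      rw [mul_smul, ← h11, inv_smul_smul, h21]
    · rw [hsm]
      show (g2 * g1⁻¹) • pt σ ob = pt σ od
      rw [mul_smul, ← h10, inv_smul_smul, h20]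
  refine ⟨⟨?_⟩, MulAction.is_two_pretransitive_iff.mpr two, three,
    ⟨d, hd1, ptO σ hσ none, ptO σ hσ (some (0, 0)), hne0, hd_inf, hd_zero⟩, ?_⟩
  · intro g1 g2 hall
    have hfix : ∀ a : suzukiOvoid F m, (g1⁻¹ * g2) • a = a := fun a => by
      rw [mul_smul, ← hall a, inv_smul_smul]
    have hne1 : ptO σ hσ (some ((0 : F), (0 : F))) ≠ ptO σ hσ (some ((1 : F), (0 : F))) :=
      fun h => by
        have := hinj _ _ h
        simp at this
    have hne2 : ptO σ hσ none ≠ ptO σ hσ (some ((1 : F), (0 : F))) := fun h => by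
      have := hinj _ _ h
      simp at this
    have := three (g1⁻¹ * g2) _ _ _ hne0 hne1 hne2 (hfix _) (hfix _) (hfix _)
    exact inv_mul_eq_one.mp this
  · intro N hN hT
    by_contra hcon
    have hcon' : ∀ a : suzukiOvoid F m, MulAction.stabilizer N a = ⊥ := by
      intro a
      by_contra h
      exact hcon ⟨a, h⟩
    have hfree : ∀ (n : N) (a : suzukiOvoid F m), n • a = a → n = 1 := by
      intro n a hna
      have : n ∈ MulAction.stabilizer N a := hna
      rw [hcon' a] at this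
      exact Subgroup.mem_bot.mp this
    obtain ⟨n, hn⟩ := MulAction.exists_smul_eq N (ptO σ hσ none) (ptO σ hσ (some (0, 0)))
    have hn' : (n : Sz F m) • ptO σ hσ none = ptO σ hσ (some (0, 0)) := hn
    let n' : N := ⟨d * n * d⁻¹, hN.conj_mem n.1 n.2 d⟩
    have hn'2 : n' • ptO σ hσ none = ptO σ hσ (some (0, 0)) := by
      show (d * (n : Sz F m) * d⁻¹) • ptO σ hσ none = _
      rw [mul_smul, mul_smul]
      have : d⁻¹ • ptO σ hσ none = ptO σ hσ none := by rw [inv_smul_eq_iff, hd_inf]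
      rw [this, hn', hd_zero]
    have heq : n' = n := by
      have : (n⁻¹ * n') • ptO σ hσ none = ptO σ hσ none := by
        rw [mul_smul, hn'2, ← hn, inv_smul_smul]
      have := hfree _ _ this
      exact (inv_mul_eq_one.mp this).symm
    have hcomm : d * (n : Sz F m) = n * d := by
      have h5 : d * (n : Sz F m) * d⁻¹ = n := congrArg Subtype.val heq
      calc d * (n : Sz F m) = d * (n : Sz F m) * d⁻¹ * d := by group
        _ = n * d := by rw [h5]
    obtain ⟨P, hP⟩ : ∃ P : suzukiOvoid F m, P = (n : Sz F m) • ptO σ hσ (some (0, 0)) :=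
      ⟨_, rfl⟩
    have hdP : d • P = P := by
      rw [hP, ← mul_smul, hcomm, mul_smul, hd_zero]
    have hPcases : P = ptO σ hσ none ∨ P = ptO σ hσ (some (0, 0)) := by
      by_contra hne
      rw [not_or] at hne
      exact hd1 (three d _ _ _ hne0 (Ne.symm hne.2) (Ne.symm hne.1) hd_inf hd_zero hdP)
    have hn1 : n ≠ 1 := by
      rintro rfl
      rw [one_smul] at hn
      exact hne0 hn
    rcases hPcases with hP1 | hP2
    · have hnn : (n * n) • ptO σ hσ none = ptO σ hσ none := by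
        rw [mul_smul, hn]
        rw [← hP1, hP]
        rfl
      have hnn1 : n * n = 1 := hfree _ _ hnn
      haveI : Finite (suzukiOvoid F m) := (ovoid_finite m).to_subtype
      haveI : Fintype (suzukiOvoid F m) := Fintype.ofFinite _
      obtain ⟨c, hc⟩ := invol_has_fixed_point (ovoid_odd hF) n hnn1
      exact hn1 (hfree n c hc)
    · exact hn1 (hfree n (ptO σ hσ (some (0, 0))) (hP.symm.trans hP2))

include hσ hσ2 hτ h2 in
theorem Sz_simple (hm : 1 ≤ m) (hF : Fintype.card F = 2 ^ (2 * m + 1)) :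
    IsSimpleGroup (Sz F m) := by
  have hZ := Sz_zassenhaus σ τ hσ hσ2 hτ h2 hm hF
  have Z := zdata_of hZ
  haveI : Finite (suzukiOvoid F m) := (ovoid_finite m).to_subtype
  haveI : Fintype (suzukiOvoid F m) := Fintype.ofFinite _
  obtain ⟨g, hg1, -⟩ := hZ.2.2.2.1
  exact
    { exists_pair_ne := ⟨g, 1, hg1⟩
      eq_bot_or_eq_top_of_normal := fun N hN => by
        by_cases h : N = ⊥
        · left; exact h
        · right; exact Z.normal_eq_top_of_odd (ovoid_odd hF) N h }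

end

end Cfsg.Agent.Helper3
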