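import Mathlib
import Cfsg.Agent.Helper3.SuzukiZ

set_option autoImplicit false
set_option linter.unusedSectionVars false
set_option linter.style.haveILetI false
set_option linter.unusedSimpArgs false
set_option linter.unusedVariables false

namespace Cfsg.Agent.Helper3

open scoped Classical
open Cfsg Matrix
open Cfsg.Agent.S0335 (fv ovA tM ovO fv_aniso fv_inv_id fv_translate tM_mulVec)

noncomputable section

/-- transfer of the relevant invariants along a group isomorphism -/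
theorem iso_transfer {A B : Type*} [Group A] [Group B] (e : A ≃* B) :
    Nat.card A = Nat.card B ∧ Monoid.exponent A = Monoid.exponent B ∧
      (Subgroup.center A = commutator A → Subgroup.center B = commutator B) ∧
      Nat.card (Subgroup.center A) = Nat.card (Subgroup.center B) := by
  have hc : Subgroup.center B = (Subgroup.center A).map e.toMonoidHom := by
    ext x
    rw [Subgroup.mem_map, Subgroup.mem_center_iff]
    constructor
    · intro hx
      refine ⟨e.symm x, ?_, by simp⟩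
      rw [Subgroup.mem_center_iff]
      intro g
      apply e.injective
      rw [map_mul, map_mul, e.apply_symm_apply]
      exact hx (e g)
    · rintro ⟨y, hy, rfl⟩ g
      rw [Subgroup.mem_center_iff] at hy
      have := congrArg e (hy (e.symm g))
      rw [map_mul, map_mul, e.apply_symm_apply] at this
      exact this
  have hk : commutator B = (commutator A).map e.toMonoidHom := by
    rw [commutator_def, commutator_def, Subgroup.map_commutator,
      Subgroup.map_top_of_surjective _ e.surjective]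
  refine ⟨Nat.card_congr e.toEquiv, Monoid.exponent_eq_of_mulEquiv e, ?_, ?_⟩
  · intro h
    rw [hc, hk, h]
  · rw [hc]
    exact (Subgroup.card_map_of_injective e.injective).symm

theorem fact_two (k n : ℕ) (hn : Odd n) : (2 ^ k * n).factorization 2 = k := by
  have hn0 : n ≠ 0 := (Odd.pos hn).ne'
  rw [Nat.factorization_mul (by positivity) hn0, Finsupp.add_apply,
    Nat.Prime.factorization_pow Nat.prime_two, Finsupp.single_eq_same,
    Nat.factorization_eq_zero_of_not_dvd (by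
      rw [Nat.two_dvd_ne_zero]
      exact Nat.odd_iff.mp hn)]
  rfl

variable {F : Type*} [Field F] [Fintype F] {m : ℕ} (σ τ : F →+* F)
  (hσ : ∀ x, σ x = x ^ (2 ^ (m + 1)))
  (hσ2 : ∀ x, σ (σ x) = x ^ 2) (hτ : ∀ x, τ x ^ 2 = σ x) (h2 : (2 : F) = 0)

include hσ2 h2 in
theorem tM_mul (a b c d : F) : tM σ a b * tM σ c d = tM σ (a + c) (b + d + σ a * c) := by
  have hf : fv σ (a + c) (b + d + σ a * c) =
      fv σ c d + a * d + (b + σ a * a) * c + fv σ a b := by
    rw [add_comm a c, add_comm b d]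
    exact fv_translate σ hσ2 h2 c d a b
  have hf' : fv σ (a + c) (d + b + σ a * c) =
      fv σ c d + a * d + (b + σ a * a) * c + fv σ a b := by
    rw [add_comm d b]
    exact hf
  ext i j
  fin_cases i <;> fin_cases j <;>
    simp [tM, Matrix.mul_apply, Fin.sum_univ_four] <;>
    first
      | ring1
      | linear_combination (σ a * c) * h2
      | linear_combination -(σ a * c) * h2
      | exact hf.symm
      | exact hf'.symm
      | linear_combination -hf
      | linear_combination -hf'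

theorem tM_zero : tM σ (0 : F) 0 = 1 := by
  ext i j
  fin_cases i <;> fin_cases j <;> simp [tM, fv_zero, Matrix.one_apply]

include hσ2 h2 in
theorem tS_mul (a b c d : F) : tS σ a b * tS σ c d = tS σ (a + c) (b + d + σ a * c) :=
  Subtype.ext (tM_mul σ hσ2 h2 a b c d)

theorem tS_zero : tS σ (0 : F) 0 = 1 := Subtype.ext (tM_zero σ)

theorem tM_23 (a b : F) : tM σ a b 2 3 = a := by simp [tM]

theorem tM_13 (a b : F) : tM σ a b 1 3 = b := by simp [tM]

theorem tS_inj (a b c d : F) (h : tS σ a b = tS σ c d) : a = c ∧ b = d := by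
  have h1 : tM σ a b = tM σ c d := congrArg Subtype.val h
  have e1 := congrFun (congrFun h1 2) 3
  have e2 := congrFun (congrFun h1 1) 3
  rw [tM_23, tM_23] at e1
  rw [tM_13, tM_13] at e2
  exact ⟨e1, e2⟩

include hσ2 in
theorem dM_tM (κ a b : F) :
    dM σ τ κ * tM σ a b = tM σ (κ * a) (κ * σ κ * b) * dM σ τ κ := by
  have hf : fv σ (κ * a) (κ * σ κ * b) = σ κ * κ ^ 2 * fv σ a b := by
    unfold fv
    simp only [map_mul, hσ2]
    ring
  unfold dM
  ext i j
  rw [Matrix.diagonal_mul, Matrix.mul_diagonal]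
  fin_cases i <;> fin_cases j <;> simp [tM, hf] <;> ring1

/-- the Sylow `2`-subgroup fixing the point at infinity -/
def szU (hσ : ∀ x, σ x = x ^ (2 ^ (m + 1))) (hσ2 : ∀ x, σ (σ x) = x ^ 2) (h2 : (2 : F) = 0) :
    Subgroup (Sz F m) where
  carrier := {g | ∃ a b : F, g.1 = tS σ a b}
  mul_mem' := by
    rintro g h ⟨a, b, hg⟩ ⟨c, d, hh⟩
    refine ⟨a + c, b + d + σ a * c, ?_⟩
    show g.1 * h.1 = _
    rw [hg, hh, tS_mul σ hσ2 h2]
  one_mem' := ⟨0, 0, (tS_zero σ).symm⟩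
  inv_mem' := by
    rintro g ⟨a, b, hg⟩
    refine ⟨-a, -b + σ a * a, ?_⟩
    show g.1⁻¹ = _
    rw [hg]
    apply inv_eq_of_mul_eq_one_right
    rw [tS_mul σ hσ2 h2]
    have e1 : a + -a = 0 := by ring
    have e2 : b + (-b + σ a * a) + σ a * -a = 0 := by ring
    rw [e1, e2, tS_zero]

/-- elements of `szU` -/
def uElt (hσ : ∀ x, σ x = x ^ (2 ^ (m + 1))) (hσ2 : ∀ x, σ (σ x) = x ^ 2) (h2 : (2 : F) = 0)
    (a b : F) : szU σ hσ hσ2 h2 :=
  ⟨⟨tS σ a b, tS_mem σ hσ hσ2 h2 a b⟩, a, b, rfl⟩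

theorem uElt_surj (g : szU σ hσ hσ2 h2) : ∃ a b, g = uElt σ hσ hσ2 h2 a b := by
  obtain ⟨a, b, h⟩ := g.2
  exact ⟨a, b, Subtype.ext (Subtype.ext h)⟩

theorem uElt_inj (a b c d : F) (h : uElt σ hσ hσ2 h2 a b = uElt σ hσ hσ2 h2 c d) :
    a = c ∧ b = d :=
  tS_inj σ a b c d (congrArg (fun g : szU σ hσ hσ2 h2 => g.1.1) h)

theorem uElt_mul (a b c d : F) :
    uElt σ hσ hσ2 h2 a b * uElt σ hσ hσ2 h2 c d =
      uElt σ hσ hσ2 h2 (a + c) (b + d + σ a * c) :=
  Subtype.ext (Subtype.ext (tS_mul σ hσ2 h2 a b c d))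

theorem uElt_zero : uElt σ hσ hσ2 h2 0 0 = 1 :=
  Subtype.ext (Subtype.ext (tS_zero σ))

theorem card_szU : Nat.card (szU σ hσ hσ2 h2) = Fintype.card F * Fintype.card F := by
  have e : F × F ≃ szU σ hσ hσ2 h2 :=
    Equiv.ofBijective (fun p => uElt σ hσ hσ2 h2 p.1 p.2) ⟨by
      rintro ⟨a, b⟩ ⟨c, d⟩ h
      obtain ⟨h1, h2'⟩ := uElt_inj σ hσ hσ2 h2 a b c d h
      rw [h1, h2'], by
      intro g
      obtain ⟨a, b, h⟩ := uElt_surj σ hσ hσ2 h2 g
      exact ⟨(a, b), h.symm⟩⟩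
  rw [← Nat.card_congr e, Nat.card_eq_fintype_card, Fintype.card_prod]

theorem szU_pow_four (g : szU σ hσ hσ2 h2) : g ^ 4 = 1 := by
  obtain ⟨a, b, rfl⟩ := uElt_surj σ hσ hσ2 h2 g
  have e1 : uElt σ hσ hσ2 h2 a b * uElt σ hσ hσ2 h2 a b = uElt σ hσ hσ2 h2 0 (σ a * a) := by
    rw [uElt_mul]
    have h1 : a + a = 0 := by linear_combination a * h2
    have h3 : b + b + σ a * a = σ a * a := by linear_combination b * h2
    rw [h1, h3]
  have e2 : uElt σ hσ hσ2 h2 0 (σ a * a) * uElt σ hσ hσ2 h2 0 (σ a * a) = 1 := by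
    rw [uElt_mul, ← uElt_zero σ hσ hσ2 h2]
    have h1 : (0 : F) + 0 = 0 := by ring
    have h3 : σ a * a + σ a * a + σ 0 * 0 = 0 := by
      simp only [map_zero, mul_zero, add_zero]
      linear_combination (σ a * a) * h2
    rw [h1, h3]
  calc uElt σ hσ hσ2 h2 a b ^ 4 = (uElt σ hσ hσ2 h2 a b * uElt σ hσ hσ2 h2 a b) *
        (uElt σ hσ hσ2 h2 a b * uElt σ hσ hσ2 h2 a b) := by
          generalize uElt σ hσ hσ2 h2 a b = x
          simp only [pow_succ, pow_zero, one_mul, mul_assoc]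
    _ = 1 := by rw [e1, e2]

theorem szU_exponent : Monoid.exponent (szU σ hσ hσ2 h2) = 4 := by
  apply Nat.dvd_antisymm
  · exact Monoid.exponent_dvd_of_forall_pow_eq_one (szU_pow_four σ hσ hσ2 h2)
  · have h4 : orderOf (uElt σ hσ hσ2 h2 1 0) = 2 ^ (1 + 1) := by
      apply orderOf_eq_prime_pow
      · rw [pow_one, pow_two, uElt_mul, ← uElt_zero σ hσ hσ2 h2]
        intro h
        have := (uElt_inj σ hσ hσ2 h2 _ _ _ _ h).2
        simp at this
      · exact szU_pow_four σ hσ hσ2 h2 _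
    have := Monoid.order_dvd_exponent (uElt σ hσ hσ2 h2 1 0)
    rw [h4] at this
    exact this

include hσ2 in
theorem exists_sigma_ne (hF8 : 2 < Fintype.card F) : ∃ c0 : F, c0 - σ c0 ≠ 0 := by
  have : ∃ c0 : F, c0 ≠ 0 ∧ c0 ≠ 1 := by
    by_contra hcon
    have hsub : (Finset.univ : Finset F) ⊆ {0, 1} := by
      intro x _
      by_contra hx
      simp only [Finset.mem_insert, Finset.mem_singleton, not_or] at hx
      exact hcon ⟨x, hx.1, hx.2⟩
    have := Finset.card_le_card hsub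
    rw [Finset.card_univ] at this
    have h3 : ({0, 1} : Finset F).card ≤ 2 := Finset.card_le_two
    omega
  obtain ⟨c0, h0, h1⟩ := this
  refine ⟨c0, fun h => ?_⟩
  have hs : σ c0 = c0 := by linear_combination -h
  have h4 : c0 ^ 2 = c0 := by rw [← hσ2, hs, hs]
  have h5 : c0 * (c0 - 1) = 0 := by linear_combination h4
  rcases mul_eq_zero.mp h5 with h | h
  · exact h0 h
  · exact h1 (sub_eq_zero.mp h)

include hσ2 in
theorem norm_surj : Function.Surjective (fun l : F => l * σ l) := by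
  apply Finite.surjective_of_injective
  intro l l' h
  simp only at h
  by_cases hl' : l' = 0
  · subst hl'
    simp only [map_zero, mul_zero, mul_eq_zero, map_eq_zero, or_self] at h
    exact h
  · have hσl' : σ l' ≠ 0 := by rwa [Ne, map_eq_zero]
    obtain ⟨k, hk⟩ : ∃ k : F, k = l / l' := ⟨_, rfl⟩
    have e : k * σ k = 1 := by
      rw [hk, map_div₀]
      field_simp
      linear_combination h
    have hk0 : k ≠ 0 := left_ne_zero_of_mul_eq_one e
    have e2 : σ k = k⁻¹ := eq_inv_of_mul_eq_one_right e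
    have e3 : k ^ 2 = k := by
      have := congrArg σ e2
      rw [hσ2, map_inv₀, e2, inv_inv] at this
      exact this
    have e4 : k * (k - 1) = 0 := by linear_combination e3
    have hk1 : k = 1 := by
      rcases mul_eq_zero.mp e4 with h5 | h5
      · exact absurd h5 hk0
      · exact sub_eq_zero.mp h5
    rw [hk, div_eq_one_iff_eq hl'] at hk1
    exact hk1

include hσ2 in
theorem comm_surj (hF8 : 2 < Fintype.card F) (b : F) : ∃ a c : F, σ a * c - σ c * a = b := by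
  obtain ⟨c0, hc0⟩ := exists_sigma_ne σ hσ2 hF8
  obtain ⟨l, hl⟩ := norm_surj σ hσ2 (b / (c0 - σ c0))
  simp only at hl
  refine ⟨l, l * c0, ?_⟩
  rw [map_mul]
  have : σ l * (l * c0) - σ l * σ c0 * l = (l * σ l) * (c0 - σ c0) := by ring
  rw [this, hl, div_mul_cancel₀ _ hc0]

/-- the centre of `szU` -/
def szZ (hσ : ∀ x, σ x = x ^ (2 ^ (m + 1))) (hσ2 : ∀ x, σ (σ x) = x ^ 2) (h2 : (2 : F) = 0) :
    Subgroup (szU σ hσ hσ2 h2) where
  carrier := {g | ∃ b : F, g = uElt σ hσ hσ2 h2 0 b}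
  mul_mem' := by
    rintro _ _ ⟨b, rfl⟩ ⟨b', rfl⟩
    refine ⟨b + b', ?_⟩
    rw [uElt_mul]
    congr 1 <;> simp
  one_mem' := ⟨0, (uElt_zero σ hσ hσ2 h2).symm⟩
  inv_mem' := by
    rintro _ ⟨b, rfl⟩
    refine ⟨-b, ?_⟩
    apply inv_eq_of_mul_eq_one_right
    rw [uElt_mul, ← uElt_zero σ hσ hσ2 h2]
    congr 1 <;> simp

theorem szU_center (hF8 : 2 < Fintype.card F) :
    Subgroup.center (szU σ hσ hσ2 h2) = szZ σ hσ hσ2 h2 := by
  ext g
  rw [Subgroup.mem_center_iff]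
  constructor
  · intro hg
    obtain ⟨a, b, rfl⟩ := uElt_surj σ hσ hσ2 h2 g
    obtain ⟨c0, hc0⟩ := exists_sigma_ne σ hσ2 hF8
    have k1 := hg (uElt σ hσ hσ2 h2 1 0)
    have k2 := hg (uElt σ hσ hσ2 h2 c0 0)
    rw [uElt_mul, uElt_mul] at k1 k2
    have k1' := (uElt_inj σ hσ hσ2 h2 _ _ _ _ k1).2
    have k2' := (uElt_inj σ hσ hσ2 h2 _ _ _ _ k2).2
    simp only [map_one, one_mul, mul_one, zero_add, add_zero] at k1' k2'
    have e1 : σ a = a := by
      first
        | linear_combination k1'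
        | linear_combination -k1'
    rw [e1] at k2'
    have e3 : a * (c0 - σ c0) = 0 := by
      first
        | linear_combination k2'
        | linear_combination -k2'
    have ha : a = 0 := by
      rcases mul_eq_zero.mp e3 with h | h
      · exact h
      · exact absurd h hc0
    subst ha
    exact ⟨b, rfl⟩
  · rintro ⟨b, rfl⟩ g
    obtain ⟨c, d, rfl⟩ := uElt_surj σ hσ hσ2 h2 g
    rw [uElt_mul, uElt_mul]
    congr 1 <;> simp <;> ring

theorem szU_commutator (hF8 : 2 < Fintype.card F) :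
    commutator (szU σ hσ hσ2 h2) = szZ σ hσ hσ2 h2 := by
  apply le_antisymm
  · rw [commutator_def, Subgroup.commutator_le]
    intro x _ y _
    obtain ⟨a, b, rfl⟩ := uElt_surj σ hσ hσ2 h2 x
    obtain ⟨c, d, rfl⟩ := uElt_surj σ hσ hσ2 h2 y
    refine ⟨σ a * c - σ c * a, ?_⟩
    have hxy : uElt σ hσ hσ2 h2 a b * uElt σ hσ hσ2 h2 c d =
        uElt σ hσ hσ2 h2 0 (σ a * c - σ c * a) *
          (uElt σ hσ hσ2 h2 c d * uElt σ hσ hσ2 h2 a b) := by
      rw [uElt_mul, uElt_mul, uElt_mul]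
      congr 1 <;> simp <;> ring
    rw [commutatorElement_def, hxy]
    group
  · rintro g ⟨b, rfl⟩
    obtain ⟨a, c, hac⟩ := comm_surj σ hσ2 hF8 b
    have hxy : uElt σ hσ hσ2 h2 a 0 * uElt σ hσ hσ2 h2 c 0 =
        uElt σ hσ hσ2 h2 0 b * (uElt σ hσ hσ2 h2 c 0 * uElt σ hσ hσ2 h2 a 0) := by
      rw [uElt_mul, uElt_mul, uElt_mul, ← hac]
      congr 1 <;> simp <;> ring
    have hcomm : uElt σ hσ hσ2 h2 0 b =
        uElt σ hσ hσ2 h2 a 0 * uElt σ hσ hσ2 h2 c 0 * (uElt σ hσ hσ2 h2 a 0)⁻¹ *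
          (uElt σ hσ hσ2 h2 c 0)⁻¹ := by
      rw [hxy]
      group
    rw [hcomm, commutator_def, ← commutatorElement_def]
    exact Subgroup.commutator_mem_commutator (Subgroup.mem_top _) (Subgroup.mem_top _)

theorem card_szZ : Nat.card (szZ σ hσ hσ2 h2) = Fintype.card F := by
  have e : F ≃ szZ σ hσ hσ2 h2 :=
    Equiv.ofBijective (fun b => ⟨uElt σ hσ hσ2 h2 0 b, b, rfl⟩) ⟨by
      intro b b' h
      exact (uElt_inj σ hσ hσ2 h2 _ _ _ _ (congrArg Subtype.val h)).2, by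
      rintro ⟨g, b, rfl⟩
      exact ⟨b, rfl⟩⟩
  rw [← Nat.card_congr e, Nat.card_eq_fintype_card]

theorem odd_part (m : ℕ) : Odd (((2 ^ (2 * m + 1)) ^ 2 + 1) * (2 ^ (2 * m + 1) - 1)) := by
  obtain ⟨k, hk, hk1⟩ : ∃ k, 2 ^ (2 * m + 1) = 2 * k ∧ 1 ≤ k :=
    ⟨2 ^ (2 * m), by rw [pow_succ]; ring, Nat.one_le_two_pow⟩
  rw [hk]
  apply Odd.mul
  · exact ⟨2 * k * k, by ring⟩
  · exact Nat.odd_iff.mpr (by omega)

include hσ hσ2 hτ h2 in
theorem card_Sz_eq (hm : 1 ≤ m) (hF : Fintype.card F = 2 ^ (2 * m + 1)) :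
    Nat.card (Sz F m) =
      2 ^ (4 * m + 2) * (((2 ^ (2 * m + 1)) ^ 2 + 1) * (2 ^ (2 * m + 1) - 1)) := by
  rw [card_Sz σ τ hσ hσ2 hτ h2 hm hF, hF]
  have e : (2 ^ (2 * m + 1)) ^ 2 = 2 ^ (4 * m + 2) := by
    rw [← pow_mul]
    congr 1
    ring
  rw [e, mul_assoc]

include hσ hσ2 hτ h2 in
theorem Sz_sylow_two (hm : 1 ≤ m) (hF : Fintype.card F = 2 ^ (2 * m + 1))
    (P : Sylow 2 (Sz F m)) :
    Nat.card P = (2 ^ (2 * m + 1)) ^ 2 ∧ Monoid.exponent P = 4 ∧
      Subgroup.center P = commutator P ∧ Nat.card (Subgroup.center P) = 2 ^ (2 * m + 1) := by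
  have hF8 : 2 < Fintype.card F := by
    rw [hF]
    calc 2 < 2 ^ 3 := by norm_num
      _ ≤ 2 ^ (2 * m + 1) := Nat.pow_le_pow_right (by norm_num) (by omega)
  haveI : Finite (Sz F m) := by
    apply Nat.finite_of_card_ne_zero
    rw [card_Sz_eq σ τ hσ hσ2 hτ h2 hm hF]
    have := Odd.pos (odd_part m)
    positivity
  have hcard : Nat.card (szU σ hσ hσ2 h2) = 2 ^ (Nat.card (Sz F m)).factorization 2 := by
    rw [card_szU, card_Sz_eq σ τ hσ hσ2 hτ h2 hm hF, fact_two _ _ (odd_part m), hF, ← pow_add]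
    congr 1
    ring
  let P₀ : Sylow 2 (Sz F m) := Sylow.ofCard (szU σ hσ hσ2 h2) hcard
  obtain ⟨g, hg⟩ := MulAction.exists_smul_eq (Sz F m) P₀ P
  have e : szU σ hσ hσ2 h2 ≃* P := (Sylow.equivSMul P₀ g).trans
    (MulEquiv.subgroupCongr (congrArg (fun Q : Sylow 2 (Sz F m) => (Q : Subgroup (Sz F m))) hg))
  obtain ⟨t1, t2, t3, t4⟩ := iso_transfer e
  refine ⟨?_, ?_, ?_, ?_⟩
  · rw [← t1, card_szU, hF]
    ring
  · rw [← t2, szU_exponent]
  · exact t3 (by rw [szU_center σ hσ hσ2 h2 hF8, szU_commutator σ hσ hσ2 h2 hF8])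
  · rw [← t4, szU_center σ hσ hσ2 h2 hF8, card_szZ, hF]

end

end Cfsg.Agent.Helper3
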