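import Mathlib
import Cfsg.Agent.Helper3.SuzukiU

set_option autoImplicit false
set_option linter.unusedSectionVars false
set_option linter.style.haveILetI false
set_option linter.unusedSimpArgs false
set_option linter.unusedVariables false

namespace Cfsg.Agent.Helper3

open scoped Classical Pointwise
open Cfsg Matrix
open Cfsg.Agent.S0335 (fv ovA tM ovO fv_aniso fv_inv_id fv_translate tM_mulVec)

noncomputable section

section linalg

variable {F : Type*} [Field F] [Fintype F] {p : ℕ} [Fact p.Prime]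

/-- the permutation of vectors induced by a matrix of finite order -/
def mvPerm (x : Matrix (Fin 4) (Fin 4) F) (hx : x ^ p = 1) : Equiv.Perm (Fin 4 → F) where
  toFun v := x *ᵥ v
  invFun v := (x ^ (p - 1)) *ᵥ v
  left_inv v := by
    have hp : p - 1 + 1 = p := Nat.sub_add_cancel (Fact.out : p.Prime).one_le
    show x ^ (p - 1) *ᵥ (x *ᵥ v) = v
    rw [Matrix.mulVec_mulVec, ← pow_succ, hp, hx, Matrix.one_mulVec]
  right_inv v := by
    have hp : p - 1 + 1 = p := Nat.sub_add_cancel (Fact.out : p.Prime).one_le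
    show x *ᵥ (x ^ (p - 1) *ᵥ v) = v
    rw [Matrix.mulVec_mulVec, ← pow_succ', hp, hx, Matrix.one_mulVec]

theorem mvPerm_apply (x : Matrix (Fin 4) (Fin 4) F) (hx : x ^ p = 1) (v : Fin 4 → F) :
    mvPerm x hx v = x *ᵥ v := rfl

theorem mvPerm_pow (x : Matrix (Fin 4) (Fin 4) F) (hx : x ^ p = 1) (k : ℕ) (v : Fin 4 → F) :
    (mvPerm x hx ^ k) v = (x ^ k) *ᵥ v := by
  induction k generalizing v with
  | zero => simp
  | succ k ih =>
    rw [pow_succ, Equiv.Perm.mul_apply, ih, pow_succ, mvPerm_apply, Matrix.mulVec_mulVec]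

theorem card_fix_modEq (x : Matrix (Fin 4) (Fin 4) F) (hx : x ^ p = 1)
    (W : Submodule F (Fin 4 → F)) (hW : ∀ v ∈ W, x *ᵥ v ∈ W) :
    Fintype.card F ^ Module.finrank F ↥(W ⊓ LinearMap.ker (Matrix.toLin' (x - 1))) ≡
      Fintype.card F ^ Module.finrank F W [MOD p] := by
  have hWk : ∀ k : ℕ, ∀ v ∈ W, (x ^ k) *ᵥ v ∈ W := by
    intro k
    induction k with
    | zero => intro v hv; simpa using hv
    | succ k ih =>
      intro v hv
      rw [pow_succ, ← Matrix.mulVec_mulVec]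
      exact ih _ (hW v hv)
  have hiff : ∀ v, (mvPerm x hx v) ∈ W ↔ v ∈ W := by
    intro v
    constructor
    · intro h
      have h3 := hWk (p - 1) _ h
      have e : x ^ (p - 1) *ᵥ (mvPerm x hx v) = v := (mvPerm x hx).left_inv v
      rwa [e] at h3
    · exact hW v
  let s : Equiv.Perm ↥W := (mvPerm x hx).subtypePerm hiff
  have hs : s ^ p ^ 1 = 1 := by
    ext ⟨v, hv⟩
    rw [pow_one, Equiv.Perm.subtypePerm_pow]
    simp [mvPerm_pow, hx]
  have h1 := Equiv.Perm.card_compl_support_modEq hs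
  have h2 : s.supportᶜ.card =
      Nat.card ↥(W ⊓ LinearMap.ker (Matrix.toLin' (x - 1))) := by
    have hmem : ∀ w : ↥W, w ∈ s.supportᶜ ↔ s w = w := by
      intro w
      simp [Equiv.Perm.mem_support]
    rw [← Fintype.card_of_subtype s.supportᶜ hmem, ← Nat.card_eq_fintype_card]
    apply Nat.card_congr
    refine ⟨fun w => ⟨w.1.1, w.1.2, ?_⟩, fun u => ⟨⟨u.1, u.2.1⟩, ?_⟩, fun w => rfl, fun u => rfl⟩
    · have h3 := congrArg Subtype.val w.2
      have h4 : x *ᵥ w.1.1 = w.1.1 := h3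
      rw [SetLike.mem_coe, LinearMap.mem_ker, Matrix.toLin'_apply, Matrix.sub_mulVec,
        Matrix.one_mulVec, h4, sub_self]
    · have h3 := u.2.2
      rw [SetLike.mem_coe, LinearMap.mem_ker, Matrix.toLin'_apply, Matrix.sub_mulVec,
        Matrix.one_mulVec, sub_eq_zero] at h3
      exact Subtype.ext h3
  rw [← Module.card_eq_pow_finrank (K := F) (V := ↥W),
    ← Module.card_eq_pow_finrank (K := F)
      (V := ↥(W ⊓ LinearMap.ker (Matrix.toLin' (x - 1)))), ← Nat.card_eq_fintype_card, ← h2]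
  exact h1

theorem zmod_facts (hp2 : p ≠ 2) (hq : p ∣ Fintype.card F ^ 2 + 1) :
    ((Fintype.card F : ℕ) : ZMod p) ^ 2 = -1 ∧ (2 : ZMod p) ≠ 0 := by
  constructor
  · have h := (ZMod.natCast_eq_zero_iff _ _).mpr hq
    push_cast at h
    linear_combination h
  · intro h
    have h' : ((2 : ℕ) : ZMod p) = 0 := by exact_mod_cast h
    rw [ZMod.natCast_eq_zero_iff] at h'
    exact hp2 ((Nat.prime_dvd_prime_iff_eq Fact.out Nat.prime_two).mp h')

theorem pow_ne_one_mod (hp2 : p ≠ 2) (hq : p ∣ Fintype.card F ^ 2 + 1) (d : ℕ) (hd0 : 0 < d)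
    (hd4 : d < 4) : ¬ (1 ≡ Fintype.card F ^ d [MOD p]) := by
  intro h
  obtain ⟨hc, h20⟩ := zmod_facts (F := F) hp2 hq
  have h' := (ZMod.natCast_eq_natCast_iff _ _ _).mpr h
  push_cast at h'
  apply h20
  interval_cases d
  · linear_combination (1 + (Fintype.card F : ZMod p)) * h' + hc
  · linear_combination h' + hc
  · linear_combination (1 - (Fintype.card F : ZMod p)) * h' -
      ((Fintype.card F : ZMod p) ^ 2 - (Fintype.card F : ZMod p) - 1) * hc

theorem pow_four_mod (hq : p ∣ Fintype.card F ^ 2 + 1) : Fintype.card F ^ 4 ≡ 1 [MOD p] := by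
  have h := (ZMod.natCast_eq_zero_iff _ _).mpr hq
  push_cast at h
  rw [← ZMod.natCast_eq_natCast_iff]
  push_cast
  linear_combination ((Fintype.card F : ZMod p) ^ 2 - 1) * h

theorem no_fix (hp2 : p ≠ 2) (hq : p ∣ Fintype.card F ^ 2 + 1)
    (x : Matrix (Fin 4) (Fin 4) F) (hx : x ^ p = 1) (hx1 : x ≠ 1) :
    LinearMap.ker (Matrix.toLin' (x - 1)) = ⊥ := by
  have h := card_fix_modEq x hx ⊤ (fun v _ => Submodule.mem_top)
  rw [top_inf_eq, finrank_top, Module.finrank_fin_fun] at h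
  have hle := Submodule.finrank_le (LinearMap.ker (Matrix.toLin' (x - 1)))
  rw [Module.finrank_fin_fun] at hle
  by_contra hK
  have h0 : Module.finrank F ↥(LinearMap.ker (Matrix.toLin' (x - 1))) ≠ 0 := by
    rw [Ne, Submodule.finrank_eq_zero]
    exact hK
  have h4 : Module.finrank F ↥(LinearMap.ker (Matrix.toLin' (x - 1))) ≠ 4 := by
    intro h4
    have htop : LinearMap.ker (Matrix.toLin' (x - 1)) = ⊤ := by
      apply Submodule.eq_top_of_finrank_eq
      rw [h4, Module.finrank_fin_fun]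
    rw [LinearMap.ker_eq_top] at htop
    have : x - 1 = 0 := (LinearEquiv.map_eq_zero_iff Matrix.toLin').mp htop
    exact hx1 (sub_eq_zero.mp this)
  exact pow_ne_one_mod hp2 hq _ (Nat.pos_of_ne_zero h0) (by omega)
    ((h.trans (pow_four_mod hq)).symm)

theorem cent_domain (hp2 : p ≠ 2) (hq : p ∣ Fintype.card F ^ 2 + 1)
    (x : Matrix (Fin 4) (Fin 4) F) (hx : x ^ p = 1) (hx1 : x ≠ 1)
    (A B : Matrix (Fin 4) (Fin 4) F) (hA : A * x = x * A) (hAB : A * B = 0) :
    A = 0 ∨ B = 0 := by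
  by_contra hcon
  obtain ⟨hA0, hB0⟩ := not_or.mp hcon
  have hW : ∀ v ∈ LinearMap.ker (Matrix.toLin' A), x *ᵥ v ∈ LinearMap.ker (Matrix.toLin' A) := by
    intro v hv
    rw [LinearMap.mem_ker, Matrix.toLin'_apply] at hv ⊢
    rw [Matrix.mulVec_mulVec, hA, ← Matrix.mulVec_mulVec, hv, Matrix.mulVec_zero]
  have h := card_fix_modEq x hx _ hW
  rw [no_fix hp2 hq x hx hx1, inf_bot_eq, finrank_bot, pow_zero] at h
  have hd0 : Module.finrank F ↥(LinearMap.ker (Matrix.toLin' A)) ≠ 0 := by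
    rw [Ne, Submodule.finrank_eq_zero]
    intro hbot
    apply hB0
    apply (LinearEquiv.map_eq_zero_iff Matrix.toLin').mp
    apply LinearMap.ext
    intro v
    have hv : B *ᵥ v ∈ LinearMap.ker (Matrix.toLin' A) := by
      rw [LinearMap.mem_ker, Matrix.toLin'_apply, Matrix.mulVec_mulVec, hAB, Matrix.zero_mulVec]
    rw [hbot, Submodule.mem_bot] at hv
    rw [Matrix.toLin'_apply, hv]
    rfl
  have hd4 : Module.finrank F ↥(LinearMap.ker (Matrix.toLin' A)) < 4 := by
    have h3 := Submodule.finrank_lt (s := LinearMap.ker (Matrix.toLin' A)) (by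
      intro htop
      rw [LinearMap.ker_eq_top] at htop
      exact hA0 ((LinearEquiv.map_eq_zero_iff Matrix.toLin').mp htop))
    rwa [Module.finrank_fin_fun] at h3
  exact pow_ne_one_mod hp2 hq _ (Nat.pos_of_ne_zero hd0) hd4 h

theorem cent_comm (hp2 : p ≠ 2) (hq : p ∣ Fintype.card F ^ 2 + 1)
    (x : Matrix (Fin 4) (Fin 4) F) (hx : x ^ p = 1) (hx1 : x ≠ 1)
    (A B : Matrix (Fin 4) (Fin 4) F) (hA : A * x = x * A) (hB : B * x = x * B) :
    A * B = B * A := by
  haveI : NoZeroDivisors (Subring.centralizer ({x} : Set (Matrix (Fin 4) (Fin 4) F))) := ⟨by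
    rintro ⟨a, ha⟩ ⟨b, hb⟩ hab
    have hab' : a * b = 0 := congrArg Subtype.val hab
    have ha' : a * x = x * a := ((Subring.mem_centralizer_iff.mp ha) x rfl).symm
    rcases cent_domain hp2 hq x hx hx1 a b ha' hab' with h | h
    · left; exact Subtype.ext h
    · right; exact Subtype.ext h⟩
  haveI : IsDomain (Subring.centralizer ({x} : Set (Matrix (Fin 4) (Fin 4) F))) :=
    NoZeroDivisors.to_isDomain _
  have hf := Finite.isDomain_to_isField
    (Subring.centralizer ({x} : Set (Matrix (Fin 4) (Fin 4) F)))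
  have hA' : A ∈ Subring.centralizer ({x} : Set (Matrix (Fin 4) (Fin 4) F)) := by
    rw [Subring.mem_centralizer_iff]
    rintro g rfl
    exact hA.symm
  have hB' : B ∈ Subring.centralizer ({x} : Set (Matrix (Fin 4) (Fin 4) F)) := by
    rw [Subring.mem_centralizer_iff]
    rintro g rfl
    exact hB.symm
  exact congrArg Subtype.val (hf.mul_comm ⟨A, hA'⟩ ⟨B, hB'⟩)

theorem cent_cyclic (hp2 : p ≠ 2) (hq : p ∣ Fintype.card F ^ 2 + 1)
    (x : Matrix (Fin 4) (Fin 4) F) (hx : x ^ p = 1) (hx1 : x ≠ 1)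
    {G : Type*} [Group G] [Finite G] (f : G →* Matrix (Fin 4) (Fin 4) F)
    (hf : Function.Injective f) (hG : ∀ g, f g * x = x * f g) : IsCyclic G := by
  haveI : NoZeroDivisors (Subring.centralizer ({x} : Set (Matrix (Fin 4) (Fin 4) F))) := ⟨by
    rintro ⟨a, ha⟩ ⟨b, hb⟩ hab
    have hab' : a * b = 0 := congrArg Subtype.val hab
    have ha' : a * x = x * a := ((Subring.mem_centralizer_iff.mp ha) x rfl).symm
    rcases cent_domain hp2 hq x hx hx1 a b ha' hab' with h | h
    · left; exact Subtype.ext h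
    · right; exact Subtype.ext h⟩
  haveI hdom : IsDomain (Subring.centralizer ({x} : Set (Matrix (Fin 4) (Fin 4) F))) :=
    NoZeroDivisors.to_isDomain _
  have hfield := Finite.isDomain_to_isField
    (Subring.centralizer ({x} : Set (Matrix (Fin 4) (Fin 4) F)))
  letI : CommRing (Subring.centralizer ({x} : Set (Matrix (Fin 4) (Fin 4) F))) :=
    { (inferInstance : Ring (Subring.centralizer ({x} : Set (Matrix (Fin 4) (Fin 4) F)))) with
      mul_comm := hfield.mul_comm }
  haveI : IsDomain (Subring.centralizer ({x} : Set (Matrix (Fin 4) (Fin 4) F))) := hdom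
  let f' : G →* (Subring.centralizer ({x} : Set (Matrix (Fin 4) (Fin 4) F))) :=
    { toFun := fun g => ⟨f g, by
        rw [Subring.mem_centralizer_iff]
        rintro y rfl
        exact (hG g).symm⟩
      map_one' := Subtype.ext f.map_one
      map_mul' := fun a b => Subtype.ext (f.map_mul a b) }
  exact isCyclic_of_subgroup_isDomain f' (fun a b h => hf (congrArg Subtype.val h))

end linalg

section sylow

variable {G : Type*} [Group G] [Finite G]

theorem sylow_in_subgroup (H : Subgroup G) (p : ℕ) [Fact p.Prime]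
    (hH : (Nat.card G).factorization p = (Nat.card H).factorization p) :
    ∃ P₁ : Sylow p G, (P₁ : Subgroup G) ≤ H := by
  obtain ⟨P₀⟩ : Nonempty (Sylow p H) := inferInstance
  have hcard : Nat.card ((P₀ : Subgroup H).map H.subtype) = p ^ (Nat.card G).factorization p := by
    rw [Subgroup.card_map_of_injective H.subtype_injective, hH]
    exact P₀.card_eq_multiplicity
  refine ⟨Sylow.ofCard _ hcard, ?_⟩
  show (P₀ : Subgroup H).map H.subtype ≤ H
  exact Subgroup.map_subtype_le _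

theorem conj_mem_of_sylow (H : Subgroup G) (p : ℕ) [Fact p.Prime]
    (hH : (Nat.card G).factorization p = (Nat.card H).factorization p) (z : G) (k : ℕ)
    (hz : z ^ (p ^ k) = 1) : ∃ g : G, g * z * g⁻¹ ∈ H := by
  obtain ⟨P₁, hP₁⟩ := sylow_in_subgroup H p hH
  have hpg : IsPGroup p (Subgroup.zpowers z) := by
    rintro ⟨g, hg⟩
    obtain ⟨i, rfl⟩ := Subgroup.mem_zpowers_iff.mp hg
    refine ⟨k, Subtype.ext ?_⟩
    show (z ^ i) ^ (p ^ k) = 1
    rw [← zpow_natCast, ← _root_.zpow_mul, mul_comm, _root_.zpow_mul, zpow_natCast, hz, _root_.one_zpow]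
  obtain ⟨Q, hQ⟩ := hpg.exists_le_sylow
  obtain ⟨g, hg⟩ := MulAction.exists_smul_eq G Q P₁
  have h1 : MulAut.conj g • z ∈ MulAut.conj g • (Q : Subgroup G) :=
    Subgroup.smul_mem_pointwise_smul z _ _ (hQ (Subgroup.mem_zpowers z))
  rw [← Sylow.coe_subgroup_smul, hg] at h1
  exact ⟨g, hP₁ (by simpa [MulAut.smul_def] using h1)⟩

theorem sylow_embed (H : Subgroup G) (p : ℕ) [Fact p.Prime]
    (hH : (Nat.card G).factorization p = (Nat.card H).factorization p) (P : Sylow p G) :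
    ∃ f : P →* H, Function.Injective f := by
  obtain ⟨P₁, hP₁⟩ := sylow_in_subgroup H p hH
  obtain ⟨g, hg⟩ := MulAction.exists_smul_eq G P₁ P
  let e : P₁ ≃* P := (Sylow.equivSMul P₁ g).trans
    (MulEquiv.subgroupCongr (congrArg (fun Q : Sylow p G => (Q : Subgroup G)) hg))
  exact ⟨(Subgroup.inclusion hP₁).comp e.symm.toMonoidHom,
    (Subgroup.inclusion_injective hP₁).comp e.symm.injective⟩

theorem nilp_of_comm {G : Type*} [Group G] (H : Subgroup G)
    (h : ∀ a ∈ H, ∀ b ∈ H, a * b = b * a) : Group.IsNilpotent H := by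
  letI : CommGroup H :=
    { (inferInstance : Group H) with mul_comm := fun a b => Subtype.ext (h a a.2 b b.2) }
  exact CommGroup.isNilpotent

end sylow

section cent

variable {F : Type*} [Field F] [Fintype F] {m : ℕ} (σ τ : F →+* F)
  (hσ : ∀ x, σ x = x ^ (2 ^ (m + 1)))
  (hσ2 : ∀ x, σ (σ x) = x ^ 2) (hτ : ∀ x, τ x ^ 2 = σ x) (h2 : (2 : F) = 0)

include hσ hσ2 hτ h2 in
theorem Sz_inf_decomp (hm : 1 ≤ m) (hF : Fintype.card F = 2 ^ (2 * m + 1))
    (g : Matrix.SpecialLinearGroup (Fin 4) F) (hg : g ∈ Sz F m)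
    (h1 : g • pt σ none = pt σ none) : ∃ a b κ, g = tS σ a b * dS σ τ hτ κ := by
  obtain ⟨o, ho⟩ := Sz_pt σ hσ g hg (some (0, 0))
  rcases o with _ | ⟨a, b⟩
  · exfalso
    have := smul_left_cancel g (h1.trans ho.symm)
    exact absurd (pt_inj σ this) (by simp)
  · have f1 : ((tS σ a b)⁻¹ * g) • pt σ none = pt σ none := by
      rw [mul_smul, h1, inv_smul_eq_iff, tS_inf]
    have f0 : ((tS σ a b)⁻¹ * g) • pt σ (some (0, 0)) = pt σ (some (0, 0)) := by
      rw [mul_smul, ho, inv_smul_eq_iff, tS_aff σ hσ2 h2]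
      simp
    obtain ⟨κ, hκ⟩ := Sz_fix_two σ τ hσ hσ2 hτ h2 hm hF _
      (Subgroup.mul_mem _ (Subgroup.inv_mem _ (tS_mem σ hσ hσ2 h2 a b)) hg) f1 f0
    exact ⟨a, b, κ, by rw [← hκ]; group⟩

include hσ2 in
theorem dS_tS (κ : Fˣ) (a b : F) :
    dS σ τ hτ κ * tS σ a b = tS σ (κ * a) (κ * σ κ * b) * dS σ τ hτ κ :=
  Subtype.ext (dM_tM σ τ hσ2 κ a b)

include hσ2 in
theorem norm_inj : Function.Injective (fun l : F => l * σ l) :=
  Finite.injective_iff_surjective.mpr (norm_surj σ hσ2)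

include hσ2 in
theorem norm_eq_one (κ : F) (h : κ * σ κ = 1) : κ = 1 := by
  apply norm_inj σ hσ2
  simp only [map_one, mul_one]
  exact h

include hσ hσ2 hτ h2 in
theorem cent_tS (hm : 1 ≤ m) (hF : Fintype.card F = 2 ^ (2 * m + 1)) (a b : F)
    (hab : ¬ (a = 0 ∧ b = 0)) (h : Matrix.SpecialLinearGroup (Fin 4) F) (hh : h ∈ Sz F m)
    (hc : h * tS σ a b = tS σ a b * h) : ∃ c d, h = tS σ c d := by
  obtain ⟨o, ho⟩ := Sz_pt σ hσ h hh none
  have hfix : tS σ a b • pt σ o = pt σ o := by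
    rw [← ho, ← mul_smul, ← hc, mul_smul, tS_inf]
  have ho' : o = none := by
    rcases o with _ | ⟨x, y⟩
    · rfl
    · exfalso
      rw [tS_aff σ hσ2 h2] at hfix
      have h3 := pt_inj σ hfix
      simp only [Option.some.injEq, Prod.mk.injEq] at h3
      obtain ⟨e1, e2⟩ := h3
      have ha : a = 0 := by linear_combination e1
      subst ha
      have hb : b = 0 := by
        simp only [map_zero, zero_mul, add_zero] at e2
        linear_combination e2
      exact hab ⟨rfl, hb⟩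
  subst ho'
  obtain ⟨c, d, μ, rfl⟩ := Sz_inf_decomp σ τ hσ hσ2 hτ h2 hm hF h hh ho
  have e1 : tS σ c d * dS σ τ hτ μ * tS σ a b =
      tS σ c d * tS σ (μ * a) (μ * σ μ * b) * dS σ τ hτ μ := by
    rw [mul_assoc, dS_tS σ τ hσ2 hτ, ← mul_assoc]
  rw [e1, ← mul_assoc] at hc
  have e2 := mul_right_cancel hc
  rw [tS_mul σ hσ2 h2, tS_mul σ hσ2 h2] at e2
  obtain ⟨k1, k2⟩ := tS_inj σ _ _ _ _ e2
  have hμ : (μ : F) = 1 := by
    by_cases ha : a = 0
    · subst ha
      have hb : b ≠ 0 := fun hb => hab ⟨rfl, hb⟩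
      simp only [mul_zero, map_zero, zero_mul, add_zero] at k2
      have h3 : (μ : F) * σ μ = 1 := by
        apply mul_right_cancel₀ hb
        linear_combination k2
      exact norm_eq_one σ hσ2 _ h3
    · apply mul_right_cancel₀ ha
      linear_combination k1
  have hμ1 : μ = 1 := Units.ext hμ
  subst hμ1
  exact ⟨c, d, by rw [dS_one, mul_one]⟩

include hτ in
theorem wM_dM (κ : F) (hκ : κ ≠ 0) : wM * dM σ τ κ = dM σ τ κ⁻¹ * wM := by
  have hτκ : τ κ ≠ 0 := by rwa [Ne, map_eq_zero]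
  have hσκ : σ κ ≠ 0 := by rwa [Ne, map_eq_zero]
  have hs := hτ κ
  unfold dM wM
  ext i j
  rw [Matrix.mul_diagonal, Matrix.diagonal_mul]
  fin_cases i <;> fin_cases j <;> simp <;> field_simp <;> rw [← hs] <;> ring

theorem wS_mul_self : wS h2 * wS h2 = (1 : Matrix.SpecialLinearGroup (Fin 4) F) :=
  Subtype.ext wM_mul_self

include hτ in
theorem wS_dS (κ : Fˣ) : wS h2 * dS σ τ hτ κ = dS σ τ hτ κ⁻¹ * wS h2 := by
  apply Subtype.ext
  show wM * dM σ τ (κ : F) = dM σ τ ((κ⁻¹ : Fˣ) : F) * wM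
  rw [Units.val_inv_eq_inv_val]
  exact wM_dM σ τ hτ κ κ.ne_zero

theorem wS_zero : wS h2 • pt σ (some (0, 0)) = pt σ none := by
  rw [← wS_inf σ h2, ← mul_smul, wS_mul_self, one_smul]

include hσ2 in
theorem dS_fix (κ : Fˣ) (hκ : κ ≠ 1) (o : Option (F × F))
    (hfix : dS σ τ hτ κ • pt σ o = pt σ o) : o = none ∨ o = some (0, 0) := by
  rcases o with _ | ⟨x, y⟩
  · left; rfl
  · right
    rw [dS_aff σ τ hσ2 hτ] at hfix
    have h3 := pt_inj σ hfix
    simp only [Option.some.injEq, Prod.mk.injEq] at h3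
    obtain ⟨e1, e2⟩ := h3
    have hκ1 : (κ : F) ≠ 1 := fun h => hκ (Units.ext h)
    have hx : x = 0 := by
      by_contra hx
      apply hκ1
      apply mul_right_cancel₀ hx
      linear_combination e1
    have hy : y = 0 := by
      by_contra hy
      apply hκ1
      apply norm_eq_one σ hσ2
      apply mul_right_cancel₀ hy
      linear_combination e2
    rw [hx, hy]

include hσ hσ2 hτ h2 in
theorem cent_dS (hm : 1 ≤ m) (hF : Fintype.card F = 2 ^ (2 * m + 1)) (κ : Fˣ) (hκ : κ ≠ 1)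
    (h : Matrix.SpecialLinearGroup (Fin 4) F) (hh : h ∈ Sz F m)
    (hc : h * dS σ τ hτ κ = dS σ τ hτ κ * h) : ∃ μ, h = dS σ τ hτ μ := by
  obtain ⟨o1, ho1⟩ := Sz_pt σ hσ h hh none
  obtain ⟨o2, ho2⟩ := Sz_pt σ hσ h hh (some (0, 0))
  have hne : o1 ≠ o2 := by
    rintro rfl
    have := smul_left_cancel h (ho1.trans ho2.symm)
    exact absurd (pt_inj σ this) (by simp)
  have hfix1 : dS σ τ hτ κ • pt σ o1 = pt σ o1 := by
    rw [← ho1, ← mul_smul, ← hc, mul_smul, dS_inf]
  have hfix2 : dS σ τ hτ κ • pt σ o2 = pt σ o2 := by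
    have h3 := dS_aff σ τ hσ2 hτ κ 0 0
    simp only [mul_zero] at h3
    rw [← ho2, ← mul_smul, ← hc, mul_smul, h3]
  have hκ1 : (κ : F) ≠ 1 := fun h => hκ (Units.ext h)
  rcases dS_fix σ τ hσ2 hτ κ hκ o1 hfix1 with r1 | r1 <;>
    rcases dS_fix σ τ hσ2 hτ κ hκ o2 hfix2 with r2 | r2
  · exact absurd (r1.trans r2.symm) hne
  · subst r1 r2
    exact Sz_fix_two σ τ hσ hσ2 hτ h2 hm hF h hh ho1 ho2
  · subst r1 r2
    exfalso
    have f1 : (wS h2 * h) • pt σ none = pt σ none := by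
      rw [mul_smul, ho1, wS_zero]
    have f0 : (wS h2 * h) • pt σ (some (0, 0)) = pt σ (some (0, 0)) := by
      rw [mul_smul, ho2, wS_inf]
    obtain ⟨μ, hμ⟩ := Sz_fix_two σ τ hσ hσ2 hτ h2 hm hF _
      (Subgroup.mul_mem _ (wS_mem σ hσ hσ2 h2) hh) f1 f0
    have hh' : h = wS h2 * dS σ τ hτ μ := by
      rw [← hμ, ← mul_assoc, wS_mul_self, one_mul]
    rw [hh'] at hc
    have e1 : wS h2 * dS σ τ hτ μ * dS σ τ hτ κ = wS h2 * dS σ τ hτ κ * dS σ τ hτ μ := by
      rw [mul_assoc, ← dS_mul, mul_comm μ κ, dS_mul, ← mul_assoc]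
    rw [e1, ← mul_assoc] at hc
    have e2 := mul_right_cancel hc
    rw [wS_dS σ τ hτ h2] at e2
    have e3 := mul_right_cancel e2
    have e4 := dS_inj σ τ hτ e3
    have e5 : (κ : F) * κ = 1 := by
      have : κ * κ = 1 := by
        nth_rewrite 1 [← e4]
        exact inv_mul_cancel κ
      have h5 := congrArg Units.val this
      simpa using h5
    have e6 : ((κ : F) - 1) ^ 2 = 0 := by linear_combination e5 + (1 - (κ : F)) * h2
    exact hκ1 (sub_eq_zero.mp ((pow_eq_zero_iff (two_ne_zero)).mp e6))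
  · exact absurd (r1.trans r2.symm) hne

end cent

section assemble

theorem prime_cases (m : ℕ) (p : ℕ) (hp : p.Prime) (hp2 : p ≠ 2)
    (hd : p ∣ (2 ^ (2 * m + 1)) ^ 2 * ((2 ^ (2 * m + 1)) ^ 2 + 1) * (2 ^ (2 * m + 1) - 1)) :
    p ∣ (2 ^ (2 * m + 1)) ^ 2 + 1 ∨ p ∣ 2 ^ (2 * m + 1) - 1 := by
  rcases (Nat.Prime.dvd_mul hp).mp hd with h | h
  · rcases (Nat.Prime.dvd_mul hp).mp h with h' | h'
    · exfalso
      have := hp.dvd_of_dvd_pow (hp.dvd_of_dvd_pow h')
      exact hp2 ((Nat.prime_dvd_prime_iff_eq hp Nat.prime_two).mp this)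
    · left; exact h'
  · right; exact h

theorem fact_torus (m : ℕ) (p : ℕ) (hp : p.Prime) (hp2 : p ≠ 2)
    (hd : p ∣ 2 ^ (2 * m + 1) - 1) :
    ((2 ^ (2 * m + 1)) ^ 2 * ((2 ^ (2 * m + 1)) ^ 2 + 1) *
      (2 ^ (2 * m + 1) - 1)).factorization p = (2 ^ (2 * m + 1) - 1).factorization p := by
  haveI : Fact p.Prime := ⟨hp⟩
  have hQ1 : 2 ≤ 2 ^ (2 * m + 1) := by
    calc 2 = 2 ^ 1 := by norm_num
      _ ≤ 2 ^ (2 * m + 1) := Nat.pow_le_pow_right (by norm_num) (by omega)
  generalize 2 ^ (2 * m + 1) = Q at *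
  have hc : ((Q : ℕ) : ZMod p) = 1 := by
    have h := (ZMod.natCast_eq_zero_iff _ _).mpr hd
    rw [Nat.cast_sub (by omega)] at h
    push_cast at h
    linear_combination h
  have h1 : (1 : ZMod p) ≠ 0 := one_ne_zero
  have h20 : (2 : ZMod p) ≠ 0 := by
    intro h
    have h' : ((2 : ℕ) : ZMod p) = 0 := by exact_mod_cast h
    rw [ZMod.natCast_eq_zero_iff] at h'
    exact hp2 ((Nat.prime_dvd_prime_iff_eq hp Nat.prime_two).mp h')
  have hnd : ¬ p ∣ Q ^ 2 * (Q ^ 2 + 1) := by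
    intro h
    rcases (Nat.Prime.dvd_mul hp).mp h with h' | h'
    · have h3 := (ZMod.natCast_eq_zero_iff _ _).mpr (hp.dvd_of_dvd_pow h')
      rw [hc] at h3
      exact h1 h3
    · have h3 := (ZMod.natCast_eq_zero_iff _ _).mpr h'
      push_cast at h3
      rw [hc] at h3
      apply h20
      linear_combination h3
  rw [Nat.factorization_mul (by positivity) (by omega), Finsupp.add_apply,
    Nat.factorization_eq_zero_of_not_dvd hnd, zero_add]

variable {F : Type*} [Field F] [Fintype F] {m : ℕ} (σ τ : F →+* F)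
  (hσ : ∀ x, σ x = x ^ (2 ^ (m + 1)))
  (hσ2 : ∀ x, σ (σ x) = x ^ 2) (hτ : ∀ x, τ x ^ 2 = σ x) (h2 : (2 : F) = 0)

/-- the torus homomorphism -/
def dHom (hσ : ∀ x, σ x = x ^ (2 ^ (m + 1))) (hσ2 : ∀ x, σ (σ x) = x ^ 2)
    (hτ : ∀ x, τ x ^ 2 = σ x) : Fˣ →* Sz F m where
  toFun κ := ⟨dS σ τ hτ κ, dS_mem σ τ hσ hσ2 hτ κ⟩
  map_one' := Subtype.ext (dS_one σ τ hτ)
  map_mul' κ κ' := Subtype.ext (dS_mul σ τ hτ κ κ')

theorem dHom_inj : Function.Injective (dHom σ τ hσ hσ2 hτ) :=
  fun κ κ' h => dS_inj σ τ hτ (congrArg Subtype.val h)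

/-- the torus -/
def szD (hσ : ∀ x, σ x = x ^ (2 ^ (m + 1))) (hσ2 : ∀ x, σ (σ x) = x ^ 2)
    (hτ : ∀ x, τ x ^ 2 = σ x) : Subgroup (Sz F m) := (dHom σ τ hσ hσ2 hτ).range

theorem card_szD : Nat.card (szD σ τ hσ hσ2 hτ) = Fintype.card F - 1 := by
  unfold szD
  rw [← Nat.card_congr (MonoidHom.ofInjective (dHom_inj σ τ hσ hσ2 hτ)).toEquiv, Nat.card_units,
    Nat.card_eq_fintype_card]

include hσ hσ2 hτ h2 in
theorem Sz_finite (hm : 1 ≤ m) (hF : Fintype.card F = 2 ^ (2 * m + 1)) : Finite (Sz F m) := by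
  apply Nat.finite_of_card_ne_zero
  rw [card_Sz_eq σ τ hσ hσ2 hτ h2 hm hF]
  have := Odd.pos (odd_part m)
  positivity

include hσ hσ2 hτ h2 in
theorem cent_prime_order (hm : 1 ≤ m) (hF : Fintype.card F = 2 ^ (2 * m + 1)) (z : Sz F m)
    (p : ℕ) [Fact p.Prime] (hzo : orderOf z = p) :
    IsPGroup 2 (Subgroup.centralizer ({z} : Set (Sz F m))) ∨
      ∀ a ∈ Subgroup.centralizer ({z} : Set (Sz F m)),
        ∀ b ∈ Subgroup.centralizer ({z} : Set (Sz F m)), a * b = b * a := by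
  haveI := Sz_finite σ τ hσ hσ2 hτ h2 hm hF
  have hz1 : z ≠ 1 := by
    intro h
    rw [h, orderOf_one] at hzo
    exact (Fact.out : p.Prime).one_lt.ne hzo
  have hzp : z ^ p = 1 := by rw [← hzo]; exact pow_orderOf_eq_one z
  have conj_comm : ∀ (g c : Sz F m), c * z = z * c →
      (g * c * g⁻¹).1 * (g * z * g⁻¹).1 = (g * z * g⁻¹).1 * (g * c * g⁻¹).1 := by
    intro g c hc
    show ((g * c * g⁻¹) * (g * z * g⁻¹)).1 = ((g * z * g⁻¹) * (g * c * g⁻¹)).1
    congr 1
    calc g * c * g⁻¹ * (g * z * g⁻¹) = g * (c * z) * g⁻¹ := by group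
      _ = g * (z * c) * g⁻¹ := by rw [hc]
      _ = _ := by group
  by_cases hp2 : p = 2
  · left
    subst hp2
    have hfac : (Nat.card (Sz F m)).factorization 2 =
        (Nat.card (szU σ hσ hσ2 h2)).factorization 2 := by
      rw [card_Sz_eq σ τ hσ hσ2 hτ h2 hm hF, fact_two _ _ (odd_part m), card_szU, hF, ← pow_add,
        Nat.Prime.factorization_pow Nat.prime_two, Finsupp.single_eq_same]
      ring
    obtain ⟨g, hg⟩ := conj_mem_of_sylow (szU σ hσ hσ2 h2) 2 hfac z 1
      (by rw [pow_one]; exact hzp)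
    obtain ⟨a, b, hab⟩ := hg
    have hab0 : ¬ (a = 0 ∧ b = 0) := by
      rintro ⟨rfl, rfl⟩
      rw [tS_zero] at hab
      have : g * z * g⁻¹ = 1 := Subtype.ext hab
      exact hz1 (conj_eq_one_iff.mp this)
    rintro ⟨c, hc⟩
    rw [Subgroup.mem_centralizer_singleton_iff] at hc
    have hcomm := conj_comm g c hc
    rw [hab] at hcomm
    obtain ⟨c', d', hcd⟩ := cent_tS σ τ hσ hσ2 hτ h2 hm hF a b hab0 _ (g * c * g⁻¹).2 hcomm
    refine ⟨2, Subtype.ext ?_⟩
    have h4 : (g * c * g⁻¹) ^ 4 = 1 := by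
      apply Subtype.ext
      show (g * c * g⁻¹).1 ^ 4 = 1
      rw [hcd]
      have := szU_pow_four σ hσ hσ2 h2 (uElt σ hσ hσ2 h2 c' d')
      exact congrArg (fun u : szU σ hσ hσ2 h2 => u.1.1) this
    rw [conj_pow, conj_eq_one_iff] at h4
    show c ^ 2 ^ 2 = 1
    exact h4
  · right
    have hd : p ∣ Nat.card (Sz F m) := by rw [← hzo]; exact orderOf_dvd_natCard z
    rw [card_Sz σ τ hσ hσ2 hτ h2 hm hF, hF] at hd
    rcases prime_cases m p Fact.out hp2 hd with hq | hq
    · intro a ha b hb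
      rw [Subgroup.mem_centralizer_singleton_iff] at ha hb
      apply Subtype.ext
      apply Subtype.ext
      show a.1.1 * b.1.1 = b.1.1 * a.1.1
      refine cent_comm hp2 (by rw [hF]; exact hq) z.1.1 ?_ ?_ _ _ ?_ ?_
      · have h3 := congrArg (fun u : Sz F m => (u.1.1 : Matrix (Fin 4) (Fin 4) F)) hzp
        simpa using h3
      · intro h
        exact hz1 (Subtype.ext (Subtype.ext h))
      · exact congrArg (fun u : Sz F m => (u.1.1 : Matrix (Fin 4) (Fin 4) F)) ha
      · exact congrArg (fun u : Sz F m => (u.1.1 : Matrix (Fin 4) (Fin 4) F)) hb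
    · have hfac : (Nat.card (Sz F m)).factorization p =
          (Nat.card (szD σ τ hσ hσ2 hτ)).factorization p := by
        rw [card_Sz σ τ hσ hσ2 hτ h2 hm hF, card_szD, hF]
        exact fact_torus m p Fact.out hp2 hq
      obtain ⟨g, hg⟩ := conj_mem_of_sylow (szD σ τ hσ hσ2 hτ) p hfac z 1
        (by rw [pow_one]; exact hzp)
      obtain ⟨κ, hκ⟩ := hg
      have hκ1 : κ ≠ 1 := by
        rintro rfl
        rw [map_one] at hκ
        exact hz1 (conj_eq_one_iff.mp hκ.symm)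
      have e : dS σ τ hτ κ = (g * z * g⁻¹).1 := congrArg Subtype.val hκ
      have key : ∀ c ∈ Subgroup.centralizer ({z} : Set (Sz F m)),
          ∃ μ, (g * c * g⁻¹).1 = dS σ τ hτ μ := by
        intro c hc
        rw [Subgroup.mem_centralizer_singleton_iff] at hc
        apply cent_dS σ τ hσ hσ2 hτ h2 hm hF κ hκ1 _ (g * c * g⁻¹).2
        rw [e]
        exact conj_comm g c hc
      intro a ha b hb
      obtain ⟨μ, hμ⟩ := key a ha
      obtain ⟨μ', hμ'⟩ := key b hb
      have e1 : (g * a * g⁻¹) * (g * b * g⁻¹) = (g * b * g⁻¹) * (g * a * g⁻¹) := by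
        apply Subtype.ext
        show (g * a * g⁻¹).1 * (g * b * g⁻¹).1 = (g * b * g⁻¹).1 * (g * a * g⁻¹).1
        rw [hμ, hμ', ← dS_mul, ← dS_mul, mul_comm]
      have e' : g * (a * b) * g⁻¹ = g * (b * a) * g⁻¹ := by
        calc g * (a * b) * g⁻¹ = (g * a * g⁻¹) * (g * b * g⁻¹) := by group
          _ = (g * b * g⁻¹) * (g * a * g⁻¹) := e1
          _ = _ := by group
      exact mul_left_cancel (mul_right_cancel e')

include hσ hσ2 hτ h2 in
theorem Sz_CN (hm : 1 ≤ m) (hF : Fintype.card F = 2 ^ (2 * m + 1)) : IsCNGroup (Sz F m) := by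
  intro g hg
  haveI := Sz_finite σ τ hσ hσ2 hτ h2 hm hF
  have hn : orderOf g ≠ 1 := by rwa [Ne, orderOf_eq_one_iff]
  obtain ⟨p, hp, hpd⟩ := Nat.exists_prime_and_dvd hn
  haveI : Fact p.Prime := ⟨hp⟩
  have hzo : orderOf (g ^ (orderOf g / p)) = p :=
    orderOf_pow_orderOf_div (orderOf_pos g).ne' hpd
  have hle : Subgroup.centralizer ({g} : Set (Sz F m)) ≤
      Subgroup.centralizer {g ^ (orderOf g / p)} := by
    intro c hc
    rw [Subgroup.mem_centralizer_singleton_iff] at hc ⊢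
    exact (Commute.pow_right (show Commute c g from hc) _).eq
  rcases cent_prime_order σ τ hσ hσ2 hτ h2 hm hF _ p hzo with h | h
  · haveI : Fact (Nat.Prime 2) := ⟨Nat.prime_two⟩
    exact (h.to_le hle).isNilpotent
  · exact nilp_of_comm _ (fun a ha b hb => h a (hle ha) b (hle hb))

include hσ hσ2 hτ h2 in
theorem Sz_sylow_cyclic (hm : 1 ≤ m) (hF : Fintype.card F = 2 ^ (2 * m + 1)) (p : ℕ)
    [Fact p.Prime] (hp2 : p ≠ 2) (P : Sylow p (Sz F m)) : IsCyclic P := by
  haveI := Sz_finite σ τ hσ hσ2 hτ h2 hm hF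
  by_cases hpd : p ∣ Nat.card (Sz F m)
  · have hpd' := hpd
    rw [card_Sz σ τ hσ hσ2 hτ h2 hm hF, hF] at hpd'
    rcases prime_cases m p Fact.out hp2 hpd' with hq | hq
    · by_cases htriv : Subsingleton P
      · exact isCyclic_of_subsingleton
      · haveI : Nontrivial P := not_subsingleton_iff_nontrivial.mp htriv
        obtain ⟨n, hn⟩ := IsPGroup.iff_card.mp P.isPGroup'
        have hn0 : 0 < n := by
          rcases Nat.eq_zero_or_pos n with h | h
          · exfalso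
            rw [h, pow_zero] at hn
            have := Finite.one_lt_card (α := P)
            omega
          · exact h
        obtain ⟨k, hk, hck⟩ := IsPGroup.card_center_eq_prime_pow hn hn0
        obtain ⟨z, hz⟩ := exists_prime_orderOf_dvd_card' (G := Subgroup.center P) p
          (hck ▸ dvd_pow_self p hk.ne')
        let f : P →* Matrix (Fin 4) (Fin 4) F :=
          { toFun := fun g => g.1.1.1
            map_one' := rfl
            map_mul' := fun _ _ => rfl }
        have hf : Function.Injective f :=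
          fun a b h => Subtype.ext (Subtype.ext (Subtype.ext h))
        have hzp : z.1 ^ p = 1 := by
          have : z ^ p = 1 := by
            have h5 := pow_orderOf_eq_one z
            rwa [hz] at h5
          exact congrArg Subtype.val this
        have hz1 : z.1 ≠ 1 := by
          intro h
          have : z = 1 := Subtype.ext h
          rw [this, orderOf_one] at hz
          exact (Fact.out : p.Prime).one_lt.ne hz
        refine cent_cyclic hp2 (by rw [hF]; exact hq) (f z.1) ?_ ?_ f hf ?_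
        · rw [← map_pow, hzp, map_one]
        · intro h
          exact hz1 (hf (h.trans f.map_one.symm))
        · intro g
          rw [← map_mul, ← map_mul]
          congr 1
          exact Subgroup.mem_center_iff.mp z.2 g
    · have hfac : (Nat.card (Sz F m)).factorization p =
          (Nat.card (szD σ τ hσ hσ2 hτ)).factorization p := by
        rw [card_Sz σ τ hσ hσ2 hτ h2 hm hF, card_szD, hF]
        exact fact_torus m p Fact.out hp2 hq
      obtain ⟨f, hf⟩ := sylow_embed (szD σ τ hσ hσ2 hτ) p hfac P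
      haveI : IsCyclic (szD σ τ hσ hσ2 hτ) :=
        isCyclic_of_surjective (dHom σ τ hσ hσ2 hτ).rangeRestrict
          (dHom σ τ hσ hσ2 hτ).rangeRestrict_surjective
      exact isCyclic_of_injective f hf
  · have h1 := P.card_eq_multiplicity
    rw [Nat.factorization_eq_zero_of_not_dvd hpd, pow_zero] at h1
    haveI : Subsingleton P := (Nat.card_eq_one_iff_unique.mp h1).1
    exact isCyclic_of_subsingleton

end assemble

end

end Cfsg.Agent.Helper3
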