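import Mathlib
import Cfsg.Agent.Helper3.SuzukiC

set_option autoImplicit false
set_option linter.unusedSectionVars false
set_option linter.style.haveILetI false
set_option linter.unusedSimpArgs false
set_option linter.unusedVariables false

namespace Cfsg.Agent.Helper3

open scoped Classical Pointwise
open Cfsg Matrix
open Cfsg.Agent.S0335 (fv ovA tM ovO fv_aniso fv_inv_id fv_translate tM_mulVec)

noncomputable section

section transfer

variable {G : Type*} [Group G]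

/-- the statement "the normaliser is the unique maximal subgroup above" is invariant under
automorphisms -/
theorem unique_max_transfer (φ : G ≃* G) (H : Subgroup G)
    (h : IsCoatom (Subgroup.normalizer (H : Set G)) ∧
      ∀ M : Subgroup G, IsCoatom M → H ≤ M → M = Subgroup.normalizer (H : Set G)) :
    IsCoatom (Subgroup.normalizer ((H.map φ.toMonoidHom : Subgroup G) : Set G)) ∧
      ∀ M : Subgroup G, IsCoatom M → H.map φ.toMonoidHom ≤ M →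
        M = Subgroup.normalizer ((H.map φ.toMonoidHom : Subgroup G) : Set G) := by
  obtain ⟨h1, h2⟩ := h
  have hN : Subgroup.normalizer ((H.map φ.toMonoidHom : Subgroup G) : Set G) =
      φ.mapSubgroup (Subgroup.normalizer (H : Set G)) :=
    (Subgroup.map_equiv_normalizer_eq H φ).symm
  rw [hN]
  refine ⟨(OrderIso.isCoatom_iff φ.mapSubgroup _).mpr h1, ?_⟩
  intro M hM hle
  have e : M = φ.mapSubgroup (φ.mapSubgroup.symm M) := (OrderIso.apply_symm_apply _ _).symm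
  rw [e] at hM hle ⊢
  rw [OrderIso.isCoatom_iff] at hM
  have hle' : H ≤ φ.mapSubgroup.symm M := by
    have h3 : φ.mapSubgroup H ≤ φ.mapSubgroup (φ.mapSubgroup.symm M) := hle
    exact (OrderIso.le_iff_le φ.mapSubgroup).mp h3
  rw [h2 _ hM hle']

end transfer

section maxi

variable {F : Type*} [Field F] [Fintype F] {m : ℕ} (σ τ : F →+* F)
  (hσ : ∀ x, σ x = x ^ (2 ^ (m + 1)))
  (hσ2 : ∀ x, σ (σ x) = x ^ 2) (hτ : ∀ x, τ x ^ 2 = σ x) (h2 : (2 : F) = 0)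

include hσ2 h2 in
theorem tS_fix (a b : F) (hab : ¬ (a = 0 ∧ b = 0)) (o : Option (F × F))
    (hfix : tS σ a b • pt σ o = pt σ o) : o = none := by
  rcases o with _ | ⟨x, y⟩
  · rfl
  · exfalso
    rw [tS_aff σ hσ2 h2] at hfix
    have h3 := pt_inj σ hfix
    simp only [Option.some.injEq, Prod.mk.injEq] at h3
    obtain ⟨e1, e2⟩ := h3
    have ha : a = 0 := by linear_combination e1
    subst ha
    have hb : b = 0 := by
      simp only [map_zero, zero_mul, add_zero] at e2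
      linear_combination e2
    exact hab ⟨rfl, hb⟩

include hσ2 h2 in
theorem tS_inv (a b : F) : (tS σ a b)⁻¹ = tS σ a (b + σ a * a) := by
  apply inv_eq_of_mul_eq_one_right
  rw [tS_mul σ hσ2 h2]
  have e1 : a + a = 0 := by linear_combination a * h2
  have e2 : b + (b + σ a * a) + σ a * a = 0 := by linear_combination (b + σ a * a) * h2
  rw [e1, e2, tS_zero]

/-- the stabiliser of the point at infinity -/
def szB (m : ℕ) : Subgroup (Sz F m) := MulAction.stabilizer (Sz F m) (suzukiPointInfinity F)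

theorem mem_szB (g : Sz F m) : g ∈ szB (F := F) m ↔ g.1 • pt σ none = pt σ none := by
  unfold szB
  rw [MulAction.mem_stabilizer_iff]
  rfl

include hσ hσ2 hτ h2 in
theorem mem_szB_iff (hm : 1 ≤ m) (hF : Fintype.card F = 2 ^ (2 * m + 1)) (g : Sz F m) :
    g ∈ szB (F := F) m ↔ ∃ a b κ, g.1 = tS σ a b * dS σ τ hτ κ := by
  rw [mem_szB σ]
  constructor
  · intro h
    exact Sz_inf_decomp σ τ hσ hσ2 hτ h2 hm hF g.1 g.2 h
  · rintro ⟨a, b, κ, h⟩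
    rw [h, mul_smul, dS_inf, tS_inf]

theorem uElt_mem_szB (a b : F) : (uElt σ hσ hσ2 h2 a b).1 ∈ szB (F := F) m := by
  rw [mem_szB σ]
  exact tS_inf σ a b

theorem szU_le_szB : (szU σ hσ hσ2 h2) ≤ szB (F := F) m := by
  rintro g ⟨a, b, h⟩
  rw [mem_szB σ, h]
  exact tS_inf σ a b

/-- reaching every point from infinity inside a subgroup containing `szU` and an element
moving infinity -/
theorem reach (M : Subgroup (Sz F m)) (hU : szU σ hσ hσ2 h2 ≤ M) (b : Sz F m) (hb : b ∈ M)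
    (hbinf : b.1 • pt σ none ≠ pt σ none) (o : Option (F × F)) :
    ∃ l ∈ M, l.1 • pt σ none = pt σ o := by
  rcases o with _ | ⟨x, y⟩
  · exact ⟨1, Subgroup.one_mem _, one_smul _ _⟩
  · obtain ⟨o', ho'⟩ := Sz_pt σ hσ b.1 b.2 none
    rcases o' with _ | ⟨x', y'⟩
    · exact absurd ho' hbinf
    · refine ⟨(uElt σ hσ hσ2 h2 x y).1 * (uElt σ hσ hσ2 h2 x' y').1⁻¹ * b,
        Subgroup.mul_mem _ (Subgroup.mul_mem _ (hU (uElt σ hσ hσ2 h2 x y).2)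
          (Subgroup.inv_mem _ (hU (uElt σ hσ hσ2 h2 x' y').2))) hb, ?_⟩
      show (tS σ x y * (tS σ x' y')⁻¹ * b.1) • pt σ none = _
      rw [mul_smul, mul_smul, ho']
      have e1 : (tS σ x' y')⁻¹ • pt σ (some (x', y')) = pt σ (some (0, 0)) := by
        rw [inv_smul_eq_iff, tS_aff σ hσ2 h2]
        simp
      rw [e1, tS_aff σ hσ2 h2]
      simp

include hτ in
/-- a subgroup containing `szU`, the torus and an element moving infinity is everything -/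
theorem eq_top_of (hm : 1 ≤ m) (hF : Fintype.card F = 2 ^ (2 * m + 1))
    (M : Subgroup (Sz F m)) (hU : szU σ hσ hσ2 h2 ≤ M)
    (hD : szD σ τ hσ hσ2 hτ ≤ M) (b : Sz F m) (hb : b ∈ M)
    (hbinf : b.1 • pt σ none ≠ pt σ none) : M = ⊤ := by
  rw [eq_top_iff]
  intro g _
  obtain ⟨o, ho⟩ := Sz_pt σ hσ g.1 g.2 none
  obtain ⟨l, hl, hlo⟩ := reach σ hσ hσ2 h2 M hU b hb hbinf o
  have hfix : (l⁻¹ * g).1 • pt σ none = pt σ none := by
    show (l.1⁻¹ * g.1) • pt σ none = _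
    rw [mul_smul, ho, ← hlo, inv_smul_smul]
  obtain ⟨a, c, κ, hdec⟩ := Sz_inf_decomp σ τ hσ hσ2 hτ h2 hm hF _ (l⁻¹ * g).2 hfix
  have hmem : l⁻¹ * g ∈ M := by
    have e : l⁻¹ * g = (uElt σ hσ hσ2 h2 a c).1 * dHom σ τ hσ hσ2 hτ κ := Subtype.ext hdec
    rw [e]
    exact Subgroup.mul_mem _ (hU (uElt σ hσ hσ2 h2 a c).2) (hD ⟨κ, rfl⟩)
  have : g = l * (l⁻¹ * g) := by group
  rw [this]
  exact Subgroup.mul_mem _ hl hmem

include hσ hσ2 hτ h2 in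
theorem wS_not_inf : (wS h2 : Matrix.SpecialLinearGroup (Fin 4) F) • pt σ none ≠ pt σ none := by
  rw [wS_inf]
  intro h
  exact absurd (pt_inj σ h) (by simp)

include hσ hσ2 hτ h2 in
theorem szB_coatom (hm : 1 ≤ m) (hF : Fintype.card F = 2 ^ (2 * m + 1)) :
    IsCoatom (szB (F := F) m) := by
  constructor
  · intro htop
    have h1 : (⟨wS h2, wS_mem σ hσ hσ2 h2⟩ : Sz F m) ∈ szB (F := F) m := by
      rw [htop]; exact Subgroup.mem_top _
    rw [mem_szB σ] at h1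
    exact wS_not_inf σ τ hσ hσ2 hτ h2 h1
  · intro K hK
    obtain ⟨b, hbK, hbB⟩ := SetLike.exists_of_lt hK
    rw [mem_szB σ] at hbB
    refine eq_top_of σ τ hσ hσ2 hτ h2 hm hF K ((szU_le_szB σ hσ hσ2 h2).trans hK.le) ?_ b hbK hbB
    rintro g ⟨κ, rfl⟩
    apply hK.le
    rw [mem_szB σ]
    exact dS_inf σ τ hτ κ

include hτ in
theorem szB_le_normalizer (hm : 1 ≤ m) (hF : Fintype.card F = 2 ^ (2 * m + 1)) :
    szB (F := F) m ≤ Subgroup.normalizer ((szU σ hσ hσ2 h2 : Subgroup (Sz F m)) : Set (Sz F m)) := by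
  have key : ∀ g ∈ szB (F := F) m, ∀ u ∈ szU σ hσ hσ2 h2, g * u * g⁻¹ ∈ szU σ hσ hσ2 h2 := by
    intro g hg u hu
    obtain ⟨a, b, κ, hdec⟩ := (mem_szB_iff σ τ hσ hσ2 hτ h2 hm hF g).mp hg
    obtain ⟨c, d, hu'⟩ := hu
    refine ⟨κ * c, κ * σ κ * d + (σ a * (κ * c) + σ (κ * c) * a), ?_⟩
    show g.1 * u.1 * g.1⁻¹ = _
    rw [hdec, hu', _root_.mul_inv_rev, tS_inv σ hσ2 h2]
    have e1 : tS σ a b * dS σ τ hτ κ * tS σ c d * ((dS σ τ hτ κ)⁻¹ * tS σ a (b + σ a * a)) =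
        tS σ a b * tS σ (κ * c) (κ * σ κ * d) * tS σ a (b + σ a * a) := by
      rw [mul_assoc (tS σ a b), dS_tS σ τ hσ2 hτ]
      group
    rw [e1, tS_mul σ hσ2 h2, tS_mul σ hσ2 h2]
    congr 1
    · linear_combination a * h2
    · simp only [map_add, map_mul]
      linear_combination (b + σ a * a) * h2
  intro g hg
  rw [Subgroup.mem_normalizer_iff]
  intro u
  constructor
  · exact key g hg u
  · intro h
    have := key g⁻¹ (Subgroup.inv_mem _ hg) _ h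
    have e : g⁻¹ * (g * u * g⁻¹) * g⁻¹⁻¹ = u := by group
    rwa [e] at this

include hτ in
theorem szU_normalizer (hm : 1 ≤ m) (hF : Fintype.card F = 2 ^ (2 * m + 1)) :
    Subgroup.normalizer ((szU σ hσ hσ2 h2 : Subgroup (Sz F m)) : Set (Sz F m)) =
      szB (F := F) m := by
  apply le_antisymm
  · intro n hn
    rw [Subgroup.mem_normalizer_iff] at hn
    obtain ⟨a, b, hab⟩ := (hn (uElt σ hσ hσ2 h2 1 0).1).mp (uElt σ hσ hσ2 h2 1 0).2
    have hab' : n.1 * tS σ 1 0 * n.1⁻¹ = tS σ a b := hab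
    have hab0 : ¬ (a = 0 ∧ b = 0) := by
      rintro ⟨rfl, rfl⟩
      rw [tS_zero, conj_eq_one_iff] at hab'
      have := (tS_inj σ _ _ _ _ (hab'.trans (tS_zero σ).symm)).1
      exact one_ne_zero this
    obtain ⟨o, ho⟩ := Sz_pt σ hσ n.1 n.2 none
    rw [mem_szB σ, ho]
    have hfix : tS σ a b • pt σ o = pt σ o := by
      rw [← hab', ← ho, mul_smul, mul_smul, inv_smul_smul, tS_inf]
    rw [tS_fix σ hσ2 h2 a b hab0 o hfix]
  · exact szB_le_normalizer σ τ hσ hσ2 hτ h2 hm hF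

include hτ in
theorem szU_unique_max (hm : 1 ≤ m) (hF : Fintype.card F = 2 ^ (2 * m + 1))
    (M : Subgroup (Sz F m)) (hM : IsCoatom M) (hU : szU σ hσ hσ2 h2 ≤ M) :
    M = szB (F := F) m := by
  by_contra hne
  have hnle : ¬ M ≤ szB (F := F) m := by
    intro hle
    rcases (hM.le_iff).mp hle with h | h
    · exact (szB_coatom σ τ hσ hσ2 hτ h2 hm hF).1 h
    · exact hne h.symm
  obtain ⟨b, hbM, hbB⟩ := SetLike.not_le_iff_exists.mp hnle
  rw [mem_szB σ] at hbB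
  have hconj : ∀ (h : Sz F m), ∀ u ∈ szU σ hσ hσ2 h2, h * u * h⁻¹ ∈ M := by
    intro h u hu
    obtain ⟨o, ho⟩ := Sz_pt σ hσ h.1 h.2 none
    obtain ⟨l, hl, hlo⟩ := reach σ hσ hσ2 h2 M hU b hbM hbB o
    have hfix : l⁻¹ * h ∈ szB (F := F) m := by
      rw [mem_szB σ]
      show (l.1⁻¹ * h.1) • pt σ none = _
      rw [mul_smul, ho, ← hlo, inv_smul_smul]
    have hn := szB_le_normalizer σ τ hσ hσ2 hτ h2 hm hF hfix
    rw [Subgroup.mem_normalizer_iff] at hn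
    have h3 := hU ((hn u).mp hu)
    have e : h * u * h⁻¹ = l * ((l⁻¹ * h) * u * (l⁻¹ * h)⁻¹) * l⁻¹ := by group
    rw [e]
    exact Subgroup.mul_mem _ (Subgroup.mul_mem _ hl h3) (Subgroup.inv_mem _ hl)
  have hncl : Subgroup.normalClosure ((szU σ hσ hσ2 h2 : Subgroup (Sz F m)) : Set (Sz F m)) ≤ M := by
    unfold Subgroup.normalClosure
    rw [Subgroup.closure_le]
    intro x hx
    rw [Group.mem_conjugatesOfSet_iff] at hx
    obtain ⟨u, hu, hconj'⟩ := hx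
    obtain ⟨c, hc⟩ := isConj_iff.mp hconj'
    rw [← hc]
    exact hconj c u hu
  haveI := Sz_simple σ τ hσ hσ2 hτ h2 hm hF
  rcases (Subgroup.normalClosure_normal
    (s := ((szU σ hσ hσ2 h2 : Subgroup (Sz F m)) : Set (Sz F m)))).eq_bot_or_eq_top with h | h
  · have h3 : (uElt σ hσ hσ2 h2 1 0).1 ∈
        Subgroup.normalClosure ((szU σ hσ hσ2 h2 : Subgroup (Sz F m)) : Set (Sz F m)) :=
      Subgroup.subset_normalClosure (uElt σ hσ hσ2 h2 1 0).2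
    rw [h, Subgroup.mem_bot] at h3
    have h4 : uElt σ hσ hσ2 h2 1 0 = 1 := Subtype.ext h3
    rw [← uElt_zero σ hσ hσ2 h2] at h4
    exact one_ne_zero (uElt_inj σ hσ hσ2 h2 _ _ _ _ h4).1
  · rw [h, top_le_iff] at hncl
    exact hM.1 hncl

include hσ hσ2 hτ h2 in
theorem Sz_unique_max (hm : 1 ≤ m) (hF : Fintype.card F = 2 ^ (2 * m + 1))
    (P : Sylow 2 (Sz F m)) :
    IsCoatom (Subgroup.normalizer ((P : Subgroup (Sz F m)) : Set (Sz F m))) ∧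
    ∀ M : Subgroup (Sz F m), IsCoatom M → (P : Subgroup (Sz F m)) ≤ M →
      M = Subgroup.normalizer ((P : Subgroup (Sz F m)) : Set (Sz F m)) := by
  haveI := Sz_finite σ τ hσ hσ2 hτ h2 hm hF
  have hcard : Nat.card (szU σ hσ hσ2 h2) = 2 ^ (Nat.card (Sz F m)).factorization 2 := by
    rw [card_szU, card_Sz_eq σ τ hσ hσ2 hτ h2 hm hF, fact_two _ _ (odd_part m), hF, ← pow_add]
    congr 1
    ring
  let P₀ : Sylow 2 (Sz F m) := Sylow.ofCard (szU σ hσ hσ2 h2) hcard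
  obtain ⟨g, hg⟩ := MulAction.exists_smul_eq (Sz F m) P₀ P
  have hP : (P : Subgroup (Sz F m)) = (szU σ hσ hσ2 h2).map (MulAut.conj g).toMonoidHom := by
    rw [← hg, Sylow.coe_subgroup_smul]
    rfl
  rw [hP]
  apply unique_max_transfer
  rw [szU_normalizer σ τ hσ hσ2 hτ h2 hm hF]
  exact ⟨szB_coatom σ τ hσ hσ2 hτ h2 hm hF, szU_unique_max σ τ hσ hσ2 hτ h2 hm hF⟩

include hτ in
theorem U_gen (H : Subgroup (Sz F m)) (hD : szD σ τ hσ hσ2 hτ ≤ H) (a₀ b₀ : F) (ha₀ : a₀ ≠ 0)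
    (hu : (uElt σ hσ hσ2 h2 a₀ b₀).1 ∈ H) (hF8 : 2 < Fintype.card F) :
    szU σ hσ hσ2 h2 ≤ H := by
  have s1 : ∀ a : F, ∃ b : F, (uElt σ hσ hσ2 h2 a b).1 ∈ H := by
    intro a
    by_cases ha : a = 0
    · exact ⟨0, by rw [ha, uElt_zero]; exact H.one_mem⟩
    · refine ⟨(a / a₀) * σ (a / a₀) * b₀, ?_⟩
      have e : (uElt σ hσ hσ2 h2 a ((a / a₀) * σ (a / a₀) * b₀)).1 =
          dHom σ τ hσ hσ2 hτ (Units.mk0 (a / a₀) (div_ne_zero ha ha₀)) *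
            (uElt σ hσ hσ2 h2 a₀ b₀).1 *
            (dHom σ τ hσ hσ2 hτ (Units.mk0 (a / a₀) (div_ne_zero ha ha₀)))⁻¹ := by
        apply Subtype.ext
        show tS σ a _ = dS σ τ hτ (Units.mk0 (a / a₀) (div_ne_zero ha ha₀)) * tS σ a₀ b₀ *
          (dS σ τ hτ (Units.mk0 (a / a₀) (div_ne_zero ha ha₀)))⁻¹
        rw [dS_tS σ τ hσ2 hτ, mul_inv_cancel_right]
        congr 1
        show a = a / a₀ * a₀
        field_simp
      rw [e]
      exact H.mul_mem (H.mul_mem (hD ⟨_, rfl⟩) hu) (H.inv_mem (hD ⟨_, rfl⟩))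
  have s2 : ∀ b : F, (uElt σ hσ hσ2 h2 0 b).1 ∈ H := by
    intro b
    obtain ⟨a, c, hac⟩ := comm_surj σ hσ2 hF8 b
    obtain ⟨b1, h1⟩ := s1 a
    obtain ⟨b2, h2'⟩ := s1 c
    have hxy : uElt σ hσ hσ2 h2 a b1 * uElt σ hσ hσ2 h2 c b2 =
        uElt σ hσ hσ2 h2 0 b * (uElt σ hσ hσ2 h2 c b2 * uElt σ hσ hσ2 h2 a b1) := by
      rw [uElt_mul, uElt_mul, uElt_mul, ← hac]
      congr 1 <;> simp <;> ring
    have e : uElt σ hσ hσ2 h2 0 b = uElt σ hσ hσ2 h2 a b1 * uElt σ hσ hσ2 h2 c b2 *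
        (uElt σ hσ hσ2 h2 a b1)⁻¹ * (uElt σ hσ hσ2 h2 c b2)⁻¹ := by
      rw [hxy]; group
    rw [e]
    exact H.mul_mem (H.mul_mem (H.mul_mem h1 h2') (H.inv_mem h1)) (H.inv_mem h2')
  intro g hg
  obtain ⟨a, b, hab⟩ := uElt_surj σ hσ hσ2 h2 ⟨g, hg⟩
  obtain ⟨b1, h1⟩ := s1 a
  have e : (⟨g, hg⟩ : szU σ hσ hσ2 h2) =
      uElt σ hσ hσ2 h2 a b1 * uElt σ hσ hσ2 h2 0 (b - b1) := by
    rw [hab, uElt_mul]
    congr 1 <;> simp
  have e' : g = (uElt σ hσ hσ2 h2 a b1).1 * (uElt σ hσ hσ2 h2 0 (b - b1)).1 :=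
    congrArg Subtype.val e
  rw [e']
  exact H.mul_mem h1 (s2 _)

include hσ hσ2 hτ h2 in
theorem Sz_two_gen (hm : 1 ≤ m) (hF : Fintype.card F = 2 ^ (2 * m + 1)) :
    ∃ a b : Sz F m, Subgroup.closure ({a, b} : Set (Sz F m)) = ⊤ := by
  have hF8 : 2 < Fintype.card F := by
    rw [hF]
    calc 2 < 2 ^ 3 := by norm_num
      _ ≤ 2 ^ (2 * m + 1) := Nat.pow_le_pow_right (by norm_num) (by omega)
  obtain ⟨κ₀, hκ₀⟩ := IsCyclic.exists_generator (α := Fˣ)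
  have hκ1 : κ₀ ≠ 1 := by
    intro h
    have hall : ∀ x : Fˣ, x = 1 := fun x => by
      have h3 := hκ₀ x
      rw [h, Subgroup.zpowers_one_eq_bot, Subgroup.mem_bot] at h3
      exact h3
    have hcard : Fintype.card Fˣ = 1 := Fintype.card_eq_one_iff.mpr ⟨1, hall⟩
    rw [Fintype.card_units] at hcard
    omega
  have hκ1' : 1 + ((κ₀⁻¹ : Fˣ) : F) ≠ 0 := by
    intro h
    apply hκ1
    have h3 : ((κ₀⁻¹ : Fˣ) : F) = 1 := by linear_combination h - h2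
    have h4 : κ₀⁻¹ = 1 := Units.ext h3
    exact inv_eq_one.mp h4
  refine ⟨dHom σ τ hσ hσ2 hτ κ₀,
    (⟨wS h2, wS_mem σ hσ hσ2 h2⟩ : Sz F m) * (uElt σ hσ hσ2 h2 1 0).1, ?_⟩
  have ha : dHom σ τ hσ hσ2 hτ κ₀ ∈ Subgroup.closure ({dHom σ τ hσ hσ2 hτ κ₀,
      (⟨wS h2, wS_mem σ hσ hσ2 h2⟩ : Sz F m) * (uElt σ hσ hσ2 h2 1 0).1} : Set (Sz F m)) :=
    Subgroup.subset_closure (by simp)
  have hb : (⟨wS h2, wS_mem σ hσ hσ2 h2⟩ : Sz F m) * (uElt σ hσ hσ2 h2 1 0).1 ∈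
      Subgroup.closure ({dHom σ τ hσ hσ2 hτ κ₀,
      (⟨wS h2, wS_mem σ hσ hσ2 h2⟩ : Sz F m) * (uElt σ hσ hσ2 h2 1 0).1} : Set (Sz F m)) :=
    Subgroup.subset_closure (by simp)
  generalize Subgroup.closure ({dHom σ τ hσ hσ2 hτ κ₀,
      (⟨wS h2, wS_mem σ hσ hσ2 h2⟩ : Sz F m) * (uElt σ hσ hσ2 h2 1 0).1} : Set (Sz F m)) = H
    at ha hb ⊢
  have hD : szD σ τ hσ hσ2 hτ ≤ H := by
    rintro g ⟨κ, rfl⟩
    obtain ⟨k, hk⟩ := Subgroup.mem_zpowers_iff.mp (hκ₀ κ)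
    rw [← hk, map_zpow]
    exact Subgroup.zpow_mem _ ha k
  have hu : (uElt σ hσ hσ2 h2 (1 + ((κ₀⁻¹ : Fˣ) : F)) (1 + ((κ₀⁻¹ : Fˣ) : F))).1 ∈ H := by
    have e : (uElt σ hσ hσ2 h2 (1 + ((κ₀⁻¹ : Fˣ) : F)) (1 + ((κ₀⁻¹ : Fˣ) : F))).1 =
        ((⟨wS h2, wS_mem σ hσ hσ2 h2⟩ : Sz F m) * (uElt σ hσ hσ2 h2 1 0).1)⁻¹ *
          dHom σ τ hσ hσ2 hτ κ₀ *
          ((⟨wS h2, wS_mem σ hσ hσ2 h2⟩ : Sz F m) * (uElt σ hσ hσ2 h2 1 0).1) *
          dHom σ τ hσ hσ2 hτ κ₀ := by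
      apply Subtype.ext
      show tS σ (1 + ((κ₀⁻¹ : Fˣ) : F)) (1 + ((κ₀⁻¹ : Fˣ) : F)) =
        (wS h2 * tS σ 1 0)⁻¹ * dS σ τ hτ κ₀ * (wS h2 * tS σ 1 0) * dS σ τ hτ κ₀
      have ew : (wS h2 : Matrix.SpecialLinearGroup (Fin 4) F)⁻¹ = wS h2 :=
        inv_eq_of_mul_eq_one_right (wS_mul_self h2)
      have e1 : wS h2 * dS σ τ hτ κ₀ * wS h2 = dS σ τ hτ κ₀⁻¹ := by
        rw [wS_dS σ τ hτ h2, mul_assoc, wS_mul_self, mul_one]
      have e2 : dS σ τ hτ κ₀⁻¹ * tS σ 1 0 * dS σ τ hτ κ₀ =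
          tS σ (((κ₀⁻¹ : Fˣ) : F) * 1) (((κ₀⁻¹ : Fˣ) : F) * σ ((κ₀⁻¹ : Fˣ) : F) * 0) := by
        rw [dS_tS σ τ hσ2 hτ, mul_assoc, ← dS_mul, inv_mul_cancel, dS_one, mul_one]
      calc tS σ (1 + ((κ₀⁻¹ : Fˣ) : F)) (1 + ((κ₀⁻¹ : Fˣ) : F))
          = (tS σ 1 0)⁻¹ *
            tS σ (((κ₀⁻¹ : Fˣ) : F) * 1) (((κ₀⁻¹ : Fˣ) : F) * σ ((κ₀⁻¹ : Fˣ) : F) * 0) := by
            rw [tS_inv σ hσ2 h2, tS_mul σ hσ2 h2]
            congr 1 <;> simp
        _ = (tS σ 1 0)⁻¹ * (dS σ τ hτ κ₀⁻¹ * tS σ 1 0 * dS σ τ hτ κ₀) := by rw [e2]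
        _ = (tS σ 1 0)⁻¹ * (wS h2 * dS σ τ hτ κ₀ * wS h2 * tS σ 1 0 * dS σ τ hτ κ₀) := by
            rw [e1]
        _ = (tS σ 1 0)⁻¹ * (wS h2)⁻¹ * dS σ τ hτ κ₀ * (wS h2 * tS σ 1 0) * dS σ τ hτ κ₀ := by
            rw [ew]; group
        _ = _ := by rw [_root_.mul_inv_rev]
    rw [e]
    exact H.mul_mem (H.mul_mem (H.mul_mem (H.inv_mem hb) ha) hb) ha
  have hU : szU σ hσ hσ2 h2 ≤ H := U_gen σ τ hσ hσ2 hτ h2 H hD _ _ hκ1' hu hF8
  apply eq_top_of σ τ hσ hσ2 hτ h2 hm hF H hU hD _ hb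
  show (wS h2 * tS σ 1 0) • pt σ none ≠ pt σ none
  rw [mul_smul, tS_inf]
  exact wS_not_inf σ τ hσ hσ2 hτ h2

include hσ hσ2 hτ h2 in
theorem real_tS (hm : 1 ≤ m) (hF : Fintype.card F = 2 ^ (2 * m + 1)) (a b : F)
    (hab : ¬ (a = 0 ∧ b = 0)) (h : Matrix.SpecialLinearGroup (Fin 4) F) (hh : h ∈ Sz F m)
    (hc : h * tS σ a b = (tS σ a b)⁻¹ * h) : a = 0 := by
  by_contra ha
  rw [tS_inv σ hσ2 h2] at hc
  obtain ⟨o, ho⟩ := Sz_pt σ hσ h hh none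
  have hfix : tS σ a (b + σ a * a) • pt σ o = pt σ o := by
    rw [← ho, ← mul_smul, ← hc, mul_smul, tS_inf]
  have ho' := tS_fix σ hσ2 h2 a _ (fun h => ha h.1) o hfix
  subst ho'
  obtain ⟨c, d, μ, rfl⟩ := Sz_inf_decomp σ τ hσ hσ2 hτ h2 hm hF h hh ho
  have e1 : tS σ c d * dS σ τ hτ μ * tS σ a b =
      tS σ c d * tS σ (μ * a) (μ * σ μ * b) * dS σ τ hτ μ := by
    rw [mul_assoc, dS_tS σ τ hσ2 hτ, ← mul_assoc]
  rw [e1, ← mul_assoc] at hc
  have e2 := mul_right_cancel hc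
  rw [tS_mul σ hσ2 h2, tS_mul σ hσ2 h2] at e2
  obtain ⟨k1, k2⟩ := tS_inj σ _ _ _ _ e2
  have hμ : (μ : F) = 1 := by
    apply mul_right_cancel₀ ha
    linear_combination k1
  rw [hμ] at k2
  simp only [map_one, one_mul, mul_one] at k2
  have hσa : σ a ≠ 0 := by rwa [Ne, map_eq_zero]
  have k3' : σ c * a + σ a * c = σ a * a := by linear_combination k2 + (σ a * c) * h2
  have k3 : σ (c / a) + c / a = 1 := by
    rw [map_div₀]
    field_simp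
    linear_combination k3'
  have k4 : (c / a) ^ 2 + σ (c / a) = 1 := by
    have := congrArg σ k3
    rw [map_add, hσ2, map_one] at this
    exact this
  have k5 : (c / a) * (c / a - 1) = 0 := by linear_combination k4 - k3
  rcases mul_eq_zero.mp k5 with h5 | h5
  · rw [h5, map_zero, add_zero] at k3
    exact zero_ne_one k3
  · have h6 : c / a = 1 := sub_eq_zero.mp h5
    rw [h6, map_one] at k3
    have : (1 : F) = 0 := by linear_combination k3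
    exact one_ne_zero this

include hσ hσ2 hτ h2 in
theorem Sz_real (hm : 1 ≤ m) (hF : Fintype.card F = 2 ^ (2 * m + 1)) (P : Sylow 2 (Sz F m))
    (g : Sz F m) (hg : g ∈ (P : Subgroup (Sz F m))) (h1 : g ≠ 1) :
    IsConj g g⁻¹ ↔ orderOf g = 2 := by
  haveI := Sz_finite σ τ hσ hσ2 hτ h2 hm hF
  haveI : Fact (Nat.Prime 2) := ⟨Nat.prime_two⟩
  constructor
  · intro hconj
    obtain ⟨k, hk⟩ := P.isPGroup' ⟨g, hg⟩
    have hk' : g ^ (2 ^ k) = 1 := congrArg Subtype.val hk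
    have hfac : (Nat.card (Sz F m)).factorization 2 =
        (Nat.card (szU σ hσ hσ2 h2)).factorization 2 := by
      rw [card_Sz_eq σ τ hσ hσ2 hτ h2 hm hF, fact_two _ _ (odd_part m), card_szU, hF, ← pow_add,
        Nat.Prime.factorization_pow Nat.prime_two, Finsupp.single_eq_same]
      ring
    obtain ⟨c, hc⟩ := conj_mem_of_sylow (szU σ hσ hσ2 h2) 2 hfac g k hk'
    obtain ⟨a, b, hab⟩ := hc
    have hab0 : ¬ (a = 0 ∧ b = 0) := by
      rintro ⟨rfl, rfl⟩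
      rw [tS_zero] at hab
      have : c * g * c⁻¹ = 1 := Subtype.ext hab
      exact h1 (conj_eq_one_iff.mp this)
    obtain ⟨d, hd⟩ := isConj_iff.mp hconj
    have hcomm : (c * d * c⁻¹).1 * tS σ a b = (tS σ a b)⁻¹ * (c * d * c⁻¹).1 := by
      rw [← hab]
      show ((c * d * c⁻¹) * (c * g * c⁻¹)).1 = ((c * g * c⁻¹)⁻¹ * (c * d * c⁻¹)).1
      congr 1
      have hdg : d * g = g⁻¹ * d := by rw [← hd]; group
      calc c * d * c⁻¹ * (c * g * c⁻¹) = c * (d * g) * c⁻¹ := by group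
        _ = c * (g⁻¹ * d) * c⁻¹ := by rw [hdg]
        _ = _ := by group
    have ha := real_tS σ τ hσ hσ2 hτ h2 hm hF a b hab0 _ (c * d * c⁻¹).2 hcomm
    subst ha
    have hsq : (c * g * c⁻¹) ^ 2 = 1 := by
      apply Subtype.ext
      show (c * g * c⁻¹).1 ^ 2 = 1
      rw [hab, pow_two, tS_mul σ hσ2 h2, ← tS_zero σ]
      congr 1
      · simp
      · simp only [map_zero, zero_mul, add_zero]
        linear_combination b * h2
    rw [conj_pow, conj_eq_one_iff] at hsq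
    exact orderOf_eq_prime hsq h1
  · intro ho
    have hsq : g * g = 1 := by
      rw [← pow_two, ← ho]
      exact pow_orderOf_eq_one g
    rw [inv_eq_of_mul_eq_one_left hsq]

end maxi

end

end Cfsg.Agent.Helper3
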