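import Mathlib
import Cfsg.Prelude.Def_Sz
import Cfsg.Agent.Helper3.SuzukiM

set_option autoImplicit false
set_option linter.unusedSectionVars false
set_option linter.style.haveILetI false
set_option linter.unusedSimpArgs false
set_option linter.unusedVariables false

namespace Cfsg.Agent.Helper3
open scoped Classical Pointwise
open Cfsg Matrix
open Cfsg.Agent.S0335 (fv ovA tM ovO fv_aniso fv_inv_id fv_translate tM_mulVec)

noncomputable section
variable {F : Type*} [Field F]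

theorem alt_eq (u v : Fin 4 → F) : Lie.altForm4 u v = u ⬝ᵥ (suzukiForm F *ᵥ v) := by
  simp [Lie.altForm4, suzukiForm, dotProduct, Matrix.mulVec, Fin.sum_univ_four]

theorem alt_mulVec (M : Matrix (Fin 4) (Fin 4) F) (u v : Fin 4 → F) :
    Lie.altForm4 (M *ᵥ u) (M *ᵥ v) = u ⬝ᵥ ((Mᵀ * suzukiForm F * M) *ᵥ v) := by
  rw [alt_eq, ← Matrix.mulVec_mulVec, ← Matrix.mulVec_mulVec, Matrix.dotProduct_mulVec u,
    Matrix.vecMul_transpose]

theorem alt_of_JP {M : Matrix (Fin 4) (Fin 4) F} (h : JP M) (u v : Fin 4 → F) :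
    Lie.altForm4 (M *ᵥ u) (M *ᵥ v) = Lie.altForm4 u v := by
  rw [alt_mulVec, h, alt_eq]

theorem JP_of_alt {M : Matrix (Fin 4) (Fin 4) F}
    (h : ∀ u v, Lie.altForm4 (M *ᵥ u) (M *ᵥ v) = Lie.altForm4 u v) : JP M := by
  unfold JP
  ext i j
  have h3 := h (Pi.single i 1) (Pi.single j 1)
  rw [alt_mulVec, alt_eq] at h3
  simpa using h3

theorem star_tM (σ : F →+* F) (hσ2 : ∀ x, σ (σ x) = x ^ 2) (h2 : (2 : F) = 0) (a b : F) :
    Lie.star4 (tM σ a b) = (tM σ a b).map σ := by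
  ext p r
  fin_cases p <;> fin_cases r <;>
    simp [Lie.star4, Lie.pairOf, tM, fv, hσ2] <;>
    first
      | ring1
      | linear_combination (-(σ a * a ^ 2 + σ b)) * h2
      | linear_combination (-(σ a ^ 2 * a ^ 2 + σ a * σ b)) * h2
      | linear_combination (-σ b) * h2

theorem sigma_tau (σ τ : F →+* F) (hσ2 : ∀ x, σ (σ x) = x ^ 2) (hτ : ∀ x, τ x ^ 2 = σ x)
    (h2 : (2 : F) = 0) (κ : F) : σ (τ κ) = κ := by
  have h3 : σ (τ κ) ^ 2 = κ ^ 2 := by rw [← map_pow, hτ, hσ2]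
  have h4 : (σ (τ κ) - κ) ^ 2 = 0 := by linear_combination h3 + (κ ^ 2 - σ (τ κ) * κ) * h2
  exact sub_eq_zero.mp ((pow_eq_zero_iff two_ne_zero).mp h4)

theorem star_dM (σ τ : F →+* F) (hσ2 : ∀ x, σ (σ x) = x ^ 2) (hτ : ∀ x, τ x ^ 2 = σ x)
    (h2 : (2 : F) = 0) (κ : F) (hκ : κ ≠ 0) :
    Lie.star4 (dM σ τ κ) = (dM σ τ κ).map σ := by
  have hτκ : τ κ ≠ 0 := by rwa [Ne, map_eq_zero]
  have hσκ : σ κ ≠ 0 := by rwa [Ne, map_eq_zero]
  have hst := sigma_tau σ τ hσ2 hτ h2 κ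
  have ht := hτ κ
  ext p r
  fin_cases p <;> fin_cases r <;>
    simp [Lie.star4, Lie.pairOf, dM, hσ2, hst, Matrix.diagonal_apply] <;>
    (rw [← ht]; field_simp)

theorem star_wM (σ : F →+* F) (h2 : (2 : F) = 0) :
    Lie.star4 (wM : Matrix (Fin 4) (Fin 4) F) = wM.map σ := by
  ext p r
  fin_cases p <;> fin_cases r <;> simp [Lie.star4, Lie.pairOf, wM] <;>
    linear_combination (-1 : F) * h2


theorem star_entry (σ : F →+* F) (g : Matrix (Fin 4) (Fin 4) F)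
    (hs : Lie.star4 g = g.map σ) (p r : Fin 4) :
    g (Lie.pairOf p).1 (Lie.pairOf r).1 * g (Lie.pairOf p).2 (Lie.pairOf r).2 -
      g (Lie.pairOf p).2 (Lie.pairOf r).1 * g (Lie.pairOf p).1 (Lie.pairOf r).2 = σ (g p r) :=
  congrFun (congrFun hs p) r

theorem form_sq : suzukiForm F * suzukiForm F = 1 := by
  ext i j
  fin_cases i <;> fin_cases j <;> simp [suzukiForm, Matrix.mul_apply, Fin.sum_univ_four]

theorem JP_transpose {M : Matrix (Fin 4) (Fin 4) F} (h : JP M) :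
    M * suzukiForm F * Mᵀ = suzukiForm F := by
  unfold JP at h
  have h1 : (suzukiForm F * Mᵀ * suzukiForm F) * M = 1 := by
    rw [Matrix.mul_assoc, Matrix.mul_assoc, ← Matrix.mul_assoc Mᵀ, h, form_sq]
  have h3 : M * (suzukiForm F * Mᵀ * suzukiForm F) = 1 := (Matrix.mul_eq_one_comm_of_card_eq (Fin 4) (Fin 4) F rfl).mp h1
  calc M * suzukiForm F * Mᵀ = M * suzukiForm F * Mᵀ * (suzukiForm F * suzukiForm F) := by
        rw [form_sq, Matrix.mul_one]
    _ = (M * (suzukiForm F * Mᵀ * suzukiForm F)) * suzukiForm F := by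
        simp only [Matrix.mul_assoc]
    _ = suzukiForm F := by rw [h3, Matrix.one_mul]

/-- absolute pairs -/
def AbsPair (σ : F →+* F) (v w : Fin 4 → F) : Prop :=
  Lie.altForm4 v w = 0 ∧ σ (v 0) = v 0 * w 1 - v 1 * w 0 ∧ σ (v 1) = v 0 * w 2 - v 2 * w 0 ∧
    σ (v 2) = v 1 * w 3 - v 3 * w 1 ∧ σ (v 3) = v 2 * w 3 - v 3 * w 2

theorem abs_ov (σ : F →+* F) (hσ2 : ∀ x, σ (σ x) = x ^ 2) (h2 : (2 : F) = 0)
    (o : Option (F × F)) : ∃ w, AbsPair σ (ovO σ o) w := by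
  rcases o with _ | ⟨x, y⟩
  · refine ⟨![0, 1, 0, 0], ?_⟩
    simp [AbsPair, ovO, Lie.altForm4]
  · refine ⟨![y + x * σ x, σ x, 1, 0], ?_⟩
    simp [AbsPair, ovO, ovA, Lie.altForm4, fv, hσ2]
    refine ⟨?_, ?_, ?_, ?_, ?_⟩
    · linear_combination (y + x * σ x) * h2
    · linear_combination (y ^ 2) * h2
    · ring
    · linear_combination (σ x) * h2
    · linear_combination (1 : F) * h2

theorem abs_imp (σ : F →+* F) (h2 : (2 : F) = 0) (v w : Fin 4 → F) (hv : v ≠ 0)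
    (h : AbsPair σ v w) : ∃ (o : Option (F × F)) (c : F), c ≠ 0 ∧ v = c • ovO σ o := by
  obtain ⟨h5, e1, e2, e3, e4⟩ := h
  unfold Lie.altForm4 at h5
  by_cases h3 : v 3 = 0
  · rw [h3] at e3 e4 h5
    simp only [map_zero, zero_mul, sub_zero, mul_zero, add_zero] at e3 e4 h5
    have hw3 : w 3 = 0 := by
      by_contra hw3
      have hv2 : v 2 = 0 := by
        rcases mul_eq_zero.mp e4.symm with h | h
        · exact h
        · exact absurd h hw3
      have hv1 : v 1 = 0 := by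
        rw [hv2, map_zero] at e3
        rcases mul_eq_zero.mp e3.symm with h | h
        · exact h
        · exact absurd h hw3
      have hv0 : v 0 = 0 := by
        rw [hv2, hv1] at h5
        simp only [zero_mul, add_zero] at h5
        rcases mul_eq_zero.mp h5 with h | h
        · exact h
        · exact absurd h hw3
      apply hv
      ext i
      fin_cases i <;> simp [hv0, hv1, hv2, h3]
    have hv2 : v 2 = 0 := by
      rw [hw3, mul_zero] at e3
      exact (map_eq_zero σ).mp e3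
    have hv1 : v 1 = 0 := by
      by_contra hv1
      rw [hw3, hv2] at h5
      simp only [zero_mul, add_zero, mul_zero, zero_add] at h5
      have hw2 : w 2 = 0 := by
        rcases mul_eq_zero.mp h5 with h | h
        · exact absurd h hv1
        · exact h
      rw [hw2, hv2] at e2
      simp only [zero_mul, sub_zero, mul_zero] at e2
      exact hv1 ((map_eq_zero σ).mp e2)
    refine ⟨none, v 0, ?_, ?_⟩
    · intro hv0
      apply hv
      ext i
      fin_cases i <;> simp [hv0, hv1, hv2, h3]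
    · ext i
      fin_cases i <;> simp [ovO, hv1, hv2, h3]
  · have hσc : σ (v 3) ≠ 0 := by rwa [Ne, map_eq_zero]
    have key : v 0 * v 3 * σ (v 3) =
        v 1 * v 2 * σ (v 3) + σ (v 2) * v 2 ^ 2 + σ (v 1) * v 3 ^ 2 := by
      linear_combination (v 0 * v 3 - v 1 * v 2) * e4 - v 2 ^ 2 * e3 - v 3 ^ 2 * e2 +
        v 2 * v 3 * h5 - (v 0 * v 3 ^ 2 * w 2 + v 1 * v 2 ^ 2 * w 3) * h2
    refine ⟨some (v 2 / v 3, v 1 / v 3), v 3, h3, ?_⟩
    ext i
    fin_cases i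
    · simp [ovO, ovA, fv, map_div₀]
      field_simp
      linear_combination key
    · simp [ovO, ovA]
      field_simp
    · simp [ovO, ovA]
      field_simp
    · simp [ovO, ovA]

theorem abs_map_aux (σ : F →+* F) (h2 : (2 : F) = 0) (g : Matrix (Fin 4) (Fin 4) F)
    (v w : Fin 4 → F) (k l p : Fin 4)
    (s0 : g k 0 * g l 1 - g l 0 * g k 1 = σ (g p 0))
    (s1 : g k 0 * g l 2 - g l 0 * g k 2 = σ (g p 1))
    (s2 : g k 1 * g l 3 - g l 1 * g k 3 = σ (g p 2))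
    (s3 : g k 2 * g l 3 - g l 2 * g k 3 = σ (g p 3))
    (R : g k 0 * g l 3 + g k 1 * g l 2 + g k 2 * g l 1 + g k 3 * g l 0 = 0)
    (h : AbsPair σ v w) :
    σ ((g *ᵥ v) p) = (g *ᵥ v) k * (g *ᵥ w) l - (g *ᵥ v) l * (g *ᵥ w) k := by
  obtain ⟨h5, e0, e1, e2, e3⟩ := h
  unfold Lie.altForm4 at h5
  simp only [Matrix.mulVec, dotProduct, Fin.sum_univ_four, map_add, map_mul]
  linear_combination (g k 0 * g l 1 - g l 0 * g k 1) * e0 + (g k 0 * g l 2 - g l 0 * g k 2) * e1 +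
    (g k 1 * g l 3 - g l 1 * g k 3) * e2 + (g k 2 * g l 3 - g l 2 * g k 3) * e3 -
    σ (v 0) * s0 - σ (v 1) * s1 - σ (v 2) * s2 - σ (v 3) * s3 -
    (v 0 * w 3 - v 3 * w 0) * R - (g k 1 * g l 2 - g l 1 * g k 2) * h5 +
    ((v 0 * w 3 - v 3 * w 0) * (g l 0 * g k 3 + g l 1 * g k 2) +
      (v 0 * w 3 - v 3 * w 0) * (g k 1 * g l 2 - g l 1 * g k 2) +
      (g k 1 * g l 2 - g l 1 * g k 2) * (v 3 * w 0 + v 2 * w 1)) * h2

theorem abs_map (σ : F →+* F) (h2 : (2 : F) = 0) (g : Matrix (Fin 4) (Fin 4) F) (hJ : JP g)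
    (hs : Lie.star4 g = g.map σ) (v w : Fin 4 → F) (h : AbsPair σ v w) :
    AbsPair σ (g *ᵥ v) (g *ᵥ w) := by
  have hJ' := JP_transpose hJ
  have r01 := congrFun (congrFun hJ' 0) 1
  have r02 := congrFun (congrFun hJ' 0) 2
  have r13 := congrFun (congrFun hJ' 1) 3
  have r23 := congrFun (congrFun hJ' 2) 3
  simp [Matrix.mul_apply, suzukiForm, Fin.sum_univ_four] at r01 r02 r13 r23
  refine ⟨?_, ?_, ?_, ?_, ?_⟩
  · rw [alt_of_JP hJ]
    exact h.1
  · exact abs_map_aux σ h2 g v w 0 1 0 (star_entry σ g hs 0 0) (star_entry σ g hs 0 1)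
      (star_entry σ g hs 0 2) (star_entry σ g hs 0 3) (by linear_combination r01) h
  · exact abs_map_aux σ h2 g v w 0 2 1 (star_entry σ g hs 1 0) (star_entry σ g hs 1 1)
      (star_entry σ g hs 1 2) (star_entry σ g hs 1 3) (by linear_combination r02) h
  · exact abs_map_aux σ h2 g v w 1 3 2 (star_entry σ g hs 2 0) (star_entry σ g hs 2 1)
      (star_entry σ g hs 2 2) (star_entry σ g hs 2 3) (by linear_combination r13) h
  · exact abs_map_aux σ h2 g v w 2 3 3 (star_entry σ g hs 3 0) (star_entry σ g hs 3 1)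
      (star_entry σ g hs 3 2) (star_entry σ g hs 3 3) (by linear_combination r23) h

section iso

variable [Fintype F] {m : ℕ} (σ τ : F →+* F) (hσ : ∀ x, σ x = x ^ (2 ^ (m + 1)))
  (hσ2 : ∀ x, σ (σ x) = x ^ 2) (hτ : ∀ x, τ x ^ 2 = σ x) (h2 : (2 : F) = 0)

/-- the inclusion of the ovoid stabiliser in `GL₄` -/
def szToGL (F : Type*) [Field F] (m : ℕ) : Sz F m →* GL (Fin 4) F :=
  (Matrix.SpecialLinearGroup.toGL).comp (Sz F m).subtype

theorem szToGL_coe (g : Sz F m) :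
    ((szToGL F m g : GL (Fin 4) F) : Matrix (Fin 4) (Fin 4) F) = g.1.1 := rfl

theorem szToGL_inj : Function.Injective (szToGL F m) := by
  intro a b h
  have h3 : ((szToGL F m a : GL (Fin 4) F) : Matrix (Fin 4) (Fin 4) F) =
      (szToGL F m b : GL (Fin 4) F) := by rw [h]
  exact Subtype.ext (Subtype.ext h3)

include hσ in
theorem gen_mem (g : Sz F m) (hJ : JP g.1.1) (hs : Lie.star4 g.1.1 = g.1.1.map σ) :
    szToGL F m g ∈ Lie.Sz F (2 ^ (m + 1)) := by
  apply Subgroup.subset_closure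
  refine ⟨?_, ?_⟩
  · intro u v
    exact alt_of_JP hJ u v
  · show Lie.star4 g.1.1 = g.1.1.map (fun x => x ^ (2 ^ (m + 1)))
    rw [hs]
    congr 1
    funext x
    exact hσ x

include hσ hσ2 hτ h2 in
theorem range_le (hm : 1 ≤ m) (hF : Fintype.card F = 2 ^ (2 * m + 1)) (g : Sz F m) :
    szToGL F m g ∈ Lie.Sz F (2 ^ (m + 1)) := by
  have hU : szU σ hσ hσ2 h2 ≤ (Lie.Sz F (2 ^ (m + 1))).comap (szToGL F m) := by
    rintro g ⟨a, b, hg⟩
    rw [Subgroup.mem_comap]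
    apply gen_mem σ hσ g
    · rw [hg]; exact JP_tM σ h2 a b
    · rw [hg]; exact star_tM σ hσ2 h2 a b
  have hD : szD σ τ hσ hσ2 hτ ≤ (Lie.Sz F (2 ^ (m + 1))).comap (szToGL F m) := by
    rintro g ⟨κ, rfl⟩
    rw [Subgroup.mem_comap]
    apply gen_mem σ hσ
    · exact JP_dM σ τ hτ κ κ.ne_zero
    · exact star_dM σ τ hσ2 hτ h2 κ κ.ne_zero
  have hw : (⟨wS h2, wS_mem σ hσ hσ2 h2⟩ : Sz F m) ∈
      (Lie.Sz F (2 ^ (m + 1))).comap (szToGL F m) := by
    rw [Subgroup.mem_comap]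
    apply gen_mem σ hσ
    · exact JP_wM
    · exact star_wM σ h2
  have htop := eq_top_of σ τ hσ hσ2 hτ h2 hm hF _ hU hD _ hw (wS_not_inf σ τ hσ hσ2 hτ h2)
  have h3 : g ∈ (Lie.Sz F (2 ^ (m + 1))).comap (szToGL F m) := by
    rw [htop]
    exact Subgroup.mem_top g
  exact h3

include hσ hσ2 h2 in
theorem gen_in_range (g : GL (Fin 4) F) (hg : g ∈ Lie.Sp4 F)
    (hs : Lie.star4 (g : Matrix (Fin 4) (Fin 4) F) =
      (g : Matrix (Fin 4) (Fin 4) F).map (fun x => x ^ 2 ^ (m + 1))) :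
    g ∈ (szToGL F m).range := by
  have hJ : JP (g : Matrix (Fin 4) (Fin 4) F) := JP_of_alt (fun u v => hg u v)
  have hs' : Lie.star4 (g : Matrix (Fin 4) (Fin 4) F) = (g : Matrix (Fin 4) (Fin 4) F).map σ := by
    rw [hs]
    congr 1
    funext x
    exact (hσ x).symm
  have hdet : (g : Matrix (Fin 4) (Fin 4) F).det = 1 := by
    have h3 := congrArg Matrix.det hJ
    rw [Matrix.det_mul, Matrix.det_mul, Matrix.det_transpose] at h3
    have hJdet : (suzukiForm F).det ≠ 0 := by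
      have h4 := congrArg Matrix.det (form_sq (F := F))
      rw [Matrix.det_mul, Matrix.det_one] at h4
      exact left_ne_zero_of_mul_eq_one h4
    have h4 : ((g : Matrix (Fin 4) (Fin 4) F).det) ^ 2 = 1 := by
      apply mul_right_cancel₀ hJdet
      linear_combination h3
    have h5 : ((g : Matrix (Fin 4) (Fin 4) F).det - 1) ^ 2 = 0 := by
      linear_combination h4 + (1 - (g : Matrix (Fin 4) (Fin 4) F).det) * h2
    exact sub_eq_zero.mp ((pow_eq_zero_iff two_ne_zero).mp h5)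
  have hmem : (⟨(g : Matrix (Fin 4) (Fin 4) F), hdet⟩ : Matrix.SpecialLinearGroup (Fin 4) F) ∈
      Sz F m := by
    refine (mem_Sz_iff σ hσ (⟨(g : Matrix (Fin 4) (Fin 4) F), hdet⟩ :
      Matrix.SpecialLinearGroup (Fin 4) F)).mpr ?_
    intro o
    obtain ⟨w, hw⟩ := abs_ov σ hσ2 h2 o
    have h3 := abs_map σ h2 (g : Matrix (Fin 4) (Fin 4) F) hJ hs' _ _ hw
    have hne : (g : Matrix (Fin 4) (Fin 4) F) *ᵥ ovO σ o ≠ 0 := by
      intro h0
      have h4 : ((g⁻¹ : GL (Fin 4) F) : Matrix (Fin 4) (Fin 4) F) *ᵥ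
          ((g : Matrix (Fin 4) (Fin 4) F) *ᵥ ovO σ o) = ovO σ o := by
        rw [Matrix.mulVec_mulVec, ← Units.val_mul, inv_mul_cancel, Units.val_one,
          Matrix.one_mulVec]
      rw [h0, Matrix.mulVec_zero] at h4
      exact ovO_ne_zero σ o h4.symm
    obtain ⟨o', c, hc, hv⟩ := abs_imp σ h2 _ _ hne h3
    exact ⟨o', c, hc, hv⟩
  exact ⟨⟨⟨(g : Matrix (Fin 4) (Fin 4) F), hdet⟩, hmem⟩, Units.ext rfl⟩

include hσ hσ2 hτ h2 in
theorem range_eq (hm : 1 ≤ m) (hF : Fintype.card F = 2 ^ (2 * m + 1)) :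
    (szToGL F m).range = Lie.Sz F (2 ^ (m + 1)) := by
  apply le_antisymm
  · rintro _ ⟨g, rfl⟩
    exact range_le σ τ hσ hσ2 hτ h2 hm hF g
  · unfold Lie.Sz
    rw [Subgroup.closure_le]
    rintro g ⟨hg, hs⟩
    exact gen_in_range σ hσ hσ2 h2 g hg hs

include hσ hσ2 hτ h2 in
/-- the two realisations of the Suzuki group are isomorphic -/
theorem Sz_lie_iso (hm : 1 ≤ m) (hF : Fintype.card F = 2 ^ (2 * m + 1)) :
    Nonempty (Sz F m ≃* Lie.Sz F (2 ^ (m + 1))) :=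
  ⟨(MonoidHom.ofInjective (szToGL_inj (F := F) (m := m))).trans
    (MulEquiv.subgroupCongr (range_eq σ τ hσ hσ2 hτ h2 hm hF))⟩

end iso

/-- the two realisations of the Suzuki group are isomorphic (context-free form) -/
theorem Sz_lie_iso' [Fintype F] {m : ℕ} (hm : 1 ≤ m) (hF : Fintype.card F = 2 ^ (2 * m + 1)) :
    Nonempty (Sz F m ≃* Lie.Sz F (2 ^ (m + 1))) := by
  obtain ⟨σ, τ, hσ, hσ2, hτ, h2⟩ := sz_ctx hF
  exact Sz_lie_iso σ τ hσ hσ2 hτ h2 hm hF

end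
end Cfsg.Agent.Helper3
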