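import Mathlib
import Cfsg.Agent.Helper3.SuzukiL

set_option autoImplicit false
set_option linter.unusedSectionVars false
set_option linter.style.haveILetI false
set_option linter.unusedSimpArgs false
set_option linter.unusedVariables false

namespace Cfsg.Agent.Helper3

open scoped Classical Pointwise
open Cfsg Matrix

noncomputable section

section cover

variable {G Ω : Type*} [Group G] [Finite G] [MulAction G Ω] [Fintype Ω]

/-- an element swapping two points has an involution among its powers -/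
theorem exists_invol_of_swap (x : G) (P Q : Ω) (hPQ : P ≠ Q) (h1 : x • P = Q) (h2 : x • Q = P) :
    ∃ k : ℕ, x ^ k ≠ 1 ∧ x ^ k * x ^ k = 1 := by
  have hn : 0 < orderOf x := orderOf_pos x
  have hsq : (x ^ 2) • P = P := by rw [pow_two, mul_smul, h1, h2]
  have hpow : ∀ j : ℕ, (x ^ (2 * j)) • P = P := by
    intro j
    induction j with
    | zero => simp
    | succ j ih => rw [Nat.mul_succ, pow_add, mul_smul, hsq, ih]
  rcases Nat.even_or_odd (orderOf x) with he | ho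
  · obtain ⟨k, hk⟩ := he
    refine ⟨k, ?_, ?_⟩
    · exact pow_ne_one_of_lt_orderOf (by omega) (by omega)
    · rw [← pow_add, ← hk, pow_orderOf_eq_one]
  · exfalso
    obtain ⟨k, hk⟩ := ho
    have hx : x = x ^ (2 * (k + 1)) := by
      have e : 2 * (k + 1) = orderOf x + 1 := by omega
      rw [e, pow_succ, pow_orderOf_eq_one, one_mul]
    have h3 := hpow (k + 1)
    rw [← hx, h1] at h3
    exact hPQ h3.symm

theorem invol_unique_fix
    (h3 : ∀ g : G, ∀ a b c : Ω, a ≠ b → b ≠ c → a ≠ c → g • a = a → g • b = b → g • c = c → g = 1)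
    (hodd : Odd (Fintype.card Ω)) (t : G) (ht1 : t ≠ 1) (ht : t * t = 1) :
    ∃ R : Ω, t • R = R ∧ ∀ R', t • R' = R' → R' = R := by
  obtain ⟨R, hR⟩ := invol_has_fixed_point hodd t ht
  refine ⟨R, hR, ?_⟩
  intro R' hR'
  by_contra hne
  have hσ : (MulAction.toPerm t : Equiv.Perm Ω) ^ 2 ^ 1 = 1 := by
    ext x
    simp [pow_succ, ← mul_smul, ht]
  have hmod := Equiv.Perm.card_compl_support_modEq (p := 2) (n := 1) hσ
  have hoddfix : Odd (MulAction.toPerm t : Equiv.Perm Ω).supportᶜ.card := by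
    rw [Nat.odd_iff] at hodd ⊢
    rw [hmod]; exact hodd
  have hmem : ∀ c : Ω, c ∈ (MulAction.toPerm t : Equiv.Perm Ω).supportᶜ ↔ t • c = c := by
    intro c
    simp [Equiv.Perm.mem_support]
  have hsub : ({R, R'} : Finset Ω) ⊆ (MulAction.toPerm t : Equiv.Perm Ω).supportᶜ := by
    intro c hc
    rw [Finset.mem_insert, Finset.mem_singleton] at hc
    rcases hc with rfl | rfl
    · exact (hmem _).mpr hR
    · exact (hmem _).mpr hR'
  have hc2 : ({R, R'} : Finset Ω).card = 2 := Finset.card_pair (Ne.symm hne)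
  have hlt : ({R, R'} : Finset Ω).card < (MulAction.toPerm t : Equiv.Perm Ω).supportᶜ.card := by
    have h5 := Finset.card_le_card hsub
    rcases hoddfix with ⟨j, hj⟩
    omega
  obtain ⟨c, hc, hcn⟩ := Finset.exists_mem_notMem_of_card_lt_card hlt
  rw [Finset.mem_insert, Finset.mem_singleton, not_or] at hcn
  exact ht1 (h3 t R R' c (Ne.symm hne) (Ne.symm hcn.2) (Ne.symm hcn.1) hR hR' ((hmem c).mp hc))

/-- an element swapping two points has exactly one fixed point -/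
theorem swap_fix
    (h3 : ∀ g : G, ∀ a b c : Ω, a ≠ b → b ≠ c → a ≠ c → g • a = a → g • b = b → g • c = c → g = 1)
    (hodd : Odd (Fintype.card Ω)) (x : G) (P Q : Ω) (hPQ : P ≠ Q) (h1 : x • P = Q)
    (h2 : x • Q = P) : ∃ R : Ω, x • R = R ∧ ∀ R', x • R' = R' → R' = R := by
  obtain ⟨k, hk1, hk2⟩ := exists_invol_of_swap x P Q hPQ h1 h2
  obtain ⟨R, hR, huniq⟩ := invol_unique_fix h3 hodd (x ^ k) hk1 hk2
  refine ⟨R, ?_, ?_⟩
  · apply huniq
    rw [← mul_smul, ← pow_succ, pow_succ', mul_smul, hR]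
  · intro R' hR'
    apply huniq
    have hmem : x ∈ MulAction.stabilizer G R' := hR'
    exact Subgroup.pow_mem _ hmem k

theorem commute_fix_two
    (h3 : ∀ g : G, ∀ a b c : Ω, a ≠ b → b ≠ c → a ≠ c → g • a = a → g • b = b → g • c = c → g = 1)
    (hodd : Odd (Fintype.card Ω)) (z d : G) (hd1 : d ≠ 1) (hcomm : d * z = z * d) (a b : Ω)
    (hab : a ≠ b) (hda : d • a = a) (hdb : d • b = b) : z • a = a ∧ z • b = b := by
  have hfixd : ∀ c, d • c = c → c = a ∨ c = b := by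
    intro c hc
    by_contra hne
    rw [not_or] at hne
    exact hd1 (h3 d a b c hab (Ne.symm hne.2) (Ne.symm hne.1) hda hdb hc)
  have hza : z • a = a ∨ z • a = b := hfixd _ (by rw [← mul_smul, hcomm, mul_smul, hda])
  have hzb : z • b = a ∨ z • b = b := hfixd _ (by rw [← mul_smul, hcomm, mul_smul, hdb])
  rcases hza with h | h
  · refine ⟨h, ?_⟩
    rcases hzb with h' | h'
    · exfalso
      exact hab (smul_left_cancel z (h.trans h'.symm))
    · exact h'
  · rcases hzb with h' | h'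
    · exfalso
      obtain ⟨R, hR, huniq⟩ := swap_fix h3 hodd z a b hab h h'
      have hdR : d • R = R := huniq _ (by rw [← mul_smul, ← hcomm, mul_smul, hR])
      rcases hfixd R hdR with rfl | rfl
      · exact hab (hR.symm.trans h)
      · exact hab (h'.symm.trans hR)
    · exfalso
      exact hab (smul_left_cancel z (h.trans h'.symm))

theorem no_nilp_min_cover
    (h3 : ∀ g : G, ∀ a b c : Ω, a ≠ b → b ≠ c → a ≠ c → g • a = a → g • b = b → g • c = c → g = 1)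
    (hodd : Odd (Fintype.card Ω)) (hcard : 4 ≤ Fintype.card Ω)
    (hpair : ∀ a b : Ω, a ≠ b → ∃ g : G, g ≠ 1 ∧ g • a = a ∧ g • b = b)
    (hstab : ∀ a : Ω, MulAction.stabilizer G a ≠ ⊤) :
    ¬ ∃ 𝓐 : Finset (Subgroup G), ((∀ A ∈ 𝓐, A ≠ ⊤) ∧ (∀ g : G, ∃ A ∈ 𝓐, g ∈ A)) ∧
      (∀ 𝓑 : Finset (Subgroup G), (∀ A ∈ 𝓑, A ≠ ⊤) ∧ (∀ g : G, ∃ A ∈ 𝓑, g ∈ A) →
        𝓐.card ≤ 𝓑.card) ∧ (∀ A ∈ 𝓐, Group.IsNilpotent ↥A) := by
  rintro ⟨𝓐, ⟨hprop, hcov⟩, hmin, hnil⟩
  have key : ∀ (A : Subgroup G), Group.IsNilpotent A → ∀ d ∈ A, d ≠ 1 → ∀ a b : Ω, a ≠ b →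
      d • a = a → d • b = b →
      (∀ y ∈ A, ∃ c : Ω, y • c = c) ∧
      (∀ d' ∈ A, d' ≠ 1 → ∀ a' b' : Ω, a' ≠ b' → d' • a' = a' → d' • b' = b' →
        (a' = a ∧ b' = b) ∨ (a' = b ∧ b' = a)) := by
    intro A hA d hdA hd1 a b hab hda hdb
    haveI := hA
    haveI : Nontrivial A := ⟨⟨⟨d, hdA⟩, 1, fun h => hd1 (congrArg Subtype.val h)⟩⟩
    obtain ⟨z, hz1⟩ := (Subgroup.ne_bot_iff_exists_ne_one).mp
      (Group.IsNilpotent.center_ne_bot (G := A))
    have hz1' : ((z : A) : G) ≠ 1 := by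
      intro h
      apply hz1
      exact Subtype.ext (Subtype.ext h)
    have hzcomm : ∀ y ∈ A, y * ((z : A) : G) = ((z : A) : G) * y := by
      intro y hy
      have h5 := Subgroup.mem_center_iff.mp z.2 ⟨y, hy⟩
      exact congrArg Subtype.val h5
    obtain ⟨hza, hzb⟩ := commute_fix_two h3 hodd ((z : A) : G) d hd1 (hzcomm d hdA) a b hab hda hdb
    have hfixz : ∀ c, ((z : A) : G) • c = c → c = a ∨ c = b := by
      intro c hc
      by_contra hne
      rw [not_or] at hne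
      exact hz1' (h3 _ a b c hab (Ne.symm hne.2) (Ne.symm hne.1) hza hzb hc)
    constructor
    · intro y hy
      have hya : y • a = a ∨ y • a = b :=
        hfixz _ (by rw [← mul_smul, ← hzcomm y hy, mul_smul, hza])
      have hyb : y • b = a ∨ y • b = b :=
        hfixz _ (by rw [← mul_smul, ← hzcomm y hy, mul_smul, hzb])
      rcases hya with h | h
      · exact ⟨a, h⟩
      · rcases hyb with h' | h'
        · obtain ⟨R, hR, -⟩ := swap_fix h3 hodd y a b hab h h'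
          exact ⟨R, hR⟩
        · exact ⟨b, h'⟩
    · intro d' hd'A hd'1 a' b' hab' hd'a hd'b
      obtain ⟨hza', hzb'⟩ := commute_fix_two h3 hodd ((z : A) : G) d' hd'1 (hzcomm d' hd'A) a' b'
        hab' hd'a hd'b
      rcases hfixz a' hza' with h | h <;> rcases hfixz b' hzb' with h' | h'
      · exact absurd (h.trans h'.symm) hab'
      · exact Or.inl ⟨h, h'⟩
      · exact Or.inr ⟨h, h'⟩
      · exact absurd (h.trans h'.symm) hab'
  have hd : ∀ p : Ω × Ω, ∃ A : Subgroup G, p.1 ≠ p.2 →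
      A ∈ 𝓐 ∧ ∃ d : G, d ∈ A ∧ d ≠ 1 ∧ d • p.1 = p.1 ∧ d • p.2 = p.2 := by
    intro p
    by_cases hp : p.1 = p.2
    · exact ⟨⊥, fun h => absurd hp h⟩
    · obtain ⟨d, hd1, ha, hb⟩ := hpair p.1 p.2 hp
      obtain ⟨A, hA, hdA⟩ := hcov d
      exact ⟨A, fun _ => ⟨hA, d, hdA, hd1, ha, hb⟩⟩
  choose fA hfA using hd
  have himg : ∀ p ∈ (Finset.univ : Finset Ω).offDiag,
      fA p ∈ 𝓐.filter (fun A => ∀ y ∈ A, ∃ c : Ω, y • c = c) := by
    intro p hp
    rw [Finset.mem_offDiag] at hp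
    obtain ⟨hA, d, hdA, hd1, ha, hb⟩ := hfA p hp.2.2
    rw [Finset.mem_filter]
    exact ⟨hA, (key _ (hnil _ hA) d hdA hd1 p.1 p.2 hp.2.2 ha hb).1⟩
  have hfib : ∀ A ∈ 𝓐.filter (fun A => ∀ y ∈ A, ∃ c : Ω, y • c = c),
      (((Finset.univ : Finset Ω).offDiag).filter (fun p => fA p = A)).card ≤ 2 := by
    intro A hA
    by_cases hne : (((Finset.univ : Finset Ω).offDiag).filter (fun p => fA p = A)).Nonempty
    · obtain ⟨p₀, hp₀⟩ := hne
      rw [Finset.mem_filter, Finset.mem_offDiag] at hp₀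
      obtain ⟨⟨-, -, hne₀⟩, hfp₀⟩ := hp₀
      obtain ⟨hA₀, d, hdA, hd1, ha, hb⟩ := hfA p₀ hne₀
      have hsub : ((Finset.univ : Finset Ω).offDiag).filter (fun p => fA p = A) ⊆
          {p₀, p₀.swap} := by
        intro p hp
        rw [Finset.mem_filter, Finset.mem_offDiag] at hp
        obtain ⟨⟨-, -, hnep⟩, hfp⟩ := hp
        obtain ⟨hA', d', hd'A, hd'1, ha', hb'⟩ := hfA p hnep
        rw [hfp, ← hfp₀] at hd'A
        have h5 := (key _ (hnil _ hA₀) d hdA hd1 p₀.1 p₀.2 hne₀ ha hb).2 d' hd'A hd'1 p.1 p.2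
          hnep ha' hb'
        rw [Finset.mem_insert, Finset.mem_singleton]
        rcases h5 with ⟨e1, e2⟩ | ⟨e1, e2⟩
        · left
          exact Prod.ext e1 e2
        · right
          exact Prod.ext e1 e2
      exact (Finset.card_le_card hsub).trans Finset.card_le_two
    · rw [Finset.not_nonempty_iff_eq_empty] at hne
      rw [hne]
      simp
  have hS := Finset.card_le_mul_card_image_of_maps_to himg 2 hfib
  rw [Finset.offDiag_card, Finset.card_univ] at hS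
  have hB := hmin ((𝓐 \ 𝓐.filter (fun A => ∀ y ∈ A, ∃ c : Ω, y • c = c)) ∪
      (Finset.univ : Finset Ω).image (fun a : Ω => MulAction.stabilizer G a)) ⟨by
    intro A hA
    rw [Finset.mem_union] at hA
    rcases hA with hA | hA
    · exact hprop A (Finset.mem_sdiff.mp hA).1
    · rw [Finset.mem_image] at hA
      obtain ⟨a, -, rfl⟩ := hA
      exact hstab a, by
    intro g
    by_cases hg : ∃ c : Ω, g • c = c
    · obtain ⟨c, hc⟩ := hg
      exact ⟨MulAction.stabilizer G c, Finset.mem_union_right _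
        (Finset.mem_image.mpr ⟨c, Finset.mem_univ _, rfl⟩), hc⟩
    · obtain ⟨A, hA, hgA⟩ := hcov g
      refine ⟨A, Finset.mem_union_left _ (Finset.mem_sdiff.mpr ⟨hA, ?_⟩), hgA⟩
      intro hA'
      exact hg ((Finset.mem_filter.mp hA').2 g hgA)⟩
  have hBcard := Finset.card_union_le (𝓐 \ 𝓐.filter (fun A => ∀ y ∈ A, ∃ c : Ω, y • c = c))
    ((Finset.univ : Finset Ω).image (fun a : Ω => MulAction.stabilizer G a))
  have h7 := Finset.card_sdiff_of_subset (Finset.filter_subset (fun A => ∀ y ∈ A, ∃ c : Ω, y • c = c) 𝓐)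
  have h8 := Finset.card_image_le (s := (Finset.univ : Finset Ω))
    (f := fun a : Ω => MulAction.stabilizer G a)
  have h9 := Finset.card_le_card (Finset.filter_subset (fun A => ∀ y ∈ A, ∃ c : Ω, y • c = c) 𝓐)
  rw [Finset.card_univ] at h8
  have h10 : 4 * Fintype.card Ω ≤ Fintype.card Ω * Fintype.card Ω := Nat.mul_le_mul_right _ hcard
  omega

end cover

section app

variable {F : Type*} [Field F] [Fintype F] {m : ℕ}

theorem Sz_no_nilp_cover (hm : 1 ≤ m) (hF : Fintype.card F = 2 ^ (2 * m + 1)) :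
    ¬ ∃ 𝓐 : Finset (Subgroup ↥(Cfsg.Lie.Sz F (2 ^ (m + 1)))), ((∀ A ∈ 𝓐, A ≠ ⊤) ∧ (∀ g : ↥(Cfsg.Lie.Sz F (2 ^ (m + 1))), ∃ A ∈ 𝓐, g ∈ A)) ∧ (∀ 𝓑 : Finset (Subgroup ↥(Cfsg.Lie.Sz F (2 ^ (m + 1)))), (∀ A ∈ 𝓑, A ≠ ⊤) ∧ (∀ g : ↥(Cfsg.Lie.Sz F (2 ^ (m + 1))), ∃ A ∈ 𝓑, g ∈ A) → 𝓐.card ≤ 𝓑.card) ∧ (∀ A ∈ 𝓐, Group.IsNilpotent ↥A) := by
  obtain ⟨σ, τ, hσ, hσ2, hτ, h2⟩ := sz_ctx hF
  obtain ⟨e⟩ := Sz_lie_iso σ τ hσ hσ2 hτ h2 hm hF
  have hZ := Sz_zassenhaus σ τ hσ hσ2 hτ h2 hm hF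
  haveI : Finite (suzukiOvoid F m) := (ovoid_finite m).to_subtype
  haveI : Fintype (suzukiOvoid F m) := Fintype.ofFinite _
  haveI : Finite (Sz F m) := Sz_finite σ τ hσ hσ2 hτ h2 hm hF
  haveI : Finite (Lie.Sz F (2 ^ (m + 1))) := Finite.of_equiv _ e.toEquiv
  letI : MulAction (Lie.Sz F (2 ^ (m + 1))) (suzukiOvoid F m) :=
    MulAction.compHom _ e.symm.toMonoidHom
  have hsm : ∀ (g : Lie.Sz F (2 ^ (m + 1))) (x : suzukiOvoid F m), g • x = e.symm g • x :=
    fun _ _ => rfl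
  have h2t : ∀ {a b c d : suzukiOvoid F m}, a ≠ b → c ≠ d → ∃ g : Sz F m, g • a = c ∧ g • b = d :=
    fun hab hcd => MulAction.is_two_pretransitive_iff.mp hZ.2.1 hab hcd
  have hcard : 4 ≤ Fintype.card (suzukiOvoid F m) := by
    rw [← Nat.card_eq_fintype_card, Cfsg.Agent.S0326.result, hF]
    have : 1 ≤ 2 ^ (2 * m + 1) := Nat.one_le_two_pow
    have h4 : 2 ^ 3 ≤ 2 ^ (2 * m + 1) := Nat.pow_le_pow_right (by norm_num) (by omega)
    nlinarith
  apply no_nilp_min_cover (Ω := suzukiOvoid F m)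
  · intro g a b c hab hbc hac ha hb hc
    rw [hsm] at ha hb hc
    have := hZ.2.2.1 (e.symm g) a b c hab hbc hac ha hb hc
    exact e.symm.map_eq_one_iff.mp this
  · exact ovoid_odd hF
  · exact hcard
  · intro a b hab
    obtain ⟨g₀, hg1, a₀, b₀, hab₀, ha₀, hb₀⟩ := hZ.2.2.2.1
    obtain ⟨t, hta, htb⟩ := h2t hab₀ hab
    refine ⟨e (t * g₀ * t⁻¹), ?_, ?_, ?_⟩
    · intro h
      have h' : t * g₀ * t⁻¹ = 1 := e.map_eq_one_iff.mp h
      apply hg1
      have : g₀ = t⁻¹ * (t * g₀ * t⁻¹) * t := by group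
      rw [this, h']
      group
    · rw [hsm, MulEquiv.symm_apply_apply, mul_smul, mul_smul, ← hta, inv_smul_smul, ha₀]
    · rw [hsm, MulEquiv.symm_apply_apply, mul_smul, mul_smul, ← htb, inv_smul_smul, hb₀]
  · intro a hstab
    haveI : Nontrivial (suzukiOvoid F m) := by
      rw [← Fintype.one_lt_card_iff_nontrivial]
      omega
    obtain ⟨b, hb⟩ := exists_ne a
    obtain ⟨t, hta, htb⟩ := h2t hb.symm hb
    have : e t ∈ MulAction.stabilizer (Lie.Sz F (2 ^ (m + 1))) a := by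
      rw [hstab]; trivial
    rw [MulAction.mem_stabilizer_iff, hsm, MulEquiv.symm_apply_apply] at this
    exact hb (hta.symm.trans this)

end app

end

end Cfsg.Agent.Helper3
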