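import Mathlib
import Cfsg.Agent.Helper3.SuzukiCover

set_option autoImplicit false
set_option linter.unusedSectionVars false
set_option linter.style.haveILetI false
set_option linter.unusedSimpArgs false
set_option linter.unusedVariables false

namespace Cfsg.Agent.Helper3

open scoped Classical Pointwise
open Cfsg Matrix

noncomputable section

/-- the action on the cosets of a point stabilizer, read off from the action on points -/
theorem coset_two_trans {G Ω : Type*} [Group G] [MulAction G Ω] (N P : Subgroup G) (p : Ω)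
    (hN : N = MulAction.stabilizer G p)
    (h2 : ∀ {a b c d : Ω}, a ≠ b → c ≠ d → ∃ g : G, g • a = c ∧ g • b = d)
    (hreg : ∀ x y : Ω, x ≠ p → y ≠ p → ∃! s : P, (s : G) • x = y) :
    MulAction.IsMultiplyPretransitive G (G ⧸ N) 2 ∧
    ∀ x y : G ⧸ N, x ≠ QuotientGroup.mk 1 → y ≠ QuotientGroup.mk 1 →
      ∃! s : P, (s : G) • x = y := by
  have key : ∀ a b : G, (QuotientGroup.mk a : G ⧸ N) = QuotientGroup.mk b ↔ a • p = b • p := by
    intro a b
    rw [QuotientGroup.eq, hN, MulAction.mem_stabilizer_iff, mul_smul, inv_smul_eq_iff]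
    exact eq_comm
  constructor
  · rw [MulAction.is_two_pretransitive_iff]
    intro a b c d hab hcd
    obtain ⟨a, rfl⟩ := QuotientGroup.mk_surjective a
    obtain ⟨b, rfl⟩ := QuotientGroup.mk_surjective b
    obtain ⟨c, rfl⟩ := QuotientGroup.mk_surjective c
    obtain ⟨d, rfl⟩ := QuotientGroup.mk_surjective d
    obtain ⟨g, h1, h2'⟩ := h2 (fun h => hab ((key a b).mpr h)) (fun h => hcd ((key c d).mpr h))
    refine ⟨g, ?_, ?_⟩
    · show (QuotientGroup.mk (g * a) : G ⧸ N) = _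
      rw [key, mul_smul]; exact h1
    · show (QuotientGroup.mk (g * b) : G ⧸ N) = _
      rw [key, mul_smul]; exact h2'
  · intro x y hx hy
    obtain ⟨a, rfl⟩ := QuotientGroup.mk_surjective x
    obtain ⟨b, rfl⟩ := QuotientGroup.mk_surjective y
    have ha : a • p ≠ p := fun h => hx ((key a 1).mpr (by rw [one_smul]; exact h))
    have hb : b • p ≠ p := fun h => hy ((key b 1).mpr (by rw [one_smul]; exact h))
    obtain ⟨s, hs, huniq⟩ := hreg (a • p) (b • p) ha hb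
    refine ⟨s, ?_, ?_⟩
    · show (QuotientGroup.mk (s.1 * a) : G ⧸ N) = _
      rw [key, mul_smul]; exact hs
    · intro t ht
      apply huniq
      have : (QuotientGroup.mk (t.1 * a) : G ⧸ N) = QuotientGroup.mk b := ht
      rw [key, mul_smul] at this
      exact this

section app

variable {F : Type*} [Field F] [Fintype F] {m : ℕ}

theorem Sz_norm_action (hm : 1 ≤ m) (hF : Fintype.card F = 2 ^ (2 * m + 1)) :
    Nat.card ↥(Cfsg.Lie.Sz F (2 ^ (m + 1))) = (2 ^ (2 * m + 1)) ^ 2 * (2 ^ (2 * m + 1) - 1) * ((2 ^ (2 * m + 1)) ^ 2 + 1) ∧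
    ∃ S : Sylow 2 ↥(Cfsg.Lie.Sz F (2 ^ (m + 1))),
      Nat.card (Subgroup.normalizer ((S : Subgroup ↥(Cfsg.Lie.Sz F (2 ^ (m + 1)))) : Set ↥(Cfsg.Lie.Sz F (2 ^ (m + 1))))) = (2 ^ (2 * m + 1)) ^ 2 * (2 ^ (2 * m + 1) - 1) ∧
      (Subgroup.normalizer ((S : Subgroup ↥(Cfsg.Lie.Sz F (2 ^ (m + 1)))) : Set ↥(Cfsg.Lie.Sz F (2 ^ (m + 1))))).index = (2 ^ (2 * m + 1)) ^ 2 + 1 ∧
      MulAction.IsMultiplyPretransitive ↥(Cfsg.Lie.Sz F (2 ^ (m + 1))) (↥(Cfsg.Lie.Sz F (2 ^ (m + 1))) ⧸ Subgroup.normalizer ((S : Subgroup ↥(Cfsg.Lie.Sz F (2 ^ (m + 1)))) : Set ↥(Cfsg.Lie.Sz F (2 ^ (m + 1))))) 2 ∧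
      ∀ x y : ↥(Cfsg.Lie.Sz F (2 ^ (m + 1))) ⧸ Subgroup.normalizer ((S : Subgroup ↥(Cfsg.Lie.Sz F (2 ^ (m + 1)))) : Set ↥(Cfsg.Lie.Sz F (2 ^ (m + 1)))),
        x ≠ (QuotientGroup.mk 1) → y ≠ (QuotientGroup.mk 1) → ∃! s : ↥(S : Subgroup ↥(Cfsg.Lie.Sz F (2 ^ (m + 1)))), (s : ↥(Cfsg.Lie.Sz F (2 ^ (m + 1)))) • x = y := by
  obtain ⟨σ, τ, hσ, hσ2, hτ, h2⟩ := sz_ctx hF
  obtain ⟨e⟩ := Sz_lie_iso σ τ hσ hσ2 hτ h2 hm hF
  have hZ := Sz_zassenhaus σ τ hσ hσ2 hτ h2 hm hF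
  haveI : Finite (Sz F m) := Sz_finite σ τ hσ hσ2 hτ h2 hm hF
  haveI : Finite (Lie.Sz F (2 ^ (m + 1))) := Finite.of_equiv _ e.toEquiv
  letI : MulAction (Lie.Sz F (2 ^ (m + 1))) (suzukiOvoid F m) :=
    MulAction.compHom _ e.symm.toMonoidHom
  have hsm : ∀ (g : Lie.Sz F (2 ^ (m + 1))) (x : suzukiOvoid F m), g • x = e.symm g • x :=
    fun _ _ => rfl
  have h2t : ∀ {a b c d : suzukiOvoid F m}, a ≠ b → c ≠ d →
      ∃ g : Lie.Sz F (2 ^ (m + 1)), g • a = c ∧ g • b = d := by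
    intro a b c d hab hcd
    obtain ⟨g, h1, h2'⟩ := MulAction.is_two_pretransitive_iff.mp hZ.2.1 hab hcd
    exact ⟨e g, by rw [hsm, MulEquiv.symm_apply_apply]; exact h1,
      by rw [hsm, MulEquiv.symm_apply_apply]; exact h2'⟩
  have hcardG : Nat.card (Lie.Sz F (2 ^ (m + 1))) =
      2 ^ (4 * m + 2) * (((2 ^ (2 * m + 1)) ^ 2 + 1) * (2 ^ (2 * m + 1) - 1)) := by
    rw [← Nat.card_congr e.toEquiv]
    exact card_Sz_eq σ τ hσ hσ2 hτ h2 hm hF
  have hpow : (2 ^ (2 * m + 1)) ^ 2 = 2 ^ (4 * m + 2) := by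
    rw [← pow_mul]
    congr 1
    ring
  have hcardU : Nat.card ((szU σ hσ hσ2 h2).map e.toMonoidHom) =
      2 ^ (Nat.card (Lie.Sz F (2 ^ (m + 1)))).factorization 2 := by
    rw [Subgroup.card_map_of_injective e.injective, card_szU, hcardG,
      fact_two _ _ (odd_part m), hF, ← pow_add]
    congr 1
    ring
  let S : Sylow 2 (Lie.Sz F (2 ^ (m + 1))) := Sylow.ofCard _ hcardU
  have hS : (S : Subgroup (Lie.Sz F (2 ^ (m + 1)))) = (szU σ hσ hσ2 h2).map e.toMonoidHom := rfl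
  have hN : Subgroup.normalizer ((S : Subgroup (Lie.Sz F (2 ^ (m + 1)))) : Set (Lie.Sz F (2 ^ (m + 1)))) =
      MulAction.stabilizer (Lie.Sz F (2 ^ (m + 1))) (ptO σ hσ none) := by
    rw [hS, ← Subgroup.map_equiv_normalizer_eq, szU_normalizer σ τ hσ hσ2 hτ h2 hm hF]
    ext g
    rw [MulAction.mem_stabilizer_iff, hsm]
    constructor
    · rintro ⟨b, hb, rfl⟩
      have hb' := (mem_szB σ b).mp hb
      show e.symm (e b) • ptO σ hσ none = ptO σ hσ none
      rw [MulEquiv.symm_apply_apply]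
      exact Subtype.ext hb'
    · intro h
      exact ⟨e.symm g, (mem_szB σ _).mpr (congrArg Subtype.val h), e.apply_symm_apply g⟩
  have hcardN : Nat.card (Subgroup.normalizer ((S : Subgroup (Lie.Sz F (2 ^ (m + 1)))) : Set (Lie.Sz F (2 ^ (m + 1))))) =
      (2 ^ (2 * m + 1)) ^ 2 * (2 ^ (2 * m + 1) - 1) := by
    rw [hS, ← Subgroup.map_equiv_normalizer_eq, szU_normalizer σ τ hσ hσ2 hτ h2 hm hF,
      Subgroup.card_map_of_injective e.injective]
    have := card_Sz_inf σ τ hσ hσ2 hτ h2 hm hF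
    rw [hF] at this
    exact this
  have hreg : ∀ x y : suzukiOvoid F m, x ≠ ptO σ hσ none → y ≠ ptO σ hσ none →
      ∃! s : (S : Subgroup (Lie.Sz F (2 ^ (m + 1)))), (s : Lie.Sz F (2 ^ (m + 1))) • x = y := by
    intro x y hx hy
    obtain ⟨ox, hox⟩ := (mem_ovoid_iff σ hσ _).mp x.2
    obtain ⟨oy, hoy⟩ := (mem_ovoid_iff σ hσ _).mp y.2
    rcases ox with _ | ⟨x1, y1⟩
    · exact absurd (Subtype.ext hox) hx
    rcases oy with _ | ⟨x2, y2⟩
    · exact absurd (Subtype.ext hoy) hy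
    have hact : ∀ a b : F, (e (uElt σ hσ hσ2 h2 a b).1) • x = y ↔
        (x1 + a = x2 ∧ y1 + b + σ a * x1 = y2) := by
      intro a b
      rw [hsm, MulEquiv.symm_apply_apply]
      constructor
      · intro h
        have h' : tS σ a b • pt σ (some (x1, y1)) = pt σ (some (x2, y2)) := by
          rw [← hox, ← hoy]
          exact congrArg Subtype.val h
        rw [tS_aff σ hσ2 h2] at h'
        have := pt_inj σ h'
        simp only [Option.some.injEq, Prod.mk.injEq] at this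
        exact this
      · rintro ⟨h1, h2'⟩
        apply Subtype.ext
        show tS σ a b • x.1 = y.1
        rw [hox, hoy, tS_aff σ hσ2 h2, h1, h2']
    have hmemS : ∀ a b : F, e (uElt σ hσ hσ2 h2 a b).1 ∈ (S : Subgroup (Lie.Sz F (2 ^ (m + 1)))) := by
      intro a b
      rw [hS]
      exact ⟨_, (uElt σ hσ hσ2 h2 a b).2, rfl⟩
    refine ⟨⟨_, hmemS (x2 - x1) (y2 - y1 - σ (x2 - x1) * x1)⟩, ?_, ?_⟩
    · show e (uElt σ hσ hσ2 h2 _ _).1 • x = y
      rw [hact]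
      constructor <;> ring
    · rintro ⟨s, hs⟩ hsy
      rw [hS] at hs
      obtain ⟨u, hu, rfl⟩ := hs
      obtain ⟨a, b, hab⟩ := uElt_surj σ hσ hσ2 h2 ⟨u, hu⟩
      have hu' : u = (uElt σ hσ hσ2 h2 a b).1 := congrArg Subtype.val hab
      subst hu'
      have := (hact a b).mp hsy
      apply Subtype.ext
      show e (uElt σ hσ hσ2 h2 a b).1 = e (uElt σ hσ hσ2 h2 _ _).1
      have ha : x2 - x1 = a := by rw [← this.1]; ring
      have hb : y2 - y1 - σ (x2 - x1) * x1 = b := by rw [ha, ← this.2]; ring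
      rw [hb, ha]
  refine ⟨?_, S, hcardN, ?_, ?_⟩
  · rw [hcardG, hpow]
    ring
  · have := Subgroup.card_mul_index
      (Subgroup.normalizer ((S : Subgroup (Lie.Sz F (2 ^ (m + 1)))) : Set (Lie.Sz F (2 ^ (m + 1)))))
    rw [hcardN, hcardG, hpow] at this
    have hpos : 0 < 2 ^ (4 * m + 2) * (2 ^ (2 * m + 1) - 1) := by
      have h1 : 2 ≤ 2 ^ (2 * m + 1) := by
        calc 2 = 2 ^ 1 := by norm_num
          _ ≤ 2 ^ (2 * m + 1) := Nat.pow_le_pow_right (by norm_num) (by omega)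
      have h3 : 0 < 2 ^ (2 * m + 1) - 1 := by omega
      positivity
    rw [hpow]
    apply Nat.eq_of_mul_eq_mul_left hpos
    rw [this]
    ring
  · exact coset_two_trans _ _ (ptO σ hσ none) hN h2t hreg

end app

end

end Cfsg.Agent.Helper3
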