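import Mathlib
import Cfsg.Prelude.Def_Transfer
import Cfsg.Agent.Helper3.SuzukiM

set_option autoImplicit false
set_option linter.unusedSectionVars false
set_option linter.style.haveILetI false
set_option linter.unusedSimpArgs false
set_option linter.unusedVariables false

namespace Cfsg.Agent.Helper3

open scoped Classical Pointwise
open Cfsg Matrix
open Cfsg.Agent.S0335 (fv ovA tM ovO fv_aniso fv_inv_id fv_translate tM_mulVec)

noncomputable section

theorem conj_le_of_sylow {G : Type*} [Group G] [Finite G] (H : Subgroup G) (p : ℕ)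
    [Fact p.Prime] (hH : (Nat.card G).factorization p = (Nat.card H).factorization p)
    (E : Subgroup G) (hE : IsPGroup p E) : ∃ g : G, ∀ e ∈ E, g * e * g⁻¹ ∈ H := by
  obtain ⟨P₁, hP₁⟩ := sylow_in_subgroup H p hH
  obtain ⟨Q, hQ⟩ := hE.exists_le_sylow
  obtain ⟨g, hg⟩ := MulAction.exists_smul_eq G Q P₁
  refine ⟨g, fun e he => ?_⟩
  have h1 : MulAut.conj g • e ∈ MulAut.conj g • (Q : Subgroup G) :=
    Subgroup.smul_mem_pointwise_smul e _ _ (hQ he)
  rw [← Sylow.coe_subgroup_smul, hg] at h1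
  exact hP₁ (by simpa [MulAut.smul_def] using h1)

theorem exists_subfield_emb {F : Type*} [Field F] [Fintype F] {m : ℕ}
    (hF : Fintype.card F = 2 ^ (2 * m + 1)) (h2 : (2 : F) = 0) (n : ℕ) (hn0 : n ≠ 0)
    (hn : n ∣ 2 * m + 1) :
    ∃ (K : Type) (_ : Field K) (_ : Fintype K) (ι : K →+* F), Fintype.card K = 2 ^ n := by
  haveI : Fact (Nat.Prime 2) := ⟨Nat.prime_two⟩
  have hchar : ringChar F = 2 := CharP.ringChar_of_prime_eq_zero Nat.prime_two (by exact_mod_cast h2)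
  haveI : CharP F 2 := hchar ▸ ringChar.charP F
  letI : Algebra (ZMod 2) F := ZMod.algebra F 2
  have e2 := FiniteField.pow_finrank_eq_card 2 F
  rw [hF] at e2
  have i2 := Nat.pow_right_injective (le_refl 2) e2
  have h1 : Module.finrank (ZMod 2) (GaloisField 2 n) ∣ Module.finrank (ZMod 2) F := by
    rw [GaloisField.finrank 2 hn0, i2]
    exact hn
  obtain ⟨f⟩ := FiniteField.nonempty_algHom_of_finrank_dvd h1
  letI : Fintype (GaloisField 2 n) := Fintype.ofFinite _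
  refine ⟨GaloisField 2 n, inferInstance, inferInstance, f.toRingHom, ?_⟩
  rw [← Nat.card_eq_fintype_card]
  exact GaloisField.card 2 n hn0

section ti

variable {F : Type*} [Field F] [Fintype F] {m : ℕ} (σ τ : F →+* F)
  (hσ : ∀ x, σ x = x ^ (2 ^ (m + 1)))
  (hσ2 : ∀ x, σ (σ x) = x ^ 2) (hτ : ∀ x, τ x ^ 2 = σ x) (h2 : (2 : F) = 0)

include hσ hσ2 hτ h2 in
theorem TI_imp (hm : 1 ≤ m) (hF : Fintype.card F = 2 ^ (2 * m + 1)) (n : ℕ) (hn : 2 ≤ n)
    (E : Subgroup (Sz F m)) (hE2 : ∀ a ∈ E, a ^ 2 = 1) (hcard : Nat.card E = 2 ^ n)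
    (hTI : ∀ x : Sz F m, E ⊓ E.map (MulAut.conj x).toMonoidHom ≠ ⊥ →
      x ∈ Subgroup.normalizer (E : Set (Sz F m))) : n ∣ 2 * m + 1 := by
  haveI := Sz_finite σ τ hσ hσ2 hτ h2 hm hF
  haveI : Fact (Nat.Prime 2) := ⟨Nat.prime_two⟩
  have hpg : IsPGroup 2 E := fun g => ⟨1, by rw [pow_one]; exact Subtype.ext (hE2 g.1 g.2)⟩
  have hfac : (Nat.card (Sz F m)).factorization 2 =
      (Nat.card (szU σ hσ hσ2 h2)).factorization 2 := by
    rw [card_Sz_eq σ τ hσ hσ2 hτ h2 hm hF, fact_two _ _ (odd_part m), card_szU, hF, ← pow_add,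
      Nat.Prime.factorization_pow Nat.prime_two, Finsupp.single_eq_same]
    ring
  obtain ⟨c, hc⟩ := conj_le_of_sylow (szU σ hσ hσ2 h2) 2 hfac E hpg
  have hβ : ∀ e : E, ∃ b : F, (c * e.1 * c⁻¹).1 = tS σ 0 b := by
    intro e
    obtain ⟨a, b, hab⟩ := hc e.1 e.2
    have hsq : (c * e.1 * c⁻¹) ^ 2 = 1 := by
      rw [conj_pow, hE2 e.1 e.2]
      group
    have hsq' : tS σ a b * tS σ a b = 1 := by
      have h3 := congrArg Subtype.val hsq
      rw [pow_two] at h3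
      rw [← hab]
      exact h3
    rw [tS_mul σ hσ2 h2, ← tS_zero σ] at hsq'
    have h3 := (tS_inj σ _ _ _ _ hsq').2
    have h4 : σ a * a = 0 := by linear_combination h3 - b * h2
    have ha : a = 0 := by
      rcases mul_eq_zero.mp h4 with h | h
      · exact (map_eq_zero σ).mp h
      · exact h
    exact ⟨b, by rw [hab, ha]⟩
  choose β hβ' using hβ
  have β_inj : Function.Injective β := by
    intro e e' h
    have h3 : (c * e.1 * c⁻¹).1 = (c * e'.1 * c⁻¹).1 := by rw [hβ', hβ', h]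
    have h4 : c * e.1 * c⁻¹ = c * e'.1 * c⁻¹ := Subtype.ext h3
    exact Subtype.ext (mul_left_cancel (mul_right_cancel h4))
  have β_mul : ∀ e e' : E, β (e * e') = β e + β e' := by
    intro e e'
    have h3 : (c * (e * e').1 * c⁻¹).1 = (c * e.1 * c⁻¹).1 * (c * e'.1 * c⁻¹).1 := by
      show (c * (e.1 * e'.1) * c⁻¹).1 = ((c * e.1 * c⁻¹) * (c * e'.1 * c⁻¹)).1
      congr 1
      group
    rw [hβ', hβ', hβ', tS_mul σ hσ2 h2] at h3
    have h4 := (tS_inj σ _ _ _ _ h3).2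
    simpa using h4
  have β_one : β 1 = 0 := by
    have h3 := β_mul 1 1
    rw [one_mul] at h3
    linear_combination -h3
  have β_zero : ∀ e : E, β e = 0 → e = 1 := fun e h => β_inj (h.trans β_one.symm)
  have key : ∀ e e' f : E, e ≠ 1 → e' ≠ 1 → ∃ f' : E, β f' = β e / β e' * β f := by
    intro e e' f he he'
    have hb : β e ≠ 0 := fun h => he (β_zero e h)
    have hb' : β e' ≠ 0 := fun h => he' (β_zero e' h)
    obtain ⟨μ, hμ⟩ := norm_surj σ hσ2 (β e / β e')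
    simp only at hμ
    have hμ0 : μ ≠ 0 := by
      rintro rfl
      simp only [map_zero, mul_zero] at hμ
      exact (div_ne_zero hb hb') hμ.symm
    have hconj : ∀ g : E, (c * ((c⁻¹ * dHom σ τ hσ hσ2 hτ (Units.mk0 μ hμ0) * c) * g.1 *
        (c⁻¹ * dHom σ τ hσ hσ2 hτ (Units.mk0 μ hμ0) * c)⁻¹) * c⁻¹).1 =
        tS σ 0 (β e / β e' * β g) := by
      intro g
      have e1 : c * ((c⁻¹ * dHom σ τ hσ hσ2 hτ (Units.mk0 μ hμ0) * c) * g.1 *
          (c⁻¹ * dHom σ τ hσ hσ2 hτ (Units.mk0 μ hμ0) * c)⁻¹) * c⁻¹ =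
          dHom σ τ hσ hσ2 hτ (Units.mk0 μ hμ0) * (c * g.1 * c⁻¹) *
            (dHom σ τ hσ hσ2 hτ (Units.mk0 μ hμ0))⁻¹ := by group
      rw [e1]
      show dS σ τ hτ (Units.mk0 μ hμ0) * (c * g.1 * c⁻¹).1 * (dS σ τ hτ (Units.mk0 μ hμ0))⁻¹ = _
      rw [hβ', dS_tS σ τ hσ2 hτ, mul_inv_cancel_right]
      congr 1
      · simp
      · show μ * σ μ * β g = _
        rw [hμ]
    have hxe : (c⁻¹ * dHom σ τ hσ hσ2 hτ (Units.mk0 μ hμ0) * c) * e'.1 *
        (c⁻¹ * dHom σ τ hσ hσ2 hτ (Units.mk0 μ hμ0) * c)⁻¹ = e.1 := by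
      have h3 := hconj e'
      rw [div_mul_cancel₀ _ hb', ← hβ' e] at h3
      have h4 := Subtype.ext h3
      exact mul_left_cancel (mul_right_cancel h4)
    have hne : E ⊓ E.map (MulAut.conj
        (c⁻¹ * dHom σ τ hσ hσ2 hτ (Units.mk0 μ hμ0) * c)).toMonoidHom ≠ ⊥ := by
      intro hbot
      have hmem : e.1 ∈ E ⊓ E.map (MulAut.conj
          (c⁻¹ * dHom σ τ hσ hσ2 hτ (Units.mk0 μ hμ0) * c)).toMonoidHom := by
        exact Subgroup.mem_inf.mpr ⟨e.2, Subgroup.mem_map.mpr ⟨e'.1, e'.2, hxe⟩⟩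
      rw [hbot, Subgroup.mem_bot] at hmem
      exact he (Subtype.ext hmem)
    have hnorm := hTI _ hne
    rw [Subgroup.mem_normalizer_iff] at hnorm
    have hf' := (hnorm f.1).mp f.2
    refine ⟨⟨_, hf'⟩, ?_⟩
    have h3 := hconj f
    have h4 := hβ' ⟨_, hf'⟩
    rw [h3] at h4
    exact ((tS_inj σ _ _ _ _ h4).2).symm
  have hE1 : ∃ e₀ : E, e₀ ≠ 1 := by
    by_contra hcon
    have hall : ∀ e : E, e = 1 := fun e => by
      by_contra h
      exact hcon ⟨e, h⟩
    have h1 : Nat.card E = 1 :=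
      Nat.card_eq_one_iff_unique.mpr ⟨⟨fun a b => by rw [hall a, hall b]⟩, ⟨1⟩⟩
    rw [hcard] at h1
    have h3 : 2 ^ 2 ≤ 2 ^ n := Nat.pow_le_pow_right (by norm_num) hn
    omega
  obtain ⟨e₀, he₀⟩ := hE1
  have hb₀ : β e₀ ≠ 0 := fun h => he₀ (β_zero e₀ h)
  have ne_one : ∀ (e : E) (k : F), k ≠ 0 → β e = β e₀ * k → e ≠ 1 := by
    rintro e k hk he rfl
    rw [β_one] at he
    rcases mul_eq_zero.mp he.symm with h | h
    · exact hb₀ h
    · exact hk h
  let K : Subfield F :=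
    { carrier := {k | ∃ e : E, β e = β e₀ * k}
      mul_mem' := by
        rintro k k' ⟨e, he⟩ ⟨e', he'⟩
        by_cases hk : k = 0
        · exact ⟨1, by rw [β_one, hk]; ring⟩
        · obtain ⟨f', hf'⟩ := key e e₀ e' (ne_one e k hk he) he₀
          refine ⟨f', ?_⟩
          rw [hf', he, he']
          field_simp
      one_mem' := ⟨e₀, by ring⟩
      add_mem' := by
        rintro k k' ⟨e, he⟩ ⟨e', he'⟩
        exact ⟨e * e', by rw [β_mul, he, he']; ring⟩
      zero_mem' := ⟨1, by rw [β_one]; ring⟩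
      neg_mem' := by
        rintro k ⟨e, he⟩
        exact ⟨e, by rw [he]; linear_combination (β e₀ * k) * h2⟩
      inv_mem' := by
        rintro k ⟨e, he⟩
        by_cases hk : k = 0
        · exact ⟨1, by rw [β_one, hk]; simp⟩
        · obtain ⟨f', hf'⟩ := key e₀ e e₀ he₀ (ne_one e k hk he)
          refine ⟨f', ?_⟩
          rw [hf', he]
          field_simp }
  have hKcard : Nat.card K = 2 ^ n := by
    rw [← hcard]
    symm
    apply Nat.card_congr
    refine Equiv.ofBijective (fun e => (⟨β e / β e₀, e, by field_simp⟩ : K)) ⟨?_, ?_⟩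
    · intro e e' h
      have h3 : β e / β e₀ = β e' / β e₀ := congrArg Subtype.val h
      apply β_inj
      field_simp at h3
      exact h3
    · rintro ⟨k, e, he⟩
      refine ⟨e, Subtype.ext ?_⟩
      show β e / β e₀ = k
      rw [he]
      field_simp
  have hFK := Module.card_eq_pow_finrank (K := K) (V := F)
  rw [hF, ← Nat.card_eq_fintype_card (α := K), hKcard, ← pow_mul] at hFK
  have h5 := Nat.pow_right_injective (le_refl 2) hFK
  exact ⟨_, h5⟩

include hσ hσ2 hτ h2 in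
theorem TI_exists (hm : 1 ≤ m) (hF : Fintype.card F = 2 ^ (2 * m + 1)) (n : ℕ) (hn : 2 ≤ n)
    (hdvd : n ∣ 2 * m + 1) :
    ∃ E : Subgroup (Sz F m), IsElementaryAbelian 2 E ∧ Nat.card E = 2 ^ n ∧
      ∀ x : Sz F m, E ⊓ E.map (MulAut.conj x).toMonoidHom ≠ ⊥ →
        x ∈ Subgroup.normalizer (E : Set (Sz F m)) := by
  obtain ⟨K, _, _, ι, hK⟩ := exists_subfield_emb hF h2 n (by omega) hdvd
  let E : Subgroup (Sz F m) :=
    { carrier := {g | ∃ k : K, g.1 = tS σ 0 (ι k)}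
      mul_mem' := by
        rintro g g' ⟨k, hk⟩ ⟨k', hk'⟩
        refine ⟨k + k', ?_⟩
        show g.1 * g'.1 = _
        rw [hk, hk', tS_mul σ hσ2 h2]
        congr 1 <;> simp
      one_mem' := ⟨0, by rw [map_zero, tS_zero]; rfl⟩
      inv_mem' := by
        rintro g ⟨k, hk⟩
        refine ⟨k, ?_⟩
        show g.1⁻¹ = _
        rw [hk, tS_inv σ hσ2 h2]
        congr 1
        simp }
  refine ⟨E, ⟨⟨⟨?_⟩⟩, ?_⟩, ?_, ?_⟩
  · rintro ⟨g, k, hk⟩ ⟨g', k', hk'⟩
    apply Subtype.ext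
    apply Subtype.ext
    show g.1 * g'.1 = g'.1 * g.1
    rw [hk, hk', tS_mul σ hσ2 h2, tS_mul σ hσ2 h2]
    congr 1
    simp [add_comm]
  · rintro g ⟨k, hk⟩
    apply Subtype.ext
    show g.1 ^ 2 = 1
    rw [hk, pow_two, tS_mul σ hσ2 h2, ← tS_zero σ]
    congr 1
    · simp
    · simp only [map_zero, zero_mul, add_zero]
      linear_combination (ι k) * h2
  · rw [← hK, ← Nat.card_eq_fintype_card]
    symm
    apply Nat.card_congr
    refine Equiv.ofBijective
      (fun k => (⟨⟨tS σ 0 (ι k), tS_mem σ hσ hσ2 h2 0 (ι k)⟩, k, rfl⟩ : E)) ⟨?_, ?_⟩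
    · intro k k' h
      have h3 : tS σ 0 (ι k) = tS σ 0 (ι k') := congrArg (fun e : E => e.1.1) h
      exact ι.injective (tS_inj σ _ _ _ _ h3).2
    · rintro ⟨g, k, hk⟩
      exact ⟨k, Subtype.ext (Subtype.ext hk.symm)⟩
  · intro x hx
    obtain ⟨e, he, he1⟩ : ∃ e ∈ E ⊓ E.map (MulAut.conj x).toMonoidHom, e ≠ 1 := by
      by_contra hcon
      apply hx
      rw [Subgroup.eq_bot_iff_forall]
      intro y hy
      by_contra hy1
      exact hcon ⟨y, hy, hy1⟩
    obtain ⟨⟨k, hk⟩, hmap⟩ := Subgroup.mem_inf.mp he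
    rw [Subgroup.mem_map] at hmap
    obtain ⟨e', ⟨k', hk'⟩, he'⟩ := hmap
    have he'' : x * e' * x⁻¹ = e := he'
    have hk0 : ι k ≠ 0 := by
      intro h
      rw [h, tS_zero] at hk
      exact he1 (Subtype.ext hk)
    have hk'0 : ι k' ≠ 0 := by
      intro h
      rw [h, tS_zero] at hk'
      have h3 : e' = 1 := Subtype.ext hk'
      rw [h3] at he''
      apply he1
      rw [← he'']
      group
    have hkK : k ≠ 0 := fun h => hk0 (by rw [h, map_zero])
    have hk'K : k' ≠ 0 := fun h => hk'0 (by rw [h, map_zero])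
    obtain ⟨o, ho⟩ := Sz_pt σ hσ x.1 x.2 none
    have hfix : tS σ 0 (ι k) • pt σ o = pt σ o := by
      rw [← hk, ← he'', ← ho]
      show (x.1 * e'.1 * x.1⁻¹) • x.1 • pt σ none = _
      rw [← mul_smul, inv_mul_cancel_right, mul_smul, hk', tS_inf]
    have ho' := tS_fix σ hσ2 h2 0 (ι k) (fun h => hk0 h.2) o hfix
    subst ho'
    obtain ⟨a, b, μ, hdec⟩ := Sz_inf_decomp σ τ hσ hσ2 hτ h2 hm hF x.1 x.2 ho
    have hconj : ∀ j : F, x.1 * tS σ 0 j * x.1⁻¹ = tS σ 0 (μ * σ μ * j) := by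
      intro j
      rw [hdec, _root_.mul_inv_rev, tS_inv σ hσ2 h2]
      have e1 : tS σ a b * dS σ τ hτ μ * tS σ 0 j * ((dS σ τ hτ μ)⁻¹ * tS σ a (b + σ a * a)) =
          tS σ a b * tS σ (μ * 0) (μ * σ μ * j) * tS σ a (b + σ a * a) := by
        rw [mul_assoc (tS σ a b), dS_tS σ τ hσ2 hτ]
        group
      rw [e1, tS_mul σ hσ2 h2, tS_mul σ hσ2 h2]
      congr 1
      · simp only [mul_zero, add_zero]
        linear_combination a * h2
      · simp only [mul_zero, add_zero, map_add, map_zero]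
        linear_combination (b + σ a * a) * h2
    have hν : (μ : F) * σ μ * ι k' = ι k := by
      have h3 := hconj (ι k')
      rw [← hk'] at h3
      have h4 : x.1 * e'.1 * x.1⁻¹ = e.1 := congrArg Subtype.val he''
      rw [h4, hk] at h3
      exact ((tS_inj σ _ _ _ _ h3).2).symm
    have hν' : (μ : F) * σ μ = ι (k / k') := by
      rw [map_div₀]
      field_simp
      exact hν
    rw [Subgroup.mem_normalizer_iff]
    intro h
    constructor
    · rintro ⟨j, hj⟩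
      refine ⟨(k / k') * j, ?_⟩
      show x.1 * h.1 * x.1⁻¹ = _
      rw [hj, hconj, hν', map_mul]
    · rintro ⟨j, hj⟩
      have hj' : x.1 * h.1 * x.1⁻¹ = tS σ 0 (ι j) := hj
      refine ⟨(k' / k) * j, ?_⟩
      have h5 := hconj (ι ((k' / k) * j))
      rw [hν', ← map_mul] at h5
      have h6 : k / k' * (k' / k * j) = j := by field_simp
      rw [h6, ← hj'] at h5
      exact (mul_left_cancel (mul_right_cancel h5)).symm

include hσ hσ2 hτ h2 in
theorem Sz_TI (hm : 1 ≤ m) (hF : Fintype.card F = 2 ^ (2 * m + 1)) (n : ℕ) (hn : 2 ≤ n) :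
    (∃ E : Subgroup (Sz F m), IsElementaryAbelian 2 E ∧ Nat.card E = 2 ^ n ∧
      ∀ x : Sz F m, E ⊓ E.map (MulAut.conj x).toMonoidHom ≠ ⊥ →
        x ∈ Subgroup.normalizer (E : Set (Sz F m))) ↔ n ∣ 2 * m + 1 := by
  constructor
  · rintro ⟨E, hE, hcard, hTI⟩
    exact TI_imp σ τ hσ hσ2 hτ h2 hm hF n hn E hE.2 hcard hTI
  · exact TI_exists σ τ hσ hσ2 hτ h2 hm hF n hn

end ti

end

end Cfsg.Agent.Helper3
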