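import Mathlib
import Cfsg.Prelude.Def_KGroupFacts
import Cfsg.Agent.Helper3.SuzukiN
import Cfsg.Agent.Helper3.SuzukiT

set_option autoImplicit false
set_option linter.unusedSectionVars false
set_option linter.style.haveILetI false
set_option linter.unusedSimpArgs false
set_option linter.unusedVariables false

namespace Cfsg.Agent.Helper3

open scoped Classical Pointwise
open Cfsg Matrix
open Cfsg.Agent.S0335 (fv ovA tM ovO fv_aniso fv_inv_id fv_translate tM_mulVec)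

noncomputable section

section fieldaut

variable {F : Type*} [Field F] [Fintype F] {m : ℕ} (σ τ : F →+* F)
  (hσ : ∀ x, σ x = x ^ (2 ^ (m + 1)))
  (hσ2 : ∀ x, σ (σ x) = x ^ 2) (hτ : ∀ x, τ x ^ 2 = σ x) (h2 : (2 : F) = 0)

/-- entrywise action of a field automorphism on `SL₄` -/
def fmap (φ : F ≃+* F) :
    Matrix.SpecialLinearGroup (Fin 4) F →* Matrix.SpecialLinearGroup (Fin 4) F :=
  Matrix.SpecialLinearGroup.map (φ : F →+* F)

theorem fmap_val (φ : F ≃+* F) (g : Matrix.SpecialLinearGroup (Fin 4) F) :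
    (fmap φ g).1 = g.1.map φ := rfl

include hσ in
theorem sigma_comm (φ : F ≃+* F) (x : F) : σ (φ x) = φ (σ x) := by
  rw [hσ, hσ, map_pow]

include hσ hτ h2 in
theorem tau_comm (φ : F ≃+* F) (x : F) : τ (φ x) = φ (τ x) := by
  have h : (τ (φ x) - φ (τ x)) ^ 2 = 0 := by
    have e1 : τ (φ x) ^ 2 = φ (τ x) ^ 2 := by
      rw [hτ, ← map_pow, hτ, sigma_comm σ hσ]
    linear_combination e1 + (φ (τ x) ^ 2 - τ (φ x) * φ (τ x)) * h2
  exact sub_eq_zero.mp ((pow_eq_zero_iff (by norm_num)).mp h)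

/-- the action on the parameters of ovoid points -/
def omap (φ : F ≃+* F) : Option (F × F) → Option (F × F)
  | none => none
  | some (x, y) => some (φ x, φ y)

theorem omap_symm (φ : F ≃+* F) (o : Option (F × F)) : omap φ (omap φ.symm o) = o := by
  rcases o with _ | ⟨x, y⟩
  · rfl
  · simp [omap]

include hσ in
theorem ovO_omap (φ : F ≃+* F) (o : Option (F × F)) : ovO σ (omap φ o) = φ ∘ ovO σ o := by
  rcases o with _ | ⟨x, y⟩
  · ext i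
    fin_cases i <;> simp [omap, ovO]
  · ext i
    fin_cases i <;> simp [omap, ovO, ovA, fv, sigma_comm σ hσ]

include hσ in
theorem fmap_mem (φ : F ≃+* F) (g : Matrix.SpecialLinearGroup (Fin 4) F) (hg : g ∈ Sz F m) :
    fmap φ g ∈ Sz F m := by
  rw [mem_Sz_iff σ hσ] at hg ⊢
  intro o
  obtain ⟨o', c, hc, h⟩ := hg (omap φ.symm o)
  refine ⟨omap φ o', φ c, by rwa [Ne, map_eq_zero], ?_⟩
  have ho : ovO σ o = φ ∘ ovO σ (omap φ.symm o) := by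
    rw [← ovO_omap σ hσ, omap_symm]
  have ho' : ovO σ (omap φ o') = φ ∘ ovO σ o' := ovO_omap σ hσ φ o'
  rw [ho']
  ext i
  rw [fmap_val]
  have e := RingHom.map_mulVec (φ : F →+* F) g.1 (ovO σ (omap φ.symm o)) i
  rw [h] at e
  simp only [RingEquiv.coe_toRingHom] at e
  rw [ho, ← e]
  simp [Pi.smul_apply]

/-- the automorphism of the Suzuki group induced by a field automorphism -/
def szAut (hσ : ∀ x, σ x = x ^ (2 ^ (m + 1))) (φ : F ≃+* F) : Sz F m ≃* Sz F m where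
  toFun g := ⟨fmap φ g.1, fmap_mem σ hσ φ g.1 g.2⟩
  invFun g := ⟨fmap φ.symm g.1, fmap_mem σ hσ φ.symm g.1 g.2⟩
  left_inv g := by
    apply Subtype.ext
    apply Subtype.ext
    ext i j
    simp [fmap_val]
  right_inv g := by
    apply Subtype.ext
    apply Subtype.ext
    ext i j
    simp [fmap_val]
  map_mul' g h := by
    apply Subtype.ext
    exact map_mul (fmap φ) g.1 h.1

theorem szAut_val (φ : F ≃+* F) (g : Sz F m) : (szAut σ hσ φ g).1 = fmap φ g.1 := rfl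

include hσ in
theorem fmap_tS (φ : F ≃+* F) (a b : F) : fmap φ (tS σ a b) = tS σ (φ a) (φ b) := by
  apply Subtype.ext
  rw [fmap_val]
  ext i j
  fin_cases i <;> fin_cases j <;> simp [tS, tM, fv, sigma_comm σ hσ]

theorem fmap_wS (φ : F ≃+* F) : fmap φ (wS h2) = wS h2 := by
  apply Subtype.ext
  rw [fmap_val]
  ext i j
  fin_cases i <;> fin_cases j <;> simp [wS, wM]

include hσ h2 in
theorem fmap_dS (φ : F ≃+* F) (κ : Fˣ) :
    fmap φ (dS σ τ hτ κ) = dS σ τ hτ (Units.map (φ : F →* F) κ) := by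
  apply Subtype.ext
  rw [fmap_val]
  ext i j
  fin_cases i <;> fin_cases j <;>
    simp [dS, dM, Matrix.diagonal, sigma_comm σ hσ, tau_comm σ τ hσ hτ h2]

end fieldaut

section elems

variable {F : Type*} [Field F] [Fintype F] {m : ℕ} (σ τ : F →+* F)
  (hσ : ∀ x, σ x = x ^ (2 ^ (m + 1)))
  (hσ2 : ∀ x, σ (σ x) = x ^ 2) (hτ : ∀ x, τ x ^ 2 = σ x) (h2 : (2 : F) = 0)

/-- unipotent elements of `Sz F m` -/
def uG (hσ : ∀ x, σ x = x ^ (2 ^ (m + 1))) (hσ2 : ∀ x, σ (σ x) = x ^ 2) (h2 : (2 : F) = 0)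
    (a b : F) : Sz F m := ⟨tS σ a b, tS_mem σ hσ hσ2 h2 a b⟩

/-- torus elements of `Sz F m` -/
def dG (hσ : ∀ x, σ x = x ^ (2 ^ (m + 1))) (hσ2 : ∀ x, σ (σ x) = x ^ 2)
    (hτ : ∀ x, τ x ^ 2 = σ x) (κ : Fˣ) : Sz F m := ⟨dS σ τ hτ κ, dS_mem σ τ hσ hσ2 hτ κ⟩

/-- the Weyl element of `Sz F m` -/
def wG (hσ : ∀ x, σ x = x ^ (2 ^ (m + 1))) (hσ2 : ∀ x, σ (σ x) = x ^ 2) (h2 : (2 : F) = 0) :
    Sz F m := ⟨wS h2, wS_mem σ hσ hσ2 h2⟩

theorem uG_mul (a b c d : F) :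
    uG σ hσ hσ2 h2 a b * uG σ hσ hσ2 h2 c d = uG σ hσ hσ2 h2 (a + c) (b + d + σ a * c) :=
  Subtype.ext (tS_mul σ hσ2 h2 a b c d)

theorem uG_inj (a b c d : F) (h : uG σ hσ hσ2 h2 a b = uG σ hσ hσ2 h2 c d) : a = c ∧ b = d :=
  tS_inj σ a b c d (congrArg (fun g : Sz F m => g.1) h)

theorem uG_zero : uG σ hσ hσ2 h2 0 0 = 1 := Subtype.ext (tS_zero σ)

theorem uG_split (a b : F) :
    uG σ hσ hσ2 h2 a b = uG σ hσ hσ2 h2 a 0 * uG σ hσ hσ2 h2 0 b := by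
  rw [uG_mul]
  congr 1 <;> ring

theorem uG_sq (a b : F) :
    uG σ hσ hσ2 h2 a b * uG σ hσ hσ2 h2 a b = uG σ hσ hσ2 h2 0 (σ a * a) := by
  rw [uG_mul]
  have h1 : a + a = 0 := by linear_combination a * h2
  have h3 : b + b + σ a * a = σ a * a := by linear_combination b * h2
  rw [h1, h3]

theorem uG_inv (a b : F) : (uG σ hσ hσ2 h2 a b)⁻¹ = uG σ hσ hσ2 h2 a (b + σ a * a) :=
  Subtype.ext (tS_inv σ hσ2 h2 a b)

theorem dG_mul (κ κ' : Fˣ) :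
    dG σ τ hσ hσ2 hτ (κ * κ') = dG σ τ hσ hσ2 hτ κ * dG σ τ hσ hσ2 hτ κ' :=
  Subtype.ext (dS_mul σ τ hτ κ κ')

theorem dG_one : dG σ τ hσ hσ2 hτ 1 = 1 := Subtype.ext (dS_one σ τ hτ)

theorem dG_inj (κ κ' : Fˣ) (h : dG σ τ hσ hσ2 hτ κ = dG σ τ hσ hσ2 hτ κ') : κ = κ' :=
  dS_inj σ τ hτ (congrArg (fun g : Sz F m => g.1) h)

theorem dG_pow (κ : Fˣ) (n : ℕ) :
    dG σ τ hσ hσ2 hτ (κ ^ n) = dG σ τ hσ hσ2 hτ κ ^ n := by
  induction n with
  | zero => rw [pow_zero, pow_zero, dG_one]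
  | succ n ih => rw [pow_succ, pow_succ, dG_mul, ih]

theorem dG_inv (κ : Fˣ) : (dG σ τ hσ hσ2 hτ κ)⁻¹ = dG σ τ hσ hσ2 hτ κ⁻¹ := by
  apply inv_eq_of_mul_eq_one_right
  rw [← dG_mul, mul_inv_cancel, dG_one]

theorem dG_uG (κ : Fˣ) (a b : F) :
    dG σ τ hσ hσ2 hτ κ * uG σ hσ hσ2 h2 a b =
      uG σ hσ hσ2 h2 (κ * a) (κ * σ κ * b) * dG σ τ hσ hσ2 hτ κ :=
  Subtype.ext (dS_tS σ τ hσ2 hτ κ a b)

theorem wG_dG (κ : Fˣ) :
    wG σ hσ hσ2 h2 * dG σ τ hσ hσ2 hτ κ = dG σ τ hσ hσ2 hτ κ⁻¹ * wG σ hσ hσ2 h2 :=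
  Subtype.ext (wS_dS σ τ hτ h2 κ)

theorem wG_sq : wG σ hσ hσ2 h2 * wG σ hσ hσ2 h2 = 1 := Subtype.ext (wS_mul_self h2)

theorem mem_szU_iff (g : Sz F m) : g ∈ szU σ hσ hσ2 h2 ↔ ∃ a b, g = uG σ hσ hσ2 h2 a b := by
  constructor
  · rintro ⟨a, b, h⟩
    exact ⟨a, b, Subtype.ext h⟩
  · rintro ⟨a, b, rfl⟩
    exact ⟨a, b, rfl⟩

theorem mem_szD_iff (g : Sz F m) : g ∈ szD σ τ hσ hσ2 hτ ↔ ∃ κ, g = dG σ τ hσ hσ2 hτ κ := by
  constructor
  · rintro ⟨κ, rfl⟩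
    exact ⟨κ, rfl⟩
  · rintro ⟨κ, rfl⟩
    exact ⟨κ, rfl⟩

include hτ in
theorem mem_szB_iff' (hm : 1 ≤ m) (hF : Fintype.card F = 2 ^ (2 * m + 1)) (g : Sz F m) :
    g ∈ szB (F := F) m ↔ ∃ a b κ, g = uG σ hσ hσ2 h2 a b * dG σ τ hσ hσ2 hτ κ := by
  rw [mem_szB_iff σ τ hσ hσ2 hτ h2 hm hF]
  constructor
  · rintro ⟨a, b, κ, h⟩
    exact ⟨a, b, κ, Subtype.ext h⟩
  · rintro ⟨a, b, κ, rfl⟩
    exact ⟨a, b, κ, rfl⟩

theorem uG_mem_szB (a b : F) : uG σ hσ hσ2 h2 a b ∈ szB (F := F) m := by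
  rw [mem_szB σ]
  exact tS_inf σ a b

theorem dG_mem_szB (κ : Fˣ) : dG σ τ hσ hσ2 hτ κ ∈ szB (F := F) m := by
  rw [mem_szB σ]
  exact dS_inf σ τ hτ κ

include hτ in
theorem wG_not_mem_szB : wG σ hσ hσ2 h2 ∉ szB (F := F) m := by
  rw [mem_szB σ]
  exact wS_not_inf σ τ hσ hσ2 hτ h2

/-- the torus element is not unipotent unless trivial -/
theorem dG_ne_uG (κ : Fˣ) (a b : F) (h : dG σ τ hσ hσ2 hτ κ = uG σ hσ hσ2 h2 a b) : κ = 1 := by
  have h' : dS σ τ hτ κ = tS σ a b := congrArg (fun g : Sz F m => g.1) h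
  have h0 : dS σ τ hτ κ • pt σ (some (0, 0)) = tS σ a b • pt σ (some (0, 0)) := by rw [h']
  rw [dS_aff σ τ hσ2 hτ, tS_aff σ hσ2 h2] at h0
  have h3 := pt_inj σ h0
  simp only [Option.some.injEq, Prod.mk.injEq, mul_zero, zero_add, add_zero] at h3
  obtain ⟨e1, e2⟩ := h3
  rw [← e1, ← e2, tS_zero, ← dS_one σ τ hτ] at h'
  exact dS_inj σ τ hτ h'

end elems

section norm

variable {F : Type*} [Field F] [Fintype F] {m : ℕ} (σ τ : F →+* F)
  (hσ : ∀ x, σ x = x ^ (2 ^ (m + 1)))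
  (hσ2 : ∀ x, σ (σ x) = x ^ 2) (hτ : ∀ x, τ x ^ 2 = σ x) (h2 : (2 : F) = 0)

/-- the automorphism maps the standard Sylow 2-subgroup into itself -/
def PresU (hσ : ∀ x, σ x = x ^ (2 ^ (m + 1))) (hσ2 : ∀ x, σ (σ x) = x ^ 2) (h2 : (2 : F) = 0)
    (β : MulAut (Sz F m)) : Prop :=
  ∀ a b, ∃ a' b', β (uG σ hσ hσ2 h2 a b) = uG σ hσ hσ2 h2 a' b'

/-- the automorphism maps the standard torus into itself -/
def PresD (hσ : ∀ x, σ x = x ^ (2 ^ (m + 1))) (hσ2 : ∀ x, σ (σ x) = x ^ 2)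
    (hτ : ∀ x, τ x ^ 2 = σ x) (β : MulAut (Sz F m)) : Prop :=
  ∀ κ, ∃ κ', β (dG σ τ hσ hσ2 hτ κ) = dG σ τ hσ hσ2 hτ κ'

theorem presU_surj (β : MulAut (Sz F m)) (hβ : PresU σ hσ hσ2 h2 β) (a b : F) :
    ∃ a' b', β (uG σ hσ hσ2 h2 a' b') = uG σ hσ hσ2 h2 a b := by
  choose fa fb hf using hβ
  have hinj : Function.Injective (fun p : F × F => (fa p.1 p.2, fb p.1 p.2)) := by
    rintro ⟨a, b⟩ ⟨c, d⟩ h
    simp only [Prod.mk.injEq] at h
    have e : β (uG σ hσ hσ2 h2 a b) = β (uG σ hσ hσ2 h2 c d) := by rw [hf, hf, h.1, h.2]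
    have e' := uG_inj σ hσ hσ2 h2 _ _ _ _ (β.injective e)
    rw [e'.1, e'.2]
  obtain ⟨⟨a', b'⟩, h⟩ := Finite.surjective_of_injective hinj (a, b)
  simp only [Prod.mk.injEq] at h
  exact ⟨a', b', by rw [hf, h.1, h.2]⟩

theorem presU_iff (β : MulAut (Sz F m)) (hβ : PresU σ hσ hσ2 h2 β) (x : Sz F m) :
    x ∈ szU σ hσ hσ2 h2 ↔ β x ∈ szU σ hσ hσ2 h2 := by
  constructor
  · intro hx
    obtain ⟨a, b, rfl⟩ := (mem_szU_iff σ hσ hσ2 h2 x).mp hx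
    obtain ⟨a', b', h⟩ := hβ a b
    rw [h]
    exact (mem_szU_iff σ hσ hσ2 h2 _).mpr ⟨a', b', rfl⟩
  · intro hx
    obtain ⟨a, b, h⟩ := (mem_szU_iff σ hσ hσ2 h2 _).mp hx
    obtain ⟨a', b', h'⟩ := presU_surj σ hσ hσ2 h2 β hβ a b
    have e : x = uG σ hσ hσ2 h2 a' b' := β.injective (by rw [h, h'])
    rw [e]
    exact (mem_szU_iff σ hσ hσ2 h2 _).mpr ⟨a', b', rfl⟩

include hτ in
theorem presB_iff (hm : 1 ≤ m) (hF : Fintype.card F = 2 ^ (2 * m + 1))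
    (β : MulAut (Sz F m)) (hβ : PresU σ hσ hσ2 h2 β) (g : Sz F m) :
    g ∈ szB (F := F) m ↔ β g ∈ szB (F := F) m := by
  rw [← szU_normalizer σ τ hσ hσ2 hτ h2 hm hF, Subgroup.mem_normalizer_iff,
    Subgroup.mem_normalizer_iff]
  constructor
  · intro h u
    have h3 := h (β⁻¹ u)
    rw [presU_iff σ hσ hσ2 h2 β hβ (β⁻¹ u),
      presU_iff σ hσ hσ2 h2 β hβ (g * β⁻¹ u * g⁻¹)] at h3
    rw [map_mul, map_mul, map_inv, MulAut.apply_inv_self] at h3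
    exact h3
  · intro h u
    have h3 := h (β u)
    rw [presU_iff σ hσ hσ2 h2 β hβ u, presU_iff σ hσ hσ2 h2 β hβ (g * u * g⁻¹)]
    rw [map_mul, map_mul, map_inv]
    exact h3

include hτ in
theorem presU_conj (hm : 1 ≤ m) (hF : Fintype.card F = 2 ^ (2 * m + 1))
    (β : MulAut (Sz F m)) (hβ : PresU σ hσ hσ2 h2 β) (b : Sz F m) (hb : b ∈ szB (F := F) m) :
    PresU σ hσ hσ2 h2 (MulAut.conj b * β) := by
  intro a c
  obtain ⟨a', b', h⟩ := hβ a c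
  have h3 := (Subgroup.mem_normalizer_iff.mp
    (szB_le_normalizer σ τ hσ hσ2 hτ h2 hm hF hb) (uG σ hσ hσ2 h2 a' b')).mp
    ((mem_szU_iff σ hσ hσ2 h2 _).mpr ⟨a', b', rfl⟩)
  obtain ⟨a'', b'', h4⟩ := (mem_szU_iff σ hσ hσ2 h2 _).mp h3
  refine ⟨a'', b'', ?_⟩
  rw [MulAut.mul_apply, MulAut.conj_apply, h, h4]

theorem presD_conj (β : MulAut (Sz F m)) (hβ : PresD σ τ hσ hσ2 hτ β) (μ : Fˣ) :
    PresD σ τ hσ hσ2 hτ (MulAut.conj (dG σ τ hσ hσ2 hτ μ) * β) := by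
  intro κ
  obtain ⟨κ', h⟩ := hβ κ
  refine ⟨κ', ?_⟩
  rw [MulAut.mul_apply, MulAut.conj_apply, h, dG_inv, ← dG_mul, ← dG_mul]
  congr 1
  rw [mul_comm μ κ', mul_assoc, mul_inv_cancel, mul_one]

include hσ hσ2 hτ h2 in
theorem exists_presU (hm : 1 ≤ m) (hF : Fintype.card F = 2 ^ (2 * m + 1))
    (α : MulAut (Sz F m)) : ∃ g : Sz F m, PresU σ hσ hσ2 h2 (MulAut.conj g * α) := by
  haveI := Sz_finite σ τ hσ hσ2 hτ h2 hm hF
  haveI : Fact (Nat.Prime 2) := ⟨Nat.prime_two⟩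
  have hfac : (Nat.card (Sz F m)).factorization 2 =
      (Nat.card (szU σ hσ hσ2 h2)).factorization 2 := by
    rw [card_Sz_eq σ τ hσ hσ2 hτ h2 hm hF, fact_two _ _ (odd_part m), card_szU, hF, ← pow_add,
      Nat.Prime.factorization_pow Nat.prime_two, Finsupp.single_eq_same]
    ring
  have hpg : IsPGroup 2 ((szU σ hσ hσ2 h2).map α.toMonoidHom) := by
    apply IsPGroup.of_card (n := (2 * m + 1) + (2 * m + 1))
    rw [Subgroup.card_map_of_injective α.injective, card_szU, hF, ← pow_add]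
  obtain ⟨c, hc⟩ := conj_le_of_sylow (szU σ hσ hσ2 h2) 2 hfac _ hpg
  refine ⟨c, fun a b => ?_⟩
  have h3 := hc (α (uG σ hσ hσ2 h2 a b))
    ⟨uG σ hσ hσ2 h2 a b, (mem_szU_iff σ hσ hσ2 h2 _).mpr ⟨a, b, rfl⟩, rfl⟩
  obtain ⟨a', b', h4⟩ := (mem_szU_iff σ hσ hσ2 h2 _).mp h3
  exact ⟨a', b', by rw [MulAut.mul_apply, MulAut.conj_apply, h4]⟩

theorem exists_unit_ne_one (hm : 1 ≤ m) (hF : Fintype.card F = 2 ^ (2 * m + 1)) :
    ∃ ζ : Fˣ, ζ ≠ 1 := by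
  by_contra hcon
  have hall : ∀ ζ : Fˣ, ζ = 1 := fun ζ => by
    by_contra h
    exact hcon ⟨ζ, h⟩
  have h1 : Fintype.card Fˣ ≤ 1 := Fintype.card_le_one_iff.mpr (fun a b => by rw [hall a, hall b])
  rw [Fintype.card_units, hF] at h1
  have h8 : 2 ^ 3 ≤ 2 ^ (2 * m + 1) := Nat.pow_le_pow_right (by norm_num) (by omega)
  omega

include hτ in
theorem exists_presD (hm : 1 ≤ m) (hF : Fintype.card F = 2 ^ (2 * m + 1))
    (β : MulAut (Sz F m)) (hβ : PresU σ hσ hσ2 h2 β) :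
    ∃ u : Sz F m, u ∈ szB (F := F) m ∧ PresD σ τ hσ hσ2 hτ (MulAut.conj u * β) := by
  obtain ⟨ζ, hζ⟩ := IsCyclic.exists_monoid_generator (α := Fˣ)
  have hζ1 : ζ ≠ 1 := by
    rintro rfl
    obtain ⟨ξ, hξ⟩ := exists_unit_ne_one hm hF
    obtain ⟨k, hk⟩ := (Submonoid.mem_powers_iff _ _).mp (hζ ξ)
    rw [one_pow] at hk
    exact hξ hk.symm
  have hx : β (dG σ τ hσ hσ2 hτ ζ) ∈ szB (F := F) m :=
    (presB_iff σ τ hσ hσ2 hτ h2 hm hF β hβ _).mp (dG_mem_szB σ τ hσ hσ2 hτ ζ)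
  obtain ⟨a, b, κ, hx'⟩ := (mem_szB_iff' σ τ hσ hσ2 hτ h2 hm hF _).mp hx
  have hκ : κ ≠ 1 := by
    rintro rfl
    rw [dG_one, mul_one] at hx'
    obtain ⟨a', b', h'⟩ := presU_surj σ hσ hσ2 h2 β hβ a b
    have e : dG σ τ hσ hσ2 hτ ζ = uG σ hσ hσ2 h2 a' b' := β.injective (by rw [hx', h'])
    exact hζ1 (dG_ne_uG σ τ hσ hσ2 hτ h2 ζ a' b' e)
  have hk1 : (1 : F) + κ ≠ 0 := by
    intro h
    apply hκ
    apply Units.ext
    show (κ : F) = 1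
    linear_combination h - h2
  have hk2 : (1 : F) + κ * σ κ ≠ 0 := by
    intro h
    have e : (κ : F) * σ κ = 1 := by linear_combination h - h2
    exact hκ (Units.ext (norm_eq_one σ hσ2 _ e))
  obtain ⟨x₀, hx₀⟩ : ∃ x₀ : F, x₀ = a / (1 + κ) := ⟨_, rfl⟩
  obtain ⟨y₀, hy₀⟩ : ∃ y₀ : F, y₀ = (b + σ a * (κ * x₀)) / (1 + κ * σ κ) := ⟨_, rfl⟩
  have ex : κ * x₀ + a = x₀ := by
    rw [hx₀]
    field_simp
    linear_combination (a * κ) * h2
  have ey : κ * σ κ * y₀ + b + σ a * (κ * x₀) = y₀ := by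
    rw [hy₀]
    field_simp
    linear_combination (κ * σ κ * (b + κ * σ a * x₀)) * h2
  have hfix0 : ((uG σ hσ hσ2 h2 x₀ y₀)⁻¹ * β (dG σ τ hσ hσ2 hτ ζ) * uG σ hσ hσ2 h2 x₀ y₀).1 •
      pt σ (some (0, 0)) = pt σ (some (0, 0)) := by
    rw [hx']
    show ((tS σ x₀ y₀)⁻¹ * (tS σ a b * dS σ τ hτ κ) * tS σ x₀ y₀) • _ = _
    rw [mul_smul, mul_smul, mul_smul, tS_aff σ hσ2 h2, dS_aff σ τ hσ2 hτ, tS_aff σ hσ2 h2,
      inv_smul_eq_iff, tS_aff σ hσ2 h2]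
    simp only [zero_add, mul_zero, add_zero]
    rw [ex, ey]
  have hfixinf : ((uG σ hσ hσ2 h2 x₀ y₀)⁻¹ * β (dG σ τ hσ hσ2 hτ ζ) *
      uG σ hσ hσ2 h2 x₀ y₀).1 • pt σ none = pt σ none := by
    have e : (uG σ hσ hσ2 h2 x₀ y₀)⁻¹ * β (dG σ τ hσ hσ2 hτ ζ) * uG σ hσ hσ2 h2 x₀ y₀ ∈
        szB (F := F) m :=
      mul_mem (mul_mem (inv_mem (uG_mem_szB σ hσ hσ2 h2 _ _)) hx) (uG_mem_szB σ hσ hσ2 h2 _ _)
    exact (mem_szB σ _).mp e
  obtain ⟨μ, hμ⟩ := Sz_fix_two σ τ hσ hσ2 hτ h2 hm hF _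
    ((uG σ hσ hσ2 h2 x₀ y₀)⁻¹ * β (dG σ τ hσ hσ2 hτ ζ) * uG σ hσ hσ2 h2 x₀ y₀).2 hfixinf hfix0
  refine ⟨(uG σ hσ hσ2 h2 x₀ y₀)⁻¹, inv_mem (uG_mem_szB σ hσ hσ2 h2 _ _), fun κ' => ?_⟩
  obtain ⟨k, hk⟩ := (Submonoid.mem_powers_iff _ _).mp (hζ κ')
  refine ⟨μ ^ k, ?_⟩
  have e1 : (MulAut.conj (uG σ hσ hσ2 h2 x₀ y₀)⁻¹ * β) (dG σ τ hσ hσ2 hτ ζ) =
      dG σ τ hσ hσ2 hτ μ := by
    apply Subtype.ext
    rw [MulAut.mul_apply, MulAut.conj_apply, inv_inv]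
    exact hμ
  rw [← hk, dG_pow, map_pow, e1, ← dG_pow]

include hτ in
theorem exists_fix_w (hm : 1 ≤ m) (hF : Fintype.card F = 2 ^ (2 * m + 1))
    (β : MulAut (Sz F m)) (hU : PresU σ hσ hσ2 h2 β) (hD : PresD σ τ hσ hσ2 hτ β) :
    ∃ μ : Fˣ, (MulAut.conj (dG σ τ hσ hσ2 hτ μ) * β) (wG σ hσ hσ2 h2) = wG σ hσ hσ2 h2 := by
  obtain ⟨ζ, hζ1⟩ := exists_unit_ne_one hm hF
  obtain ⟨μ₁, hμ₁⟩ := hD ζ
  have hμ₁1 : μ₁ ≠ 1 := by
    rintro rfl
    rw [dG_one] at hμ₁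
    have e : dG σ τ hσ hσ2 hτ ζ = 1 := β.injective (by rw [hμ₁, map_one])
    exact hζ1 (dG_inj σ τ hσ hσ2 hτ _ _ (by rw [e, dG_one]))
  obtain ⟨n, hn0⟩ : ∃ n, n = β (wG σ hσ hσ2 h2) := ⟨_, rfl⟩
  have hn : n * dG σ τ hσ hσ2 hτ μ₁ = dG σ τ hσ hσ2 hτ μ₁⁻¹ * n := by
    rw [← dG_inv, ← hμ₁, hn0, ← map_inv, ← map_mul, ← map_mul, wG_dG, dG_inv]
  have hnB : n ∉ szB (F := F) m := fun h =>
    wG_not_mem_szB σ τ hσ hσ2 hτ h2
      ((presB_iff σ τ hσ hσ2 hτ h2 hm hF β hU (wG σ hσ hσ2 h2)).mpr (hn0 ▸ h))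
  obtain ⟨o1, ho1⟩ := Sz_pt σ hσ n.1 n.2 none
  obtain ⟨o2, ho2⟩ := Sz_pt σ hσ n.1 n.2 (some (0, 0))
  have hn' : dS σ τ hτ μ₁⁻¹ * n.1 = n.1 * dS σ τ hτ μ₁ :=
    (congrArg (fun g : Sz F m => g.1) hn).symm
  have hfix1 : dS σ τ hτ μ₁⁻¹ • pt σ o1 = pt σ o1 := by
    rw [← ho1, ← mul_smul, hn', mul_smul, dS_inf]
  have hfix2 : dS σ τ hτ μ₁⁻¹ • pt σ o2 = pt σ o2 := by
    rw [← ho2, ← mul_smul, hn', mul_smul, dS_aff σ τ hσ2 hτ]
    simp only [mul_zero]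
  have hμ' : μ₁⁻¹ ≠ 1 := inv_ne_one.mpr hμ₁1
  have c1 := dS_fix σ τ hσ2 hτ μ₁⁻¹ hμ' o1 hfix1
  have c2 := dS_fix σ τ hσ2 hτ μ₁⁻¹ hμ' o2 hfix2
  have ho1' : o1 = some (0, 0) := by
    rcases c1 with h | h
    · exfalso
      apply hnB
      rw [mem_szB σ, ho1, h]
    · exact h
  have ho2' : o2 = none := by
    rcases c2 with h | h
    · exact h
    · exfalso
      have e : n.1 • pt σ none = n.1 • pt σ (some (0, 0)) := by rw [ho1, ho2, ho1', h]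
      exact absurd (pt_inj σ (smul_left_cancel n.1 e)) (by simp)
  have f1 : (wS h2 * n.1) • pt σ none = pt σ none := by
    rw [mul_smul, ho1, ho1', wS_zero]
  have f0 : (wS h2 * n.1) • pt σ (some (0, 0)) = pt σ (some (0, 0)) := by
    rw [mul_smul, ho2, ho2', wS_inf]
  obtain ⟨l, hl⟩ := Sz_fix_two σ τ hσ hσ2 hτ h2 hm hF _
    (mul_mem (wS_mem σ hσ hσ2 h2) n.2) f1 f0
  have hnl : n = wG σ hσ hσ2 h2 * dG σ τ hσ hσ2 hτ l := by
    apply Subtype.ext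
    show n.1 = wS h2 * dS σ τ hτ l
    rw [← hl, ← mul_assoc, wS_mul_self, one_mul]
  obtain ⟨μ, hμ⟩ : ∃ μ : Fˣ, μ * μ = l := by
    refine ⟨l ^ (2 ^ (2 * m)), ?_⟩
    rw [← pow_add]
    have e : 2 ^ (2 * m) + 2 ^ (2 * m) = Fintype.card F := by rw [hF]; ring
    rw [e]
    apply Units.ext
    rw [Units.val_pow_eq_pow_val, FiniteField.pow_card]
  refine ⟨μ, ?_⟩
  rw [MulAut.mul_apply, MulAut.conj_apply, ← hn0, hnl, dG_inv]
  have e1 : dG σ τ hσ hσ2 hτ μ * wG σ hσ hσ2 h2 = wG σ hσ hσ2 h2 * dG σ τ hσ hσ2 hτ μ⁻¹ := by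
    rw [wG_dG, inv_inv]
  rw [← mul_assoc, e1, mul_assoc, mul_assoc, ← dG_mul, ← dG_mul, ← hμ]
  have e2 : μ⁻¹ * (μ * μ * μ⁻¹) = 1 := by group
  rw [e2, dG_one, mul_one]

include hσ2 in
/-- the action of the Weyl element on the affine points `(0, y)` -/
theorem wS_aff0 (y : F) (hy : y ≠ 0) :
    wS h2 • pt σ (some (0, y)) = pt σ (some (y / σ y, 0)) := by
  have hσy : σ y ≠ 0 := by rwa [Ne, map_eq_zero]
  refine smul_pt σ _ _ _ (σ y) hσy ?_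
  show wM *ᵥ ovO σ (some (0, y)) = _
  rw [wM_mulVec]
  ext i
  fin_cases i
  · simp [ovO, ovA, fv]
    rw [hσ2]
    field_simp
  · simp [ovO, ovA]
  · simp [ovO, ovA]
    field_simp
  · simp [ovO, ovA, fv]

theorem aut_field (hm : 1 ≤ m) (hF : Fintype.card F = 2 ^ (2 * m + 1))
    (β : MulAut (Sz F m)) (hU : PresU σ hσ hσ2 h2 β) (hD : PresD σ τ hσ hσ2 hτ β) :
    ∃ ψ : F ≃+* F, ∀ κ, β (dG σ τ hσ hσ2 hτ κ) = dG σ τ hσ hσ2 hτ (Units.map (ψ : F →* F) κ) := by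
  choose fa fb hf using hU
  choose φ hφ using hD
  have hmul : ∀ a b c d, fa (a + c) (b + d + σ a * c) = fa a b + fa c d := by
    intro a b c d
    have e := congrArg β (uG_mul σ hσ hσ2 h2 a b c d)
    rw [map_mul, hf, hf, hf, uG_mul] at e
    exact ((uG_inj σ hσ hσ2 h2 _ _ _ _ e).1).symm
  have hconj : ∀ (κ : Fˣ) a b, fa (κ * a) (κ * σ κ * b) = φ κ * fa a b := by
    intro κ a b
    have e := congrArg β (dG_uG σ τ hσ hσ2 hτ h2 κ a b)
    rw [map_mul, map_mul, hf, hf, hφ, dG_uG] at e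
    exact ((uG_inj σ hσ hσ2 h2 _ _ _ _ (mul_right_cancel e)).1).symm
  have hz : ∀ b, fa 0 b = 0 := by
    intro b
    have e : uG σ hσ hσ2 h2 0 b * uG σ hσ hσ2 h2 0 b = 1 := by
      rw [uG_sq, map_zero, zero_mul, uG_zero]
    have e' := congrArg β e
    rw [map_mul, map_one, hf, uG_sq, ← uG_zero σ hσ hσ2 h2] at e'
    have h3 := (uG_inj σ hσ hσ2 h2 _ _ _ _ e').2
    rcases mul_eq_zero.mp h3 with h4 | h4
    · exact (map_eq_zero σ).mp h4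
    · exact h4
  have hfa : ∀ a b, fa a b = fa a 0 := by
    intro a b
    have e := hmul a 0 0 b
    rw [hz, add_zero, add_zero, mul_zero, add_zero, zero_add] at e
    exact e
  have hadd : ∀ a c, fa (a + c) 0 = fa a 0 + fa c 0 := by
    intro a c
    have e := hmul a 0 c 0
    rw [hfa] at e
    exact e
  have hsm : ∀ (κ : Fˣ) a, fa (κ * a) 0 = φ κ * fa a 0 := by
    intro κ a
    have e := hconj κ a 0
    rw [hfa] at e
    exact e
  have hinj : ∀ a, fa a 0 = 0 → a = 0 := by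
    intro a ha
    have e : β (uG σ hσ hσ2 h2 a 0 * uG σ hσ hσ2 h2 a 0) = 1 := by
      rw [map_mul, hf, ha, uG_sq, map_zero, zero_mul, uG_zero]
    rw [uG_sq] at e
    have e' : uG σ hσ hσ2 h2 0 (σ a * a) = 1 := β.injective (by rw [e, map_one])
    rw [← uG_zero σ hσ hσ2 h2] at e'
    have h3 := (uG_inj σ hσ hσ2 h2 _ _ _ _ e').2
    rcases mul_eq_zero.mp h3 with h4 | h4
    · exact (map_eq_zero σ).mp h4
    · exact h4
  have hf0 : fa 0 0 = 0 := hz 0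
  obtain ⟨c, hcdef⟩ : ∃ c, c = fa 1 0 := ⟨_, rfl⟩
  have hc : c ≠ 0 := fun h => one_ne_zero (hinj 1 (hcdef ▸ h))
  have hφ_eq : ∀ κ : Fˣ, (φ κ : F) = fa κ 0 / c := by
    intro κ
    have e := hsm κ 1
    rw [mul_one] at e
    rw [e, ← hcdef]
    field_simp
  let ψ₀ : F →+* F :=
    { toFun := fun x => fa x 0 / c
      map_one' := by rw [← hcdef]; exact div_self hc
      map_mul' := by
        intro x y
        by_cases hx : x = 0
        · subst hx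
          simp [hf0]
        · have e := hsm (Units.mk0 x hx) y
          simp only [Units.val_mk0] at e
          have e2 := hφ_eq (Units.mk0 x hx)
          simp only [Units.val_mk0] at e2
          rw [e, e2]
          ring
      map_zero' := by simp [hf0]
      map_add' := by
        intro x y
        rw [hadd]
        ring }
  have hψinj : Function.Injective ψ₀ := ψ₀.injective
  let ψ : F ≃+* F := RingEquiv.ofBijective ψ₀ ⟨hψinj, Finite.surjective_of_injective hψinj⟩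
  refine ⟨ψ, fun κ => ?_⟩
  rw [hφ]
  congr 1
  apply Units.ext
  rw [hφ_eq]
  rfl

include hτ in
theorem aut_rigid (hm : 1 ≤ m) (hF : Fintype.card F = 2 ^ (2 * m + 1))
    (γ : MulAut (Sz F m)) (hU : PresU σ hσ hσ2 h2 γ)
    (hD : ∀ κ, γ (dG σ τ hσ hσ2 hτ κ) = dG σ τ hσ hσ2 hτ κ)
    (hw : γ (wG σ hσ hσ2 h2) = wG σ hσ hσ2 h2) : γ = 1 := by
  choose fa fb hf using hU
  have hmul : ∀ a b c d, fa (a + c) (b + d + σ a * c) = fa a b + fa c d ∧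
      fb (a + c) (b + d + σ a * c) = fb a b + fb c d + σ (fa a b) * fa c d := by
    intro a b c d
    have e := congrArg γ (uG_mul σ hσ hσ2 h2 a b c d)
    rw [map_mul, hf, hf, hf, uG_mul] at e
    have e' := uG_inj σ hσ hσ2 h2 _ _ _ _ e
    exact ⟨e'.1.symm, e'.2.symm⟩
  have hconj : ∀ (κ : Fˣ) a b, fa (κ * a) (κ * σ κ * b) = κ * fa a b ∧
      fb (κ * a) (κ * σ κ * b) = κ * σ κ * fb a b := by
    intro κ a b
    have e := congrArg γ (dG_uG σ τ hσ hσ2 hτ h2 κ a b)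
    rw [map_mul, map_mul, hf, hf, hD, dG_uG] at e
    have e' := uG_inj σ hσ hσ2 h2 _ _ _ _ (mul_right_cancel e)
    exact ⟨e'.1.symm, e'.2.symm⟩
  have h00 : fa 0 0 = 0 ∧ fb 0 0 = 0 := by
    have e : γ (uG σ hσ hσ2 h2 0 0) = uG σ hσ hσ2 h2 0 0 := by rw [uG_zero, map_one]
    rw [hf] at e
    exact uG_inj σ hσ hσ2 h2 _ _ _ _ e
  have hz : ∀ b, fa 0 b = 0 := by
    intro b
    have e : uG σ hσ hσ2 h2 0 b * uG σ hσ hσ2 h2 0 b = 1 := by
      rw [uG_sq, map_zero, zero_mul, uG_zero]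
    have e' := congrArg γ e
    rw [map_mul, map_one, hf, uG_sq, ← uG_zero σ hσ hσ2 h2] at e'
    have h3 := (uG_inj σ hσ hσ2 h2 _ _ _ _ e').2
    rcases mul_eq_zero.mp h3 with h4 | h4
    · exact (map_eq_zero σ).mp h4
    · exact h4
  have hfa : ∀ a b, fa a b = fa a 0 := by
    intro a b
    have e := (hmul a 0 0 b).1
    rw [hz, add_zero, add_zero, mul_zero, add_zero, zero_add] at e
    exact e
  have hfb : ∀ a b, fb a b = fb a 0 + fb 0 b := by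
    intro a b
    have e := (hmul a 0 0 b).2
    rw [hz, add_zero, mul_zero, add_zero, zero_add, mul_zero, add_zero] at e
    exact e
  obtain ⟨c, hcdef⟩ : ∃ c, c = fa 1 0 := ⟨_, rfl⟩
  obtain ⟨e, hedef⟩ : ∃ e, e = fb 0 1 := ⟨_, rfl⟩
  obtain ⟨k1, hk1def⟩ : ∃ k1, k1 = fb 1 0 := ⟨_, rfl⟩
  have hfc : ∀ a, fa a 0 = a * c := by
    intro a
    by_cases ha : a = 0
    · subst ha
      rw [h00.1, zero_mul]
    · have e1 := (hconj (Units.mk0 a ha) 1 0).1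
      simp only [Units.val_mk0, mul_one, mul_zero] at e1
      rw [e1, hcdef]
  have hk : ∀ a, fb a 0 = a * σ a * k1 := by
    intro a
    by_cases ha : a = 0
    · subst ha
      rw [h00.2, zero_mul, zero_mul]
    · have e1 := (hconj (Units.mk0 a ha) 1 0).2
      simp only [Units.val_mk0, mul_one, mul_zero] at e1
      rw [e1, hk1def]
  have hh : ∀ b, fb 0 b = b * e := by
    intro b
    by_cases hb : b = 0
    · subst hb
      rw [h00.2, zero_mul]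
    · obtain ⟨l, hl⟩ := norm_surj σ hσ2 b
      simp only at hl
      have hl0 : l ≠ 0 := by
        rintro rfl
        rw [zero_mul] at hl
        exact hb hl.symm
      have e1 := (hconj (Units.mk0 l hl0) 0 1).2
      simp only [Units.val_mk0, mul_one, mul_zero] at e1
      rw [hl] at e1
      rw [e1, hedef]
  -- squares
  have hsq : e = σ c * c := by
    have e1 := congrArg γ (uG_sq σ hσ hσ2 h2 1 0)
    rw [map_mul, hf, hf, uG_sq, hz, map_one, one_mul, hh, one_mul, hfc, one_mul] at e1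
    exact ((uG_inj σ hσ hσ2 h2 _ _ _ _ e1).2).symm
  have hc0 : c ≠ 0 := by
    intro hc
    have e1 : γ (uG σ hσ hσ2 h2 1 0 * uG σ hσ hσ2 h2 1 0) = 1 := by
      rw [map_mul, hf, hfc, hc, mul_zero, uG_sq, map_zero, zero_mul, uG_zero]
    rw [uG_sq] at e1
    have e' : uG σ hσ hσ2 h2 0 (σ 1 * 1) = 1 := γ.injective (by rw [e1, map_one])
    rw [← uG_zero σ hσ hσ2 h2] at e'
    have h3 := (uG_inj σ hσ hσ2 h2 _ _ _ _ e').2
    simp at h3
  have he0 : e ≠ 0 := by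
    rw [hsq]
    exact mul_ne_zero (by rwa [Ne, map_eq_zero]) hc0
  -- the relation with the Weyl element
  have hB : ∀ g, g ∈ szB (F := F) m → γ g ∈ szB (F := F) m := by
    intro g hg
    obtain ⟨a, b, κ, rfl⟩ := (mem_szB_iff' σ τ hσ hσ2 hτ h2 hm hF g).mp hg
    rw [map_mul, hf, hD]
    exact mul_mem (uG_mem_szB σ hσ hσ2 h2 _ _) (dG_mem_szB σ τ hσ hσ2 hτ κ)
  have hrel : (uG σ hσ hσ2 h2 1 0 * wG σ hσ hσ2 h2)⁻¹ *
      (wG σ hσ hσ2 h2 * uG σ hσ hσ2 h2 0 1 * wG σ hσ hσ2 h2) ∈ szB (F := F) m := by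
    rw [mem_szB σ]
    show ((tS σ 1 0 * wS h2)⁻¹ * (wS h2 * tS σ 0 1 * wS h2)) • pt σ none = pt σ none
    rw [mul_smul, inv_smul_eq_iff, mul_smul, mul_smul, mul_smul, wS_inf, tS_aff σ hσ2 h2,
      tS_aff σ hσ2 h2]
    simp only [zero_add, map_zero, mul_zero, add_zero, map_one]
    rw [wS_aff0 σ hσ2 h2 1 one_ne_zero]
    simp
  have hrel' := hB _ hrel
  rw [map_mul, map_inv, map_mul, map_mul, map_mul, hw, hf, hf, hz, hh, one_mul, hfc, one_mul,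
    hk, one_mul, map_one, one_mul, mem_szB σ] at hrel'
  have hrel2 : ((tS σ c k1 * wS h2)⁻¹ * (wS h2 * tS σ 0 e * wS h2)) • pt σ none = pt σ none :=
    hrel'
  rw [mul_smul, inv_smul_eq_iff, mul_smul, mul_smul, mul_smul, wS_inf, tS_aff σ hσ2 h2,
    tS_aff σ hσ2 h2] at hrel2
  simp only [zero_add, map_zero, mul_zero, add_zero] at hrel2
  rw [wS_aff0 σ hσ2 h2 e he0] at hrel2
  have h5 := pt_inj σ hrel2
  simp only [Option.some.injEq, Prod.mk.injEq] at h5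
  obtain ⟨h6, h7⟩ := h5
  -- conclusions
  have hσc : σ c ≠ 0 := by rwa [Ne, map_eq_zero]
  have hc1 : c = 1 := by
    have hσe : σ e ≠ 0 := by rwa [Ne, map_eq_zero]
    have e1 : e = c * σ e := by
      rw [← h6]
      field_simp
    rw [hsq, map_mul, hσ2] at e1
    have e2 : c ^ 2 = 1 := by
      have e3 : σ c * c * (c ^ 2 - 1) = 0 := by linear_combination (-1 : F) * e1
      rcases mul_eq_zero.mp e3 with h8 | h8
      · exact absurd h8 (mul_ne_zero hσc hc0)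
      · exact sub_eq_zero.mp h8
    have e4 : (c - 1) ^ 2 = 0 := by linear_combination e2 + (1 - c) * h2
    exact sub_eq_zero.mp ((pow_eq_zero_iff (by norm_num)).mp e4)
  have he1 : e = 1 := by rw [hsq, hc1, map_one, one_mul]
  have hfix : ∀ a b, γ (uG σ hσ hσ2 h2 a b) = uG σ hσ hσ2 h2 a b := by
    intro a b
    rw [hf, hfa, hfc, hfb, hk, hh, ← h7, hc1, he1]
    congr 1 <;> ring
  -- generation
  let M : Subgroup (Sz F m) :=
    { carrier := {g | γ g = g}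
      mul_mem' := fun {a b} ha hb => by
        show γ (a * b) = a * b
        rw [map_mul]
        exact congrArg₂ (· * ·) ha hb
      one_mem' := map_one γ
      inv_mem' := fun {a} ha => by
        show γ a⁻¹ = a⁻¹
        rw [map_inv]
        exact congrArg (·⁻¹) ha }
  have hMU : szU σ hσ hσ2 h2 ≤ M := by
    intro g hg
    obtain ⟨a, b, rfl⟩ := (mem_szU_iff σ hσ hσ2 h2 g).mp hg
    exact hfix a b
  have hMD : szD σ τ hσ hσ2 hτ ≤ M := by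
    intro g hg
    obtain ⟨κ, rfl⟩ := (mem_szD_iff σ τ hσ hσ2 hτ g).mp hg
    exact hD κ
  have hMtop : M = ⊤ := eq_top_of σ τ hσ hσ2 hτ h2 hm hF M hMU hMD (wG σ hσ hσ2 h2) hw
    (wS_not_inf σ τ hσ hσ2 hτ h2)
  apply MulEquiv.ext
  intro g
  have hg : g ∈ M := by rw [hMtop]; trivial
  exact hg

end norm

section outer

/-- isomorphic groups have outer automorphism groups of the same size -/
theorem card_out_congr {G H : Type*} [Group G] [Group H] (e : G ≃* H) :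
    Nat.card (MulAut G ⧸ (MulAut.conj : G →* MulAut G).range) =
      Nat.card (MulAut H ⧸ (MulAut.conj : H →* MulAut H).range) := by
  have hn : ((MulAut.conj : G →* MulAut G).range).Normal := by
    constructor
    rintro _ ⟨g, rfl⟩ φ
    refine ⟨φ g, ?_⟩
    ext x
    simp [MulAut.conj_apply, map_mul, map_inv]
  have hn' : ((MulAut.conj : H →* MulAut H).range).Normal := by
    constructor
    rintro _ ⟨g, rfl⟩ φ
    refine ⟨φ g, ?_⟩
    ext x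
    simp [MulAut.conj_apply, map_mul, map_inv]
  have he : ((MulAut.conj : G →* MulAut G).range).map
      ((MulAut.congr e : MulAut G ≃* MulAut H) : MulAut G →* MulAut H) =
      (MulAut.conj : H →* MulAut H).range := by
    ext x
    constructor
    · rintro ⟨_, ⟨g, rfl⟩, rfl⟩
      refine ⟨e g, ?_⟩
      ext y
      simp [MulAut.congr, MulAut.conj_apply]
    · rintro ⟨g, rfl⟩
      refine ⟨MulAut.conj (e.symm g), ⟨e.symm g, rfl⟩, ?_⟩
      ext y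
      simp [MulAut.congr, MulAut.conj_apply]
  exact Nat.card_congr (QuotientGroup.congr _ _ (MulAut.congr e) he).toEquiv

variable {F : Type*} [Field F] [Fintype F] {m : ℕ} (σ τ : F →+* F)
  (hσ : ∀ x, σ x = x ^ (2 ^ (m + 1)))
  (hσ2 : ∀ x, σ (σ x) = x ^ 2) (hτ : ∀ x, τ x ^ 2 = σ x) (h2 : (2 : F) = 0)

theorem szAut_uG (ψ : F ≃+* F) (a b : F) :
    szAut σ hσ ψ (uG σ hσ hσ2 h2 a b) = uG σ hσ hσ2 h2 (ψ a) (ψ b) :=
  Subtype.ext (fmap_tS σ hσ ψ a b)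

include h2 in
theorem szAut_dG (ψ : F ≃+* F) (κ : Fˣ) :
    szAut σ hσ ψ (dG σ τ hσ hσ2 hτ κ) = dG σ τ hσ hσ2 hτ (Units.map (ψ : F →* F) κ) :=
  Subtype.ext (fmap_dS σ τ hσ hτ h2 ψ κ)

theorem szAut_wG (ψ : F ≃+* F) : szAut σ hσ ψ (wG σ hσ hσ2 h2) = wG σ hσ hσ2 h2 :=
  Subtype.ext (fmap_wS h2 ψ)

theorem szAut_inv (ψ : F ≃+* F) :
    (szAut σ hσ ψ : MulAut (Sz F m))⁻¹ = szAut σ hσ ψ.symm := rfl

include hσ2 hτ h2 in
/-- every automorphism is the product of an inner and a field automorphism -/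
theorem aut_decomp (hm : 1 ≤ m) (hF : Fintype.card F = 2 ^ (2 * m + 1))
    (α : MulAut (Sz F m)) :
    ∃ (g : Sz F m) (ψ : F ≃+* F), α = MulAut.conj g * (szAut σ hσ ψ : MulAut (Sz F m)) := by
  obtain ⟨g₁, h₁⟩ := exists_presU σ τ hσ hσ2 hτ h2 hm hF α
  obtain ⟨u, hu, h₂⟩ := exists_presD σ τ hσ hσ2 hτ h2 hm hF _ h₁
  have h₁' := presU_conj σ τ hσ hσ2 hτ h2 hm hF _ h₁ u hu
  obtain ⟨μ, h₃⟩ := exists_fix_w σ τ hσ hσ2 hτ h2 hm hF _ h₁' h₂
  obtain ⟨β, hβdef⟩ : ∃ β : MulAut (Sz F m),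
      β = MulAut.conj (dG σ τ hσ hσ2 hτ μ) * (MulAut.conj u * (MulAut.conj g₁ * α)) := ⟨_, rfl⟩
  rw [← hβdef] at h₃
  have hβU : PresU σ hσ hσ2 h2 β := by
    rw [hβdef]
    exact presU_conj σ τ hσ hσ2 hτ h2 hm hF _ h₁' _ (dG_mem_szB σ τ hσ hσ2 hτ μ)
  have hβD : PresD σ τ hσ hσ2 hτ β := by
    rw [hβdef]
    exact presD_conj σ τ hσ hσ2 hτ _ h₂ μ
  obtain ⟨ψ, hψ⟩ := aut_field σ τ hσ hσ2 hτ h2 hm hF β hβU hβD
  have hγ : (szAut σ hσ ψ : MulAut (Sz F m))⁻¹ * β = 1 := by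
    apply aut_rigid σ τ hσ hσ2 hτ h2 hm hF
    · intro a b
      obtain ⟨a', b', h⟩ := hβU a b
      refine ⟨ψ.symm a', ψ.symm b', ?_⟩
      rw [MulAut.mul_apply, h, szAut_inv, szAut_uG]
    · intro κ
      rw [MulAut.mul_apply, hψ, ← szAut_dG σ τ hσ hσ2 hτ h2, MulAut.inv_apply_self]
    · rw [MulAut.mul_apply, h₃, szAut_inv, szAut_wG]
  have hβ : β = szAut σ hσ ψ := by
    have e := congrArg (fun x => (szAut σ hσ ψ : MulAut (Sz F m)) * x) hγ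
    simp only [mul_inv_cancel_left, mul_one] at e
    exact e
  refine ⟨(dG σ τ hσ hσ2 hτ μ * u * g₁)⁻¹, ψ, ?_⟩
  rw [← hβ, hβdef, map_inv, map_mul, map_mul]
  group

include h2 in
theorem card_ringAut (hF : Fintype.card F = 2 ^ (2 * m + 1)) :
    Nat.card (F ≃+* F) = 2 * m + 1 := by
  haveI : Fact (Nat.Prime 2) := ⟨Nat.prime_two⟩
  have hchar : ringChar F = 2 :=
    CharP.ringChar_of_prime_eq_zero Nat.prime_two (by exact_mod_cast h2)
  haveI : CharP F 2 := hchar ▸ ringChar.charP F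
  letI : Algebra (ZMod 2) F := ZMod.algebra F 2
  have e2 := FiniteField.pow_finrank_eq_card 2 F
  rw [hF] at e2
  have i2 := Nat.pow_right_injective (le_refl 2) e2
  have h := IsGalois.card_aut_eq_finrank (ZMod 2) F
  rw [← i2, ← h]
  apply Nat.card_congr
  exact
    { toFun := fun ψ => AlgEquiv.ofRingEquiv (f := ψ) (fun x =>
        RingHom.congr_fun (RingHom.ext_zmod ((ψ : F →+* F).comp (algebraMap (ZMod 2) F))
          (algebraMap (ZMod 2) F)) x)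
      invFun := fun ψ => ψ.toRingEquiv
      left_inv := fun ψ => by ext x; rfl
      right_inv := fun ψ => by ext x; rfl }

include hσ hσ2 hτ h2 in
theorem card_out_Sz (hm : 1 ≤ m) (hF : Fintype.card F = 2 ^ (2 * m + 1)) :
    Nat.card (MulAut (Sz F m) ⧸ (MulAut.conj : Sz F m →* MulAut (Sz F m)).range) = 2 * m + 1 := by
  haveI : ((MulAut.conj : Sz F m →* MulAut (Sz F m)).range).Normal := Cfsg.innNormal (Sz F m)
  rw [← card_ringAut h2 hF]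
  symm
  let Θ : (F ≃+* F) → MulAut (Sz F m) ⧸ (MulAut.conj : Sz F m →* MulAut (Sz F m)).range :=
    fun ψ => QuotientGroup.mk (szAut σ hσ ψ : MulAut (Sz F m))
  have hsurj : Function.Surjective Θ := by
    intro x
    obtain ⟨α, rfl⟩ := QuotientGroup.mk_surjective x
    obtain ⟨g, ψ, h⟩ := aut_decomp σ τ hσ hσ2 hτ h2 hm hF α
    refine ⟨ψ, ?_⟩
    show (QuotientGroup.mk (szAut σ hσ ψ : MulAut (Sz F m)) :
      MulAut (Sz F m) ⧸ (MulAut.conj : Sz F m →* MulAut (Sz F m)).range) = QuotientGroup.mk α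
    rw [h, QuotientGroup.mk_mul]
    have e : (QuotientGroup.mk (MulAut.conj g) :
        MulAut (Sz F m) ⧸ (MulAut.conj : Sz F m →* MulAut (Sz F m)).range) = 1 :=
      (QuotientGroup.eq_one_iff _).mpr ⟨g, rfl⟩
    rw [e, one_mul]
  have hinj : Function.Injective Θ := by
    intro ψ ψ' h
    have h' : (szAut σ hσ ψ : MulAut (Sz F m))⁻¹ * szAut σ hσ ψ' ∈
        (MulAut.conj : Sz F m →* MulAut (Sz F m)).range := QuotientGroup.eq.mp h
    obtain ⟨g, hg⟩ := h'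
    have hgu : ∀ a b, g * uG σ hσ hσ2 h2 a b * g⁻¹ =
        uG σ hσ hσ2 h2 (ψ.symm (ψ' a)) (ψ.symm (ψ' b)) := by
      intro a b
      have e := congrArg (fun A : MulAut (Sz F m) => A (uG σ hσ hσ2 h2 a b)) hg
      simp only [MulAut.conj_apply, MulAut.mul_apply] at e
      rw [e, szAut_uG, szAut_inv, szAut_uG]
    have hgd : ∀ κ, g * dG σ τ hσ hσ2 hτ κ * g⁻¹ =
        dG σ τ hσ hσ2 hτ (Units.map (ψ.symm : F →* F) (Units.map (ψ' : F →* F) κ)) := by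
      intro κ
      have e := congrArg (fun A : MulAut (Sz F m) => A (dG σ τ hσ hσ2 hτ κ)) hg
      simp only [MulAut.conj_apply, MulAut.mul_apply] at e
      rw [e, szAut_dG σ τ hσ hσ2 hτ h2, szAut_inv, szAut_dG σ τ hσ hσ2 hτ h2]
    have hU : PresU σ hσ hσ2 h2 (MulAut.conj g) := fun a b => ⟨_, _, by
      rw [MulAut.conj_apply]; exact hgu a b⟩
    have hgB : g ∈ szB (F := F) m := by
      rw [← szU_normalizer σ τ hσ hσ2 hτ h2 hm hF, Subgroup.mem_normalizer_iff]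
      intro x
      have e := presU_iff σ hσ hσ2 h2 _ hU x
      rw [MulAut.conj_apply] at e
      exact e
    obtain ⟨a, b, ν, hgdec⟩ := (mem_szB_iff' σ τ hσ hσ2 hτ h2 hm hF g).mp hgB
    obtain ⟨ζ, hζ1⟩ := exists_unit_ne_one (F := F) hm hF
    have hζ' : Units.map (ψ.symm : F →* F) (Units.map (ψ' : F →* F) ζ) ≠ 1 := by
      intro h1
      apply hζ1
      apply Units.ext
      have e := congrArg (fun u : Fˣ => (u : F)) h1
      simp only [Units.coe_map, MonoidHom.coe_coe, Units.val_one] at e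
      have e' : ψ' (ζ : F) = 1 := by
        have := congrArg ψ e
        simpa using this
      have : ψ' (ζ : F) = ψ' 1 := by rw [e', map_one]
      exact ψ'.injective this
    have hcomm := hgd ζ
    have hcomm' : g * dG σ τ hσ hσ2 hτ ζ =
        dG σ τ hσ hσ2 hτ (Units.map (ψ.symm : F →* F) (Units.map (ψ' : F →* F) ζ)) * g := by
      rw [← hcomm]
      group
    have hpt : g.1 • pt σ (some (0, 0)) = pt σ (some (a, b)) := by
      rw [hgdec]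
      show (tS σ a b * dS σ τ hτ ν) • _ = _
      rw [mul_smul, dS_aff σ τ hσ2 hτ, tS_aff σ hσ2 h2]
      simp
    have hfix : dS σ τ hτ (Units.map (ψ.symm : F →* F) (Units.map (ψ' : F →* F) ζ)) •
        pt σ (some (a, b)) = pt σ (some (a, b)) := by
      rw [← hpt, ← mul_smul]
      have e : dS σ τ hτ (Units.map (ψ.symm : F →* F) (Units.map (ψ' : F →* F) ζ)) * g.1 =
          g.1 * dS σ τ hτ ζ := (congrArg (fun x : Sz F m => x.1) hcomm').symm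
      rw [e, mul_smul, dS_aff σ τ hσ2 hτ]
      simp
    have hab := dS_fix σ τ hσ2 hτ _ hζ' _ hfix
    have hab' : a = 0 ∧ b = 0 := by
      rcases hab with h | h
      · exact absurd h (by simp)
      · simpa using h
    rw [hab'.1, hab'.2, uG_zero, one_mul] at hgdec
    have hid : ∀ κ : Fˣ, Units.map (ψ.symm : F →* F) (Units.map (ψ' : F →* F) κ) = κ := by
      intro κ
      apply dG_inj σ τ hσ hσ2 hτ
      rw [← hgd κ, hgdec, dG_inv, ← dG_mul, ← dG_mul]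
      congr 1
      rw [mul_comm ν κ, mul_assoc, mul_inv_cancel, mul_one]
    apply RingEquiv.ext
    intro x
    by_cases hx : x = 0
    · rw [hx, map_zero, map_zero]
    · have e := congrArg (fun u : Fˣ => (u : F)) (hid (Units.mk0 x hx))
      simp only [Units.coe_map, MonoidHom.coe_coe, Units.val_mk0] at e
      have e' := congrArg ψ e
      simp only [RingEquiv.apply_symm_apply] at e'
      exact e'.symm
  exact Nat.card_congr (Equiv.ofBijective Θ ⟨hinj, hsurj⟩)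

end outer

section final

variable {F : Type*} [Field F] [Fintype F] {m : ℕ}

theorem card_out_lieSz (hm : 1 ≤ m) (hF : Fintype.card F = 2 ^ (2 * m + 1)) :
    Nat.card (Cfsg.Out ↥(Cfsg.Lie.Sz F (2 ^ (m + 1)))) = 2 * m + 1 := by
  obtain ⟨σ, τ, hσ, hσ2, hτ, h2⟩ := sz_ctx hF
  obtain ⟨e⟩ := Sz_lie_iso σ τ hσ hσ2 hτ h2 hm hF
  rw [← card_out_Sz σ τ hσ hσ2 hτ h2 hm hF]
  exact (card_out_congr e).symm

end final

end

end Cfsg.Agent.Helper3
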