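import Mathlib
import Cfsg.Agent.Helper3.SuzukiOut

set_option autoImplicit false
set_option linter.unusedSectionVars false
set_option linter.style.haveILetI false
set_option linter.unusedSimpArgs false
set_option linter.unusedVariables false

namespace Cfsg.Agent.Helper3

open scoped Classical Pointwise
open Cfsg Matrix
open Cfsg.Agent.S0335 (fv ovA tM ovO fv_aniso fv_inv_id fv_translate tM_mulVec)

noncomputable section

section onefield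

variable {F : Type*} [Field F] [Fintype F] {m : ℕ} (σ τ : F →+* F)
  (hσ : ∀ x, σ x = x ^ (2 ^ (m + 1)))
  (hσ2 : ∀ x, σ (σ x) = x ^ 2) (hτ : ∀ x, τ x ^ 2 = σ x) (h2 : (2 : F) = 0)

/-- a relation between the Weyl element and unipotent elements -/
theorem w_rel : (uG σ hσ hσ2 h2 1 0 * wG σ hσ hσ2 h2)⁻¹ *
    (wG σ hσ hσ2 h2 * uG σ hσ hσ2 h2 0 1 * wG σ hσ hσ2 h2) ∈ szB (F := F) m := by
  rw [mem_szB σ]
  show ((tS σ 1 0 * wS h2)⁻¹ * (wS h2 * tS σ 0 1 * wS h2)) • pt σ none = pt σ none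
  rw [mul_smul, inv_smul_eq_iff, mul_smul, mul_smul, mul_smul, wS_inf, tS_aff σ hσ2 h2,
    tS_aff σ hσ2 h2]
  simp only [zero_add, map_zero, mul_zero, add_zero, map_one]
  rw [wS_aff0 σ hσ2 h2 1 one_ne_zero]
  simp

/-- any two embeddings of a finite field have the same image -/
theorem emb_image {K : Type*} [Field K] [Fintype K] (ψ₁ ψ₂ : K →+* F) (x : K) :
    ∃ y, ψ₂ x = ψ₁ y := by
  obtain ⟨s, hs⟩ : ∃ s, s = Fintype.card K := ⟨_, rfl⟩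
  have hs1 : 1 < s := by rw [hs]; exact Fintype.one_lt_card
  let R : Finset F := Finset.univ.filter (fun y : F => y ^ s = y)
  have hR : R.card ≤ s := by
    have hp : (Polynomial.X ^ s - Polynomial.X : Polynomial F) ≠ 0 :=
      FiniteField.X_pow_card_sub_X_ne_zero F hs1
    have hdeg : (Polynomial.X ^ s - Polynomial.X : Polynomial F).natDegree = s :=
      FiniteField.X_pow_card_sub_X_natDegree_eq F hs1
    have hsub : R ⊆ (Polynomial.X ^ s - Polynomial.X : Polynomial F).roots.toFinset := by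
      intro y hy
      rw [Multiset.mem_toFinset, Polynomial.mem_roots hp]
      simp only [Polynomial.IsRoot, Polynomial.eval_sub, Polynomial.eval_pow, Polynomial.eval_X]
      rw [(Finset.mem_filter.mp hy).2, sub_self]
    calc R.card ≤ (Polynomial.X ^ s - Polynomial.X : Polynomial F).roots.toFinset.card :=
          Finset.card_le_card hsub
      _ ≤ Multiset.card (Polynomial.X ^ s - Polynomial.X : Polynomial F).roots :=
          Multiset.toFinset_card_le _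
      _ ≤ (Polynomial.X ^ s - Polynomial.X : Polynomial F).natDegree := Polynomial.card_roots' _
      _ = s := hdeg
  have himg : Finset.univ.image ψ₁ ⊆ R := by
    intro y hy
    obtain ⟨z, -, rfl⟩ := Finset.mem_image.mp hy
    refine Finset.mem_filter.mpr ⟨Finset.mem_univ _, ?_⟩
    rw [← map_pow, hs, FiniteField.pow_card]
  have hcard : (Finset.univ.image ψ₁).card = s := by
    rw [Finset.card_image_of_injective _ ψ₁.injective, Finset.card_univ, hs]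
  have heq : Finset.univ.image ψ₁ = R :=
    Finset.eq_of_subset_of_card_le himg (by rw [hcard]; exact hR)
  have hx : ψ₂ x ∈ R :=
    Finset.mem_filter.mpr ⟨Finset.mem_univ _, by rw [← map_pow, hs, FiniteField.pow_card]⟩
  rw [← heq] at hx
  obtain ⟨y, -, hy⟩ := Finset.mem_image.mp hx
  exact ⟨y, hy.symm⟩

theorem exists_emb {K : Type*} [Field K] [Fintype K] {k : ℕ}
    (hF : Fintype.card F = 2 ^ (2 * m + 1)) (hK : Fintype.card K = 2 ^ (2 * k + 1))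
    (hdiv : 2 * k + 1 ∣ 2 * m + 1) (h2 : (2 : F) = 0) (h2K : (2 : K) = 0) :
    Nonempty (K →+* F) := by
  haveI : Fact (Nat.Prime 2) := ⟨Nat.prime_two⟩
  have hcharF : ringChar F = 2 :=
    CharP.ringChar_of_prime_eq_zero Nat.prime_two (by exact_mod_cast h2)
  haveI : CharP F 2 := hcharF ▸ ringChar.charP F
  have hcharK : ringChar K = 2 :=
    CharP.ringChar_of_prime_eq_zero Nat.prime_two (by exact_mod_cast h2K)
  haveI : CharP K 2 := hcharK ▸ ringChar.charP K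
  letI : Algebra (ZMod 2) F := ZMod.algebra F 2
  letI : Algebra (ZMod 2) K := ZMod.algebra K 2
  have e2 := FiniteField.pow_finrank_eq_card 2 F
  rw [hF] at e2
  have i2 := Nat.pow_right_injective (le_refl 2) e2
  have e3 := FiniteField.pow_finrank_eq_card 2 K
  rw [hK] at e3
  have i3 := Nat.pow_right_injective (le_refl 2) e3
  have h1 : Module.finrank (ZMod 2) K ∣ Module.finrank (ZMod 2) F := by
    rw [i2, i3]
    exact hdiv
  obtain ⟨f⟩ := FiniteField.nonempty_algHom_of_finrank_dvd h1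
  exact ⟨f.toRingHom⟩

end onefield

section twofields

variable {F : Type*} [Field F] [Fintype F] {m : ℕ} (σ τ : F →+* F)
  (hσ : ∀ x, σ x = x ^ (2 ^ (m + 1)))
  (hσ2 : ∀ x, σ (σ x) = x ^ 2) (hτ : ∀ x, τ x ^ 2 = σ x) (h2 : (2 : F) = 0)

variable {K : Type*} [Field K] [Fintype K] {k : ℕ} (σK τK : K →+* K)
  (hσK : ∀ x, σK x = x ^ (2 ^ (k + 1)))
  (hσ2K : ∀ x, σK (σK x) = x ^ 2) (hτK : ∀ x, τK x ^ 2 = σK x) (h2K : (2 : K) = 0)

local notation (name := h3uK) "uK" => uG σK hσK hσ2K h2K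
local notation (name := h3dK) "dK" => dG σK τK hσK hσ2K hτK
local notation (name := h3wK) "wK" => wG σK hσK hσ2K h2K
local notation (name := h3uF) "uF" => uG σ hσ hσ2 h2
local notation (name := h3dF) "dF" => dG σ τ hσ hσ2 hτ
local notation (name := h3wF) "wF" => wG σ hσ hσ2 h2

include hσ hσK in
/-- an embedding of the small field is compatible with the two twisting automorphisms -/
theorem sigma_emb (hK : Fintype.card K = 2 ^ (2 * k + 1)) (hdiv : 2 * k + 1 ∣ 2 * m + 1)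
    (ψ : K →+* F) (x : K) : σ (ψ x) = ψ (σK x) := by
  obtain ⟨d, hd⟩ := hdiv
  have hdodd : d % 2 = 1 := by
    by_contra hcon
    have h0 : d % 2 = 0 := by omega
    obtain ⟨e, he⟩ := Nat.dvd_of_mod_eq_zero h0
    rw [he] at hd
    have : 2 * m + 1 = 2 * ((2 * k + 1) * e) := by rw [hd]; ring
    omega
  obtain ⟨i, hi⟩ : ∃ i, d = 2 * i + 1 := ⟨d / 2, by omega⟩
  have hm1 : m + 1 = (k + 1) + i * (2 * k + 1) := by
    rw [hi] at hd
    have h3 : 2 * m + 1 = 2 * (2 * k * i + k + i) + 1 := by rw [hd]; ring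
    have h4 : m = 2 * k * i + k + i := by omega
    rw [h4]
    ring
  rw [hσ, hσK, ← map_pow]
  congr 1
  have e : 2 ^ (m + 1) = (2 ^ (2 * k + 1)) ^ i * 2 ^ (k + 1) := by
    rw [hm1, pow_add, mul_comm i, pow_mul, mul_comm]
  rw [e, pow_mul, ← hK, FiniteField.pow_card_pow]

include hσ hσK hτ hτK h2 in
theorem tau_emb (hK : Fintype.card K = 2 ^ (2 * k + 1)) (hdiv : 2 * k + 1 ∣ 2 * m + 1)
    (ψ : K →+* F) (x : K) : τ (ψ x) = ψ (τK x) := by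
  have h : (τ (ψ x) - ψ (τK x)) ^ 2 = 0 := by
    have e1 : τ (ψ x) ^ 2 = ψ (τK x) ^ 2 := by
      rw [hτ, ← map_pow, hτK, sigma_emb σ hσ σK hσK hK hdiv]
    linear_combination e1 + (ψ (τK x) ^ 2 - τ (ψ x) * ψ (τK x)) * h2
  exact sub_eq_zero.mp ((pow_eq_zero_iff (by norm_num)).mp h)

/-- entrywise action of a field embedding on `SL₄` -/
def gmap (ψ : K →+* F) :
    Matrix.SpecialLinearGroup (Fin 4) K →* Matrix.SpecialLinearGroup (Fin 4) F :=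
  Matrix.SpecialLinearGroup.map ψ

theorem gmap_val (ψ : K →+* F) (g : Matrix.SpecialLinearGroup (Fin 4) K) :
    (gmap ψ g).1 = g.1.map ψ := rfl

theorem gmap_inj (ψ : K →+* F) : Function.Injective (gmap (F := F) ψ) := by
  intro g h hgh
  apply Subtype.ext
  ext i j
  have e := congrFun (congrFun (congrArg Subtype.val hgh) i) j
  rw [gmap_val, gmap_val, Matrix.map_apply, Matrix.map_apply] at e
  exact ψ.injective e

theorem gmap_tS (ψ : K →+* F) (hc : ∀ x, σ (ψ x) = ψ (σK x)) (a b : K) :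
    gmap ψ (tS σK a b) = tS σ (ψ a) (ψ b) := by
  apply Subtype.ext
  rw [gmap_val]
  ext i j
  fin_cases i <;> fin_cases j <;> simp [tS, tM, fv, hc]

theorem gmap_wS (ψ : K →+* F) : gmap ψ (wS h2K) = wS h2 := by
  apply Subtype.ext
  rw [gmap_val]
  ext i j
  fin_cases i <;> fin_cases j <;> simp [wS, wM]

theorem gmap_dS (ψ : K →+* F) (hc : ∀ x, σ (ψ x) = ψ (σK x)) (hc' : ∀ x, τ (ψ x) = ψ (τK x))
    (κ : Kˣ) : gmap ψ (dS σK τK hτK κ) = dS σ τ hτ (Units.map (ψ : K →* F) κ) := by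
  apply Subtype.ext
  rw [gmap_val]
  ext i j
  fin_cases i <;> fin_cases j <;>
    simp [dS, dM, Matrix.diagonal, hc, hc']

include hσ hσ2 hτ h2 hσK hσ2K hτK h2K in
theorem gmap_mem (hk : 1 ≤ k) (hK : Fintype.card K = 2 ^ (2 * k + 1))
    (ψ : K →+* F) (hc : ∀ x, σ (ψ x) = ψ (σK x)) (hc' : ∀ x, τ (ψ x) = ψ (τK x))
    (g : Sz K k) : gmap ψ g.1 ∈ Sz F m := by
  let M : Subgroup (Sz K k) := (Sz F m).comap ((gmap ψ).comp (Sz K k).subtype)
  have hMU : szU σK hσK hσ2K h2K ≤ M := by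
    intro g hg
    obtain ⟨a, b, rfl⟩ := (mem_szU_iff σK hσK hσ2K h2K g).mp hg
    show gmap ψ (tS σK a b) ∈ Sz F m
    rw [gmap_tS σ σK ψ hc]
    exact tS_mem σ hσ hσ2 h2 _ _
  have hMD : szD σK τK hσK hσ2K hτK ≤ M := by
    intro g hg
    obtain ⟨κ, rfl⟩ := (mem_szD_iff σK τK hσK hσ2K hτK g).mp hg
    show gmap ψ (dS σK τK hτK κ) ∈ Sz F m
    rw [gmap_dS σ τ hτ σK τK hτK ψ hc hc']
    exact dS_mem σ τ hσ hσ2 hτ _
  have hMw : wK ∈ M := by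
    show gmap ψ (wS h2K) ∈ Sz F m
    rw [gmap_wS h2 h2K]
    exact wS_mem σ hσ hσ2 h2
  have hMtop : M = ⊤ := eq_top_of σK τK hσK hσ2K hτK h2K hk hK M hMU hMD wK hMw
    (wS_not_inf σK τK hσK hσ2K hτK h2K)
  have hg : g ∈ M := by rw [hMtop]; trivial
  exact hg

/-- the embedding of the small Suzuki group induced by a field embedding -/
def szEmb (hσ : ∀ x, σ x = x ^ (2 ^ (m + 1))) (hσ2 : ∀ x, σ (σ x) = x ^ 2)
    (hτ : ∀ x, τ x ^ 2 = σ x) (h2 : (2 : F) = 0)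
    (hσK : ∀ x, σK x = x ^ (2 ^ (k + 1))) (hσ2K : ∀ x, σK (σK x) = x ^ 2)
    (hτK : ∀ x, τK x ^ 2 = σK x) (h2K : (2 : K) = 0)
    (hk : 1 ≤ k) (hK : Fintype.card K = 2 ^ (2 * k + 1))
    (ψ : K →+* F) (hc : ∀ x, σ (ψ x) = ψ (σK x)) (hc' : ∀ x, τ (ψ x) = ψ (τK x)) :
    Sz K k →* Sz F m where
  toFun g := ⟨gmap ψ g.1, gmap_mem σ τ hσ hσ2 hτ h2 σK τK hσK hσ2K hτK h2K hk hK ψ hc hc' g⟩
  map_one' := Subtype.ext (map_one (gmap ψ))
  map_mul' g h := Subtype.ext (map_mul (gmap ψ) g.1 h.1)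

theorem szEmb_inj (hk : 1 ≤ k) (hK : Fintype.card K = 2 ^ (2 * k + 1))
    (ψ : K →+* F) (hc : ∀ x, σ (ψ x) = ψ (σK x)) (hc' : ∀ x, τ (ψ x) = ψ (τK x)) :
    Function.Injective
      (szEmb σ τ σK τK hσ hσ2 hτ h2 hσK hσ2K hτK h2K hk hK ψ hc hc') := by
  intro g h hgh
  apply Subtype.ext
  exact gmap_inj ψ (congrArg Subtype.val hgh)

theorem szEmb_uG (hk : 1 ≤ k) (hK : Fintype.card K = 2 ^ (2 * k + 1))
    (ψ : K →+* F) (hc : ∀ x, σ (ψ x) = ψ (σK x)) (hc' : ∀ x, τ (ψ x) = ψ (τK x)) (a b : K) :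
    szEmb σ τ σK τK hσ hσ2 hτ h2 hσK hσ2K hτK h2K hk hK ψ hc hc' (uK a b) = uF (ψ a) (ψ b) :=
  Subtype.ext (gmap_tS σ σK ψ hc a b)

theorem szEmb_dG (hk : 1 ≤ k) (hK : Fintype.card K = 2 ^ (2 * k + 1))
    (ψ : K →+* F) (hc : ∀ x, σ (ψ x) = ψ (σK x)) (hc' : ∀ x, τ (ψ x) = ψ (τK x)) (κ : Kˣ) :
    szEmb σ τ σK τK hσ hσ2 hτ h2 hσK hσ2K hτK h2K hk hK ψ hc hc' (dK κ) =
      dF (Units.map (ψ : K →* F) κ) :=
  Subtype.ext (gmap_dS σ τ hτ σK τK hτK ψ hc hc' κ)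

theorem szEmb_wG (hk : 1 ≤ k) (hK : Fintype.card K = 2 ^ (2 * k + 1))
    (ψ : K →+* F) (hc : ∀ x, σ (ψ x) = ψ (σK x)) (hc' : ∀ x, τ (ψ x) = ψ (τK x)) :
    szEmb σ τ σK τK hσ hσ2 hτ h2 hσK hσ2K hτK h2K hk hK ψ hc hc' wK = wF :=
  Subtype.ext (gmap_wS h2 h2K ψ)

/-- conjugating a homomorphism -/
def cj (g : Sz F m) (j : Sz K k →* Sz F m) : Sz K k →* Sz F m :=
  (MulAut.conj g).toMonoidHom.comp j

theorem cj_apply (g : Sz F m) (j : Sz K k →* Sz F m) (x : Sz K k) :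
    cj g j x = g * j x * g⁻¹ := rfl

theorem cj_inj (g : Sz F m) (j : Sz K k →* Sz F m) (hj : Function.Injective j) :
    Function.Injective (cj g j) := (MulAut.conj g).injective.comp hj

/-- the homomorphism maps the standard Sylow 2-subgroup into the standard one -/
def QU (j : Sz K k →* Sz F m) : Prop := ∀ a b, ∃ a' b', j (uK a b) = uF a' b'

/-- the homomorphism maps the standard torus into the standard one -/
def QD (j : Sz K k →* Sz F m) : Prop := ∀ κ, ∃ κ', j (dK κ) = dF κ'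

include hτ in
theorem QU_conj (hm : 1 ≤ m) (hF : Fintype.card F = 2 ^ (2 * m + 1))
    (j : Sz K k →* Sz F m) (hj : QU σ hσ hσ2 h2 σK hσK hσ2K h2K j) (b : Sz F m)
    (hb : b ∈ szB (F := F) m) : QU σ hσ hσ2 h2 σK hσK hσ2K h2K (cj b j) := by
  intro a c
  obtain ⟨a', b', h⟩ := hj a c
  have h3 := (Subgroup.mem_normalizer_iff.mp
    (szB_le_normalizer σ τ hσ hσ2 hτ h2 hm hF hb) (uF a' b')).mp
    ((mem_szU_iff σ hσ hσ2 h2 _).mpr ⟨a', b', rfl⟩)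
  obtain ⟨a'', b'', h4⟩ := (mem_szU_iff σ hσ hσ2 h2 _).mp h3
  refine ⟨a'', b'', ?_⟩
  rw [cj_apply, h, h4]

theorem QD_conj (j : Sz K k →* Sz F m) (hj : QD σ τ hσ hσ2 hτ σK τK hσK hσ2K hτK j) (μ : Fˣ) :
    QD σ τ hσ hσ2 hτ σK τK hσK hσ2K hτK (cj (dF μ) j) := by
  intro κ
  obtain ⟨κ', h⟩ := hj κ
  refine ⟨κ', ?_⟩
  rw [cj_apply, h, dG_inv, ← dG_mul, ← dG_mul]
  congr 1
  rw [mul_comm μ κ', mul_assoc, mul_inv_cancel, mul_one]

include hτ hτK in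
/-- the image of the small Borel subgroup lies in the Borel subgroup -/
theorem QU_B (hk : 1 ≤ k) (hK : Fintype.card K = 2 ^ (2 * k + 1))
    (j : Sz K k →* Sz F m) (hinj : Function.Injective j)
    (hj : QU σ hσ hσ2 h2 σK hσK hσ2K h2K j) (g : Sz K k) (hg : g ∈ szB (F := K) k) :
    j g ∈ szB (F := F) m := by
  have h3 := (Subgroup.mem_normalizer_iff.mp
    (szB_le_normalizer σK τK hσK hσ2K hτK h2K hk hK hg) (uK 1 0)).mp
    ((mem_szU_iff σK hσK hσ2K h2K _).mpr ⟨1, 0, rfl⟩)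
  obtain ⟨a₁, b₁, h4⟩ := (mem_szU_iff σK hσK hσ2K h2K _).mp h3
  obtain ⟨a₂, b₂, h5⟩ := hj a₁ b₁
  obtain ⟨a₃, b₃, h6⟩ := hj 1 0
  have hne : ¬ (a₂ = 0 ∧ b₂ = 0) := by
    rintro ⟨rfl, rfl⟩
    rw [uG_zero] at h5
    have e : uK a₁ b₁ = 1 := hinj (by rw [h5, map_one])
    rw [e] at h4
    have e' : uK 1 0 = 1 := by
      have : g * uK 1 0 * g⁻¹ = g * 1 * g⁻¹ := by rw [h4]; group
      exact mul_left_cancel (mul_right_cancel this)
    rw [← uG_zero σK hσK hσ2K h2K] at e'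
    exact one_ne_zero (uG_inj σK hσK hσ2K h2K _ _ _ _ e').1
  have hrel : j g * uF a₃ b₃ = uF a₂ b₂ * j g := by
    rw [← h6, ← h5, ← h4, ← map_mul, ← map_mul]
    congr 1
    group
  obtain ⟨o, ho⟩ := Sz_pt σ hσ (j g).1 (j g).2 none
  have hfix : tS σ a₂ b₂ • pt σ o = pt σ o := by
    rw [← ho, ← mul_smul]
    have e : tS σ a₂ b₂ * (j g).1 = (j g).1 * tS σ a₃ b₃ :=
      (congrArg (fun x : Sz F m => x.1) hrel).symm
    rw [e, mul_smul, tS_inf]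
  have ho' := tS_fix σ hσ2 h2 a₂ b₂ hne o hfix
  rw [mem_szB σ, ho, ho']

include hσ hσ2 hτ h2 in
theorem exists_QU (hm : 1 ≤ m) (hF : Fintype.card F = 2 ^ (2 * m + 1))
    (j : Sz K k →* Sz F m) : ∃ g : Sz F m, QU σ hσ hσ2 h2 σK hσK hσ2K h2K (cj g j) := by
  haveI := Sz_finite σ τ hσ hσ2 hτ h2 hm hF
  haveI : Fact (Nat.Prime 2) := ⟨Nat.prime_two⟩
  have hfac : (Nat.card (Sz F m)).factorization 2 =
      (Nat.card (szU σ hσ hσ2 h2)).factorization 2 := by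
    rw [card_Sz_eq σ τ hσ hσ2 hτ h2 hm hF, fact_two _ _ (odd_part m), card_szU, hF, ← pow_add,
      Nat.Prime.factorization_pow Nat.prime_two, Finsupp.single_eq_same]
    ring
  have hpg : IsPGroup 2 ((szU σK hσK hσ2K h2K).map j) := by
    rintro ⟨x, y, hy, rfl⟩
    refine ⟨2, Subtype.ext ?_⟩
    show (j y) ^ 2 ^ 2 = 1
    have e := szU_pow_four σK hσK hσ2K h2K ⟨y, hy⟩
    have e' : y ^ 4 = 1 := congrArg Subtype.val e
    have e'' : (2 : ℕ) ^ 2 = 4 := by norm_num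
    rw [e'', ← map_pow, e', map_one]
  obtain ⟨c, hc⟩ := conj_le_of_sylow (szU σ hσ hσ2 h2) 2 hfac _ hpg
  refine ⟨c, fun a b => ?_⟩
  have h3 := hc (j (uK a b)) ⟨uK a b, (mem_szU_iff σK hσK hσ2K h2K _).mpr ⟨a, b, rfl⟩, rfl⟩
  obtain ⟨a', b', h4⟩ := (mem_szU_iff σ hσ hσ2 h2 _).mp h3
  exact ⟨a', b', by rw [cj_apply, h4]⟩

include hτ hτK in
theorem exists_QD (hk : 1 ≤ k) (hK : Fintype.card K = 2 ^ (2 * k + 1))
    (hm : 1 ≤ m) (hF : Fintype.card F = 2 ^ (2 * m + 1))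
    (j : Sz K k →* Sz F m) (hinj : Function.Injective j)
    (hU : QU σ hσ hσ2 h2 σK hσK hσ2K h2K j) :
    ∃ u : Sz F m, u ∈ szB (F := F) m ∧ QD σ τ hσ hσ2 hτ σK τK hσK hσ2K hτK (cj u j) := by
  obtain ⟨ζ, hζ⟩ := IsCyclic.exists_monoid_generator (α := Kˣ)
  have hζ1 : ζ ≠ 1 := by
    rintro rfl
    obtain ⟨ξ, hξ⟩ := exists_unit_ne_one (F := K) hk hK
    obtain ⟨n, hn⟩ := (Submonoid.mem_powers_iff _ _).mp (hζ ξ)
    rw [one_pow] at hn
    exact hξ hn.symm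
  have hx : j (dK ζ) ∈ szB (F := F) m :=
    QU_B σ τ hσ hσ2 hτ h2 σK τK hσK hσ2K hτK h2K hk hK j hinj hU _
      (dG_mem_szB σK τK hσK hσ2K hτK ζ)
  obtain ⟨a, b, κ, hx'⟩ := (mem_szB_iff' σ τ hσ hσ2 hτ h2 hm hF _).mp hx
  have hκ : κ ≠ 1 := by
    rintro rfl
    rw [dG_one, mul_one] at hx'
    have e4 : j (dK ζ) ^ 4 = 1 := by
      rw [hx']
      have e := szU_pow_four σ hσ hσ2 h2 ⟨uF a b, (mem_szU_iff σ hσ hσ2 h2 _).mpr ⟨a, b, rfl⟩⟩
      exact congrArg Subtype.val e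
    rw [← map_pow, ← dG_pow] at e4
    have e5 : dK (ζ ^ 4) = 1 := hinj (by rw [e4, map_one])
    have e6 : ζ ^ 4 = 1 := dG_inj σK τK hσK hσ2K hτK _ _ (by rw [e5, dG_one])
    apply hζ1
    have e7 : ζ ^ Fintype.card K = ζ := by
      apply Units.ext
      rw [Units.val_pow_eq_pow_val, FiniteField.pow_card]
    have e8 : Fintype.card K = 4 * 2 ^ (2 * k - 1) := by
      rw [hK]
      have e9 : 2 * k + 1 = 2 + (2 * k - 1) := by omega
      rw [e9, pow_add]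
      norm_num
    rw [e8, pow_mul, e6, one_pow] at e7
    exact e7.symm
  have hk1 : (1 : F) + κ ≠ 0 := by
    intro h
    apply hκ
    apply Units.ext
    show (κ : F) = 1
    linear_combination h - h2
  have hk2 : (1 : F) + κ * σ κ ≠ 0 := by
    intro h
    have e : (κ : F) * σ κ = 1 := by linear_combination h - h2
    exact hκ (Units.ext (norm_eq_one σ hσ2 _ e))
  obtain ⟨x₀, hx₀⟩ : ∃ x₀ : F, x₀ = a / (1 + κ) := ⟨_, rfl⟩
  obtain ⟨y₀, hy₀⟩ : ∃ y₀ : F, y₀ = (b + σ a * (κ * x₀)) / (1 + κ * σ κ) := ⟨_, rfl⟩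
  have ex : κ * x₀ + a = x₀ := by
    rw [hx₀]
    field_simp
    linear_combination (a * κ) * h2
  have ey : κ * σ κ * y₀ + b + σ a * (κ * x₀) = y₀ := by
    rw [hy₀]
    field_simp
    linear_combination (κ * σ κ * (b + κ * σ a * x₀)) * h2
  have hfix0 : ((uF x₀ y₀)⁻¹ * j (dK ζ) * uF x₀ y₀).1 •
      pt σ (some (0, 0)) = pt σ (some (0, 0)) := by
    rw [hx']
    show ((tS σ x₀ y₀)⁻¹ * (tS σ a b * dS σ τ hτ κ) * tS σ x₀ y₀) • _ = _
    rw [mul_smul, mul_smul, mul_smul, tS_aff σ hσ2 h2, dS_aff σ τ hσ2 hτ, tS_aff σ hσ2 h2,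
      inv_smul_eq_iff, tS_aff σ hσ2 h2]
    simp only [zero_add, mul_zero, add_zero]
    rw [ex, ey]
  have hfixinf : ((uF x₀ y₀)⁻¹ * j (dK ζ) * uF x₀ y₀).1 • pt σ none = pt σ none := by
    have e : (uF x₀ y₀)⁻¹ * j (dK ζ) * uF x₀ y₀ ∈ szB (F := F) m :=
      mul_mem (mul_mem (inv_mem (uG_mem_szB σ hσ hσ2 h2 _ _)) hx) (uG_mem_szB σ hσ hσ2 h2 _ _)
    exact (mem_szB σ _).mp e
  obtain ⟨μ, hμ⟩ := Sz_fix_two σ τ hσ hσ2 hτ h2 hm hF _
    ((uF x₀ y₀)⁻¹ * j (dK ζ) * uF x₀ y₀).2 hfixinf hfix0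
  refine ⟨(uF x₀ y₀)⁻¹, inv_mem (uG_mem_szB σ hσ hσ2 h2 _ _), fun κ' => ?_⟩
  obtain ⟨n, hn⟩ := (Submonoid.mem_powers_iff _ _).mp (hζ κ')
  refine ⟨μ ^ n, ?_⟩
  have e1 : cj (uF x₀ y₀)⁻¹ j (dK ζ) = dF μ := by
    apply Subtype.ext
    rw [cj_apply, inv_inv]
    exact hμ
  rw [← hn, dG_pow, map_pow, e1, ← dG_pow]

include hτ hτK in
theorem exists_w (hk : 1 ≤ k) (hK : Fintype.card K = 2 ^ (2 * k + 1))
    (hm : 1 ≤ m) (hF : Fintype.card F = 2 ^ (2 * m + 1))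
    (j : Sz K k →* Sz F m) (hinj : Function.Injective j)
    (hU : QU σ hσ hσ2 h2 σK hσK hσ2K h2K j) (hD : QD σ τ hσ hσ2 hτ σK τK hσK hσ2K hτK j) :
    ∃ μ : Fˣ, cj (dF μ) j wK = wF := by
  obtain ⟨ζ, hζ1⟩ := exists_unit_ne_one (F := K) hk hK
  obtain ⟨μ₁, hμ₁⟩ := hD ζ
  have hμ₁1 : μ₁ ≠ 1 := by
    rintro rfl
    rw [dG_one] at hμ₁
    have e : dK ζ = 1 := hinj (by rw [hμ₁, map_one])
    exact hζ1 (dG_inj σK τK hσK hσ2K hτK _ _ (by rw [e, dG_one]))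
  obtain ⟨n, hn0⟩ : ∃ n, n = j wK := ⟨_, rfl⟩
  have hn : n * dF μ₁ = dF μ₁⁻¹ * n := by
    rw [← dG_inv, ← hμ₁, hn0, ← map_inv, ← map_mul, ← map_mul, wG_dG, dG_inv]
  obtain ⟨o1, ho1⟩ := Sz_pt σ hσ n.1 n.2 none
  obtain ⟨o2, ho2⟩ := Sz_pt σ hσ n.1 n.2 (some (0, 0))
  have hn' : dS σ τ hτ μ₁⁻¹ * n.1 = n.1 * dS σ τ hτ μ₁ :=
    (congrArg (fun g : Sz F m => g.1) hn).symm
  have hfix1 : dS σ τ hτ μ₁⁻¹ • pt σ o1 = pt σ o1 := by
    rw [← ho1, ← mul_smul, hn', mul_smul, dS_inf]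
  have hfix2 : dS σ τ hτ μ₁⁻¹ • pt σ o2 = pt σ o2 := by
    rw [← ho2, ← mul_smul, hn', mul_smul, dS_aff σ τ hσ2 hτ]
    simp only [mul_zero]
  have hμ' : μ₁⁻¹ ≠ 1 := inv_ne_one.mpr hμ₁1
  have c1 := dS_fix σ τ hσ2 hτ μ₁⁻¹ hμ' o1 hfix1
  have c2 := dS_fix σ τ hσ2 hτ μ₁⁻¹ hμ' o2 hfix2
  have hne12 : o1 ≠ o2 := by
    rintro rfl
    have e : n.1 • pt σ none = n.1 • pt σ (some (0, 0)) := by rw [ho1, ho2]
    exact absurd (pt_inj σ (smul_left_cancel n.1 e)) (by simp)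
  have ho1' : o1 = some (0, 0) := by
    rcases c1 with h | h
    · exfalso
      have ho2' : o2 = some (0, 0) := by
        rcases c2 with h' | h'
        · exact absurd (h.trans h'.symm) hne12
        · exact h'
      rw [h] at ho1
      rw [ho2'] at ho2
      obtain ⟨ν, hν⟩ := Sz_fix_two σ τ hσ hσ2 hτ h2 hm hF _ n.2 ho1 ho2
      rw [hν, ← dS_mul, ← dS_mul] at hn'
      have e := dS_inj σ τ hτ hn'
      have e2 : μ₁⁻¹ = μ₁ := by
        have : μ₁⁻¹ * ν = ν * μ₁ := e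
        rw [mul_comm ν μ₁] at this
        exact mul_right_cancel this
      have e3 : (μ₁ : F) * μ₁ = 1 := by
        have : μ₁ * μ₁ = 1 := by
          nth_rewrite 1 [← e2]
          exact inv_mul_cancel μ₁
        have e4 := congrArg (fun u : Fˣ => (u : F)) this
        simpa using e4
      have e5 : ((μ₁ : F) - 1) ^ 2 = 0 := by linear_combination e3 + (1 - (μ₁ : F)) * h2
      exact hμ₁1 (Units.ext (sub_eq_zero.mp ((pow_eq_zero_iff (by norm_num)).mp e5)))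
    · exact h
  have ho2' : o2 = none := by
    rcases c2 with h | h
    · exact h
    · exact absurd (ho1'.trans h.symm) hne12
  have f1 : (wS h2 * n.1) • pt σ none = pt σ none := by
    rw [mul_smul, ho1, ho1', wS_zero]
  have f0 : (wS h2 * n.1) • pt σ (some (0, 0)) = pt σ (some (0, 0)) := by
    rw [mul_smul, ho2, ho2', wS_inf]
  obtain ⟨l, hl⟩ := Sz_fix_two σ τ hσ hσ2 hτ h2 hm hF _
    (mul_mem (wS_mem σ hσ hσ2 h2) n.2) f1 f0
  have hnl : n = wF * dF l := by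
    apply Subtype.ext
    show n.1 = wS h2 * dS σ τ hτ l
    rw [← hl, ← mul_assoc, wS_mul_self, one_mul]
  obtain ⟨μ, hμ⟩ : ∃ μ : Fˣ, μ * μ = l := by
    refine ⟨l ^ (2 ^ (2 * m)), ?_⟩
    rw [← pow_add]
    have e : 2 ^ (2 * m) + 2 ^ (2 * m) = Fintype.card F := by rw [hF]; ring
    rw [e]
    apply Units.ext
    rw [Units.val_pow_eq_pow_val, FiniteField.pow_card]
  refine ⟨μ, ?_⟩
  rw [cj_apply, ← hn0, hnl, dG_inv]
  have e1 : dF μ * wF = wF * dF μ⁻¹ := by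
    rw [wG_dG, inv_inv]
  rw [← mul_assoc, e1, mul_assoc, mul_assoc, ← dG_mul, ← dG_mul, ← hμ]
  have e2 : μ⁻¹ * (μ * μ * μ⁻¹) = 1 := by group
  rw [e2, dG_one, mul_one]

theorem emb_field (j : Sz K k →* Sz F m) (hinj : Function.Injective j)
    (hU : QU σ hσ hσ2 h2 σK hσK hσ2K h2K j) (hD : QD σ τ hσ hσ2 hτ σK τK hσK hσ2K hτK j) :
    ∃ ψ : K →+* F, ∀ κ, j (dK κ) = dF (Units.map (ψ : K →* F) κ) := by
  choose fa fb hf using hU
  choose φ hφ using hD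
  have hmul : ∀ a b c d, fa (a + c) (b + d + σK a * c) = fa a b + fa c d := by
    intro a b c d
    have e := congrArg j (uG_mul σK hσK hσ2K h2K a b c d)
    rw [map_mul, hf, hf, hf, uG_mul] at e
    exact ((uG_inj σ hσ hσ2 h2 _ _ _ _ e).1).symm
  have hconj : ∀ (κ : Kˣ) a b, fa (κ * a) (κ * σK κ * b) = φ κ * fa a b := by
    intro κ a b
    have e := congrArg j (dG_uG σK τK hσK hσ2K hτK h2K κ a b)
    rw [map_mul, map_mul, hf, hf, hφ, dG_uG] at e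
    exact ((uG_inj σ hσ hσ2 h2 _ _ _ _ (mul_right_cancel e)).1).symm
  have hz : ∀ b, fa 0 b = 0 := by
    intro b
    have e : uK 0 b * uK 0 b = 1 := by
      rw [uG_sq, map_zero, zero_mul, uG_zero]
    have e' := congrArg j e
    rw [map_mul, map_one, hf, uG_sq, ← uG_zero σ hσ hσ2 h2] at e'
    have h3 := (uG_inj σ hσ hσ2 h2 _ _ _ _ e').2
    rcases mul_eq_zero.mp h3 with h4 | h4
    · exact (map_eq_zero σ).mp h4
    · exact h4
  have hfa : ∀ a b, fa a b = fa a 0 := by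
    intro a b
    have e := hmul a 0 0 b
    rw [hz, add_zero, add_zero, mul_zero, add_zero, zero_add] at e
    exact e
  have hadd : ∀ a c, fa (a + c) 0 = fa a 0 + fa c 0 := by
    intro a c
    have e := hmul a 0 c 0
    rw [hfa] at e
    exact e
  have hsm : ∀ (κ : Kˣ) a, fa (κ * a) 0 = φ κ * fa a 0 := by
    intro κ a
    have e := hconj κ a 0
    rw [hfa] at e
    exact e
  have hinj0 : ∀ a, fa a 0 = 0 → a = 0 := by
    intro a ha
    have e : j (uK a 0 * uK a 0) = 1 := by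
      rw [map_mul, hf, ha, uG_sq, map_zero, zero_mul, uG_zero]
    rw [uG_sq] at e
    have e' : uK 0 (σK a * a) = 1 := hinj (by rw [e, map_one])
    rw [← uG_zero σK hσK hσ2K h2K] at e'
    have h3 := (uG_inj σK hσK hσ2K h2K _ _ _ _ e').2
    rcases mul_eq_zero.mp h3 with h4 | h4
    · exact (map_eq_zero σK).mp h4
    · exact h4
  have hf0 : fa 0 0 = 0 := hz 0
  obtain ⟨c, hcdef⟩ : ∃ c, c = fa 1 0 := ⟨_, rfl⟩
  have hc : c ≠ 0 := fun h => one_ne_zero (hinj0 1 (hcdef ▸ h))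
  have hφ_eq : ∀ κ : Kˣ, (φ κ : F) = fa κ 0 / c := by
    intro κ
    have e := hsm κ 1
    rw [mul_one] at e
    rw [e, ← hcdef]
    field_simp
  let ψ₀ : K →+* F :=
    { toFun := fun x => fa x 0 / c
      map_one' := by rw [← hcdef]; exact div_self hc
      map_mul' := by
        intro x y
        by_cases hx : x = 0
        · subst hx
          simp [hf0]
        · have e := hsm (Units.mk0 x hx) y
          simp only [Units.val_mk0] at e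
          have e2 := hφ_eq (Units.mk0 x hx)
          simp only [Units.val_mk0] at e2
          rw [e, e2]
          ring
      map_zero' := by simp [hf0]
      map_add' := by
        intro x y
        rw [hadd]
        ring }
  refine ⟨ψ₀, fun κ => ?_⟩
  rw [hφ]
  congr 1
  apply Units.ext
  rw [hφ_eq]
  rfl

include hτ hτK in
theorem emb_rigid (hk : 1 ≤ k) (hK : Fintype.card K = 2 ^ (2 * k + 1))
    (hm : 1 ≤ m) (hF : Fintype.card F = 2 ^ (2 * m + 1))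
    (j : Sz K k →* Sz F m) (hinj : Function.Injective j)
    (hU : QU σ hσ hσ2 h2 σK hσK hσ2K h2K j) (ψ : K →+* F) (hc : ∀ x, σ (ψ x) = ψ (σK x))
    (hD : ∀ κ, j (dK κ) = dF (Units.map (ψ : K →* F) κ)) (hw : j wK = wF) :
    ∀ a b, j (uK a b) = uF (ψ a) (ψ b) := by
  have hB : ∀ g, g ∈ szB (F := K) k → j g ∈ szB (F := F) m :=
    QU_B σ τ hσ hσ2 hτ h2 σK τK hσK hσ2K hτK h2K hk hK j hinj hU
  choose fa fb hf using hU
  have hmul : ∀ a b c d, fa (a + c) (b + d + σK a * c) = fa a b + fa c d ∧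
      fb (a + c) (b + d + σK a * c) = fb a b + fb c d + σ (fa a b) * fa c d := by
    intro a b c d
    have e := congrArg j (uG_mul σK hσK hσ2K h2K a b c d)
    rw [map_mul, hf, hf, hf, uG_mul] at e
    have e' := uG_inj σ hσ hσ2 h2 _ _ _ _ e
    exact ⟨e'.1.symm, e'.2.symm⟩
  have hconj : ∀ (κ : Kˣ) a b, fa (κ * a) (κ * σK κ * b) = ψ κ * fa a b ∧
      fb (κ * a) (κ * σK κ * b) = ψ κ * σ (ψ κ) * fb a b := by
    intro κ a b
    have e := congrArg j (dG_uG σK τK hσK hσ2K hτK h2K κ a b)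
    rw [map_mul, map_mul, hf, hf, hD, dG_uG] at e
    have e' := uG_inj σ hσ hσ2 h2 _ _ _ _ (mul_right_cancel e)
    simp only [Units.coe_map, MonoidHom.coe_coe] at e'
    exact ⟨e'.1.symm, e'.2.symm⟩
  have h00 : fa 0 0 = 0 ∧ fb 0 0 = 0 := by
    have e : j (uK 0 0) = uF 0 0 := by rw [uG_zero, map_one, uG_zero]
    rw [hf] at e
    exact uG_inj σ hσ hσ2 h2 _ _ _ _ e
  have hz : ∀ b, fa 0 b = 0 := by
    intro b
    have e : uK 0 b * uK 0 b = 1 := by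
      rw [uG_sq, map_zero, zero_mul, uG_zero]
    have e' := congrArg j e
    rw [map_mul, map_one, hf, uG_sq, ← uG_zero σ hσ hσ2 h2] at e'
    have h3 := (uG_inj σ hσ hσ2 h2 _ _ _ _ e').2
    rcases mul_eq_zero.mp h3 with h4 | h4
    · exact (map_eq_zero σ).mp h4
    · exact h4
  have hfa : ∀ a b, fa a b = fa a 0 := by
    intro a b
    have e := (hmul a 0 0 b).1
    rw [hz, add_zero, add_zero, mul_zero, add_zero, zero_add] at e
    exact e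
  have hfb : ∀ a b, fb a b = fb a 0 + fb 0 b := by
    intro a b
    have e := (hmul a 0 0 b).2
    rw [hz, add_zero, mul_zero, add_zero, zero_add, mul_zero, add_zero] at e
    exact e
  obtain ⟨c, hcdef⟩ : ∃ c, c = fa 1 0 := ⟨_, rfl⟩
  obtain ⟨e, hedef⟩ : ∃ e, e = fb 0 1 := ⟨_, rfl⟩
  obtain ⟨k1, hk1def⟩ : ∃ k1, k1 = fb 1 0 := ⟨_, rfl⟩
  have hfc : ∀ a, fa a 0 = ψ a * c := by
    intro a
    by_cases ha : a = 0
    · subst ha
      rw [h00.1, map_zero, zero_mul]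
    · have e1 := (hconj (Units.mk0 a ha) 1 0).1
      simp only [Units.val_mk0, mul_one, mul_zero] at e1
      rw [e1, hcdef]
  have hkk : ∀ a, fb a 0 = ψ a * σ (ψ a) * k1 := by
    intro a
    by_cases ha : a = 0
    · subst ha
      rw [h00.2, map_zero, zero_mul, zero_mul]
    · have e1 := (hconj (Units.mk0 a ha) 1 0).2
      simp only [Units.val_mk0, mul_one, mul_zero] at e1
      rw [e1, hk1def]
  have hh : ∀ b, fb 0 b = ψ b * e := by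
    intro b
    by_cases hb : b = 0
    · subst hb
      rw [h00.2, map_zero, zero_mul]
    · obtain ⟨l, hl⟩ := norm_surj σK hσ2K b
      simp only at hl
      have hl0 : l ≠ 0 := by
        rintro rfl
        rw [zero_mul] at hl
        exact hb hl.symm
      have e1 := (hconj (Units.mk0 l hl0) 0 1).2
      simp only [Units.val_mk0, mul_one, mul_zero] at e1
      rw [hl] at e1
      rw [e1, hedef, ← hl, map_mul, hc]
  have s1 : j (uK 1 0) = uF c k1 := by rw [hf, ← hcdef, ← hk1def]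
  have s2 : j (uK 0 1) = uF 0 e := by rw [hf, hz, ← hedef]
  have s3 : uK 1 0 * uK 1 0 = uK 0 1 := by rw [uG_sq, map_one, one_mul]
  have hsq : e = σ c * c := by
    have e1 := congrArg j s3
    rw [map_mul, s1, s2, uG_sq] at e1
    exact ((uG_inj σ hσ hσ2 h2 _ _ _ _ e1).2).symm
  have he0 : e ≠ 0 := by
    intro he
    rw [he, uG_zero] at s2
    have e1 : uK 0 1 = 1 := hinj (by rw [s2, map_one])
    rw [← uG_zero σK hσK hσ2K h2K] at e1
    exact one_ne_zero (uG_inj σK hσK hσ2K h2K _ _ _ _ e1).2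
  have hc0 : c ≠ 0 := by
    rintro rfl
    rw [map_zero, zero_mul] at hsq
    exact he0 hsq
  have hrel' := hB _ (w_rel σK hσK hσ2K h2K)
  rw [map_mul, map_inv, map_mul, map_mul, map_mul, hw, s1, s2, mem_szB σ] at hrel'
  have hrel2 : ((tS σ c k1 * wS h2)⁻¹ * (wS h2 * tS σ 0 e * wS h2)) • pt σ none = pt σ none :=
    hrel'
  rw [mul_smul, inv_smul_eq_iff, mul_smul, mul_smul, mul_smul, wS_inf, tS_aff σ hσ2 h2,
    tS_aff σ hσ2 h2] at hrel2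
  simp only [zero_add, map_zero, mul_zero, add_zero] at hrel2
  rw [wS_aff0 σ hσ2 h2 e he0] at hrel2
  have h5 := pt_inj σ hrel2
  simp only [Option.some.injEq, Prod.mk.injEq] at h5
  obtain ⟨h6, h7⟩ := h5
  have hσc : σ c ≠ 0 := by rwa [Ne, map_eq_zero]
  have hc1 : c = 1 := by
    have hσe : σ e ≠ 0 := by rwa [Ne, map_eq_zero]
    have e1 : e = c * σ e := by
      rw [← h6]
      field_simp
    rw [hsq, map_mul, hσ2] at e1
    have e2 : c ^ 2 = 1 := by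
      have e3 : σ c * c * (c ^ 2 - 1) = 0 := by linear_combination (-1 : F) * e1
      rcases mul_eq_zero.mp e3 with h8 | h8
      · exact absurd h8 (mul_ne_zero hσc hc0)
      · exact sub_eq_zero.mp h8
    have e4 : (c - 1) ^ 2 = 0 := by linear_combination e2 + (1 - c) * h2
    exact sub_eq_zero.mp ((pow_eq_zero_iff (by norm_num)).mp e4)
  have he1 : e = 1 := by rw [hsq, hc1, map_one, one_mul]
  intro a b
  rw [hf, hfa, hfc, hfb, hkk, hh, ← h7, hc1, he1]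
  congr 1 <;> ring

include hσ hσ2 hτ h2 hσK hσ2K hτK h2K in
/-- every embedding of the small Suzuki group is conjugate to a standard one -/
theorem emb_normal (hk : 1 ≤ k) (hK : Fintype.card K = 2 ^ (2 * k + 1))
    (hm : 1 ≤ m) (hF : Fintype.card F = 2 ^ (2 * m + 1))
    (hcs : ∀ (ψ : K →+* F) x, σ (ψ x) = ψ (σK x))
    (hct : ∀ (ψ : K →+* F) x, τ (ψ x) = ψ (τK x))
    (j : Sz K k →* Sz F m) (hinj : Function.Injective j) :
    ∃ (g : Sz F m) (ψ : K →+* F), ∀ x, g * j x * g⁻¹ =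
      szEmb σ τ σK τK hσ hσ2 hτ h2 hσK hσ2K hτK h2K hk hK ψ (hcs ψ) (hct ψ) x := by
  obtain ⟨g₁, h₁⟩ := exists_QU σ τ hσ hσ2 hτ h2 σK hσK hσ2K h2K hm hF j
  have i₁ := cj_inj g₁ j hinj
  obtain ⟨u, hu, h₂⟩ := exists_QD σ τ hσ hσ2 hτ h2 σK τK hσK hσ2K hτK h2K hk hK hm hF _ i₁ h₁
  have h₁' := QU_conj σ τ hσ hσ2 hτ h2 σK hσK hσ2K h2K hm hF _ h₁ u hu
  have i₂ := cj_inj u _ i₁
  obtain ⟨μ, h₃⟩ := exists_w σ τ hσ hσ2 hτ h2 σK τK hσK hσ2K hτK h2K hk hK hm hF _ i₂ h₁' h₂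
  obtain ⟨j', hj'⟩ : ∃ j' : Sz K k →* Sz F m, j' = cj (dF μ) (cj u (cj g₁ j)) := ⟨_, rfl⟩
  rw [← hj'] at h₃
  have hU' : QU σ hσ hσ2 h2 σK hσK hσ2K h2K j' := by
    rw [hj']
    exact QU_conj σ τ hσ hσ2 hτ h2 σK hσK hσ2K h2K hm hF _ h₁' _ (dG_mem_szB σ τ hσ hσ2 hτ μ)
  have hD' : QD σ τ hσ hσ2 hτ σK τK hσK hσ2K hτK j' := by
    rw [hj']
    exact QD_conj σ τ hσ hσ2 hτ σK τK hσK hσ2K hτK _ h₂ μ
  have i₃ : Function.Injective j' := by
    rw [hj']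
    exact cj_inj _ _ i₂
  obtain ⟨ψ, hψ⟩ := emb_field σ τ hσ hσ2 hτ h2 σK τK hσK hσ2K hτK h2K j' i₃ hU' hD'
  refine ⟨dF μ * u * g₁, ψ, fun x => ?_⟩
  have hfix := emb_rigid σ τ hσ hσ2 hτ h2 σK τK hσK hσ2K hτK h2K hk hK hm hF j' i₃ hU' ψ
    (hcs ψ) hψ h₃
  let M : Subgroup (Sz K k) :=
    j'.eqLocus (szEmb σ τ σK τK hσ hσ2 hτ h2 hσK hσ2K hτK h2K hk hK ψ (hcs ψ) (hct ψ))
  have hMU : szU σK hσK hσ2K h2K ≤ M := by
    intro g hg
    obtain ⟨a, b, rfl⟩ := (mem_szU_iff σK hσK hσ2K h2K g).mp hg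
    show j' (uK a b) = _
    rw [hfix, szEmb_uG]
  have hMD : szD σK τK hσK hσ2K hτK ≤ M := by
    intro g hg
    obtain ⟨κ, rfl⟩ := (mem_szD_iff σK τK hσK hσ2K hτK g).mp hg
    show j' (dK κ) = _
    rw [hψ, szEmb_dG]
  have hMw : wK ∈ M := by
    show j' wK = _
    rw [h₃, szEmb_wG]
  have hMtop : M = ⊤ := eq_top_of σK τK hσK hσ2K hτK h2K hk hK M hMU hMD wK hMw
    (wS_not_inf σK τK hσK hσ2K hτK h2K)
  have hx : x ∈ M := by rw [hMtop]; trivial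
  have hx' : j' x = szEmb σ τ σK τK hσ hσ2 hτ h2 hσK hσ2K hτK h2K hk hK ψ (hcs ψ) (hct ψ) x := hx
  rw [← hx', hj', cj_apply, cj_apply, cj_apply]
  group

include hσ hσ2 hτ h2 hσK hσ2K hτK h2K in
/-- the image of the standard embedding does not depend on the field embedding -/
theorem szEmb_range_le (hk : 1 ≤ k) (hK : Fintype.card K = 2 ^ (2 * k + 1))
    (ψ₁ ψ₂ : K →+* F) (hc₁ : ∀ x, σ (ψ₁ x) = ψ₁ (σK x)) (hc₁' : ∀ x, τ (ψ₁ x) = ψ₁ (τK x))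
    (hc₂ : ∀ x, σ (ψ₂ x) = ψ₂ (σK x)) (hc₂' : ∀ x, τ (ψ₂ x) = ψ₂ (τK x)) (x : Sz K k) :
    ∃ y : Sz K k, szEmb σ τ σK τK hσ hσ2 hτ h2 hσK hσ2K hτK h2K hk hK ψ₂ hc₂ hc₂' x =
      szEmb σ τ σK τK hσ hσ2 hτ h2 hσK hσ2K hτK h2K hk hK ψ₁ hc₁ hc₁' y := by
  let M : Subgroup (Sz K k) :=
    ((szEmb σ τ σK τK hσ hσ2 hτ h2 hσK hσ2K hτK h2K hk hK ψ₁ hc₁ hc₁').range).comap
      (szEmb σ τ σK τK hσ hσ2 hτ h2 hσK hσ2K hτK h2K hk hK ψ₂ hc₂ hc₂')
  have hMU : szU σK hσK hσ2K h2K ≤ M := by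
    intro g hg
    obtain ⟨a, b, rfl⟩ := (mem_szU_iff σK hσK hσ2K h2K g).mp hg
    obtain ⟨a', ha'⟩ := emb_image ψ₁ ψ₂ a
    obtain ⟨b', hb'⟩ := emb_image ψ₁ ψ₂ b
    refine ⟨uK a' b', ?_⟩
    rw [szEmb_uG, szEmb_uG, ha', hb']
  have hMD : szD σK τK hσK hσ2K hτK ≤ M := by
    intro g hg
    obtain ⟨κ, rfl⟩ := (mem_szD_iff σK τK hσK hσ2K hτK g).mp hg
    obtain ⟨y, hy⟩ := emb_image ψ₁ ψ₂ (κ : K)
    have hy0 : y ≠ 0 := by
      rintro rfl
      rw [map_zero] at hy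
      exact κ.ne_zero ((map_eq_zero ψ₂).mp hy)
    refine ⟨dK (Units.mk0 y hy0), ?_⟩
    rw [szEmb_dG, szEmb_dG]
    congr 1
    apply Units.ext
    simp only [Units.coe_map, MonoidHom.coe_coe, Units.val_mk0]
    exact hy.symm
  have hMw : wK ∈ M := by
    refine ⟨wK, ?_⟩
    rw [szEmb_wG, szEmb_wG]
  have hMtop : M = ⊤ := eq_top_of σK τK hσK hσ2K hτK h2K hk hK M hMU hMD wK hMw
    (wS_not_inf σK τK hσK hσ2K hτK h2K)
  have hx : x ∈ M := by rw [hMtop]; trivial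
  obtain ⟨y, hy⟩ := hx
  exact ⟨y, hy.symm⟩

end twofields

section subfield

variable {F : Type*} [Field F] [Fintype F] {m : ℕ} {K : Type*} [Field K] [Fintype K] {k : ℕ}

theorem Sz_subfield (hm : 1 ≤ m) (hF : Fintype.card F = 2 ^ (2 * m + 1)) (hk : 1 ≤ k)
    (hK : Fintype.card K = 2 ^ (2 * k + 1)) (hdiv : 2 * k + 1 ∣ 2 * m + 1) :
    (∃ S : Subgroup ↥(Cfsg.Sz F m), Nonempty (↥S ≃* ↥(Cfsg.Sz K k))) ∧
    ∀ S₁ S₂ : Subgroup ↥(Cfsg.Sz F m), Nonempty (↥S₁ ≃* ↥(Cfsg.Sz K k)) →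
      Nonempty (↥S₂ ≃* ↥(Cfsg.Sz K k)) →
      ∃ g : ↥(Cfsg.Sz F m), S₂ = S₁.map (MulAut.conj g).toMonoidHom := by
  obtain ⟨σ, τ, hσ, hσ2, hτ, h2⟩ := sz_ctx hF
  obtain ⟨σK, τK, hσK, hσ2K, hτK, h2K⟩ := sz_ctx hK
  obtain ⟨ι⟩ := exists_emb (F := F) (K := K) hF hK hdiv h2 h2K
  have hcs : ∀ (ψ : K →+* F) x, σ (ψ x) = ψ (σK x) :=
    fun ψ x => sigma_emb σ hσ σK hσK hK hdiv ψ x
  have hct : ∀ (ψ : K →+* F) x, τ (ψ x) = ψ (τK x) :=
    fun ψ x => tau_emb σ τ hσ hτ h2 σK τK hσK hτK hK hdiv ψ x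
  constructor
  · exact ⟨(szEmb σ τ σK τK hσ hσ2 hτ h2 hσK hσ2K hτK h2K hk hK ι (hcs ι) (hct ι)).range,
      ⟨(MonoidHom.ofInjective
        (szEmb_inj σ τ hσ hσ2 hτ h2 σK τK hσK hσ2K hτK h2K hk hK ι (hcs ι) (hct ι))).symm⟩⟩
  · rintro S₁ S₂ ⟨φ₁⟩ ⟨φ₂⟩
    obtain ⟨g₁, ψ₁, h₁⟩ := emb_normal σ τ hσ hσ2 hτ h2 σK τK hσK hσ2K hτK h2K hk hK hm hF hcs hct
      (S₁.subtype.comp φ₁.symm.toMonoidHom) (Subtype.val_injective.comp φ₁.symm.injective)
    obtain ⟨g₂, ψ₂, h₂⟩ := emb_normal σ τ hσ hσ2 hτ h2 σK τK hσK hσ2K hτK h2K hk hK hm hF hcs hct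
      (S₂.subtype.comp φ₂.symm.toMonoidHom) (Subtype.val_injective.comp φ₂.symm.injective)
    refine ⟨g₂⁻¹ * g₁, ?_⟩
    ext x
    constructor
    · intro hx
      have e2 := h₂ (φ₂ ⟨x, hx⟩)
      simp only [MonoidHom.coe_comp, Subgroup.coe_subtype, Function.comp_apply,
        MulEquiv.coe_toMonoidHom, MulEquiv.symm_apply_apply] at e2
      obtain ⟨y, hy⟩ := szEmb_range_le σ τ hσ hσ2 hτ h2 σK τK hσK hσ2K hτK h2K hk hK ψ₁ ψ₂
        (hcs ψ₁) (hct ψ₁) (hcs ψ₂) (hct ψ₂) (φ₂ ⟨x, hx⟩)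
      have e1 := h₁ y
      simp only [MonoidHom.coe_comp, Subgroup.coe_subtype, Function.comp_apply,
        MulEquiv.coe_toMonoidHom] at e1
      refine ⟨(φ₁.symm y : Sz F m), (φ₁.symm y).2, ?_⟩
      show g₂⁻¹ * g₁ * (φ₁.symm y : Sz F m) * (g₂⁻¹ * g₁)⁻¹ = x
      have e3 : g₁ * (φ₁.symm y : Sz F m) * g₁⁻¹ = g₂ * x * g₂⁻¹ := by rw [e1, ← hy, e2]
      calc g₂⁻¹ * g₁ * (φ₁.symm y : Sz F m) * (g₂⁻¹ * g₁)⁻¹
          = g₂⁻¹ * (g₁ * (φ₁.symm y : Sz F m) * g₁⁻¹) * g₂ := by group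
        _ = x := by rw [e3]; group
    · rintro ⟨z, hz, rfl⟩
      have e1 := h₁ (φ₁ ⟨z, hz⟩)
      simp only [MonoidHom.coe_comp, Subgroup.coe_subtype, Function.comp_apply,
        MulEquiv.coe_toMonoidHom, MulEquiv.symm_apply_apply] at e1
      obtain ⟨y, hy⟩ := szEmb_range_le σ τ hσ hσ2 hτ h2 σK τK hσK hσ2K hτK h2K hk hK ψ₂ ψ₁
        (hcs ψ₂) (hct ψ₂) (hcs ψ₁) (hct ψ₁) (φ₁ ⟨z, hz⟩)
      have e2 := h₂ y
      simp only [MonoidHom.coe_comp, Subgroup.coe_subtype, Function.comp_apply,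
        MulEquiv.coe_toMonoidHom] at e2
      have e3 : g₁ * z * g₁⁻¹ = g₂ * (φ₂.symm y : Sz F m) * g₂⁻¹ := by rw [e1, hy, e2]
      have e4 : (MulAut.conj (g₂⁻¹ * g₁)).toMonoidHom z = (φ₂.symm y : Sz F m) := by
        show g₂⁻¹ * g₁ * z * (g₂⁻¹ * g₁)⁻¹ = _
        calc g₂⁻¹ * g₁ * z * (g₂⁻¹ * g₁)⁻¹ = g₂⁻¹ * (g₁ * z * g₁⁻¹) * g₂ := by group
          _ = (φ₂.symm y : Sz F m) := by rw [e3]; group
      rw [e4]
      exact (φ₂.symm y).2

end subfield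

end

end Cfsg.Agent.Helper3
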