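import Mathlib
import Cfsg.Agent.Helper3.SuzukiSub

set_option autoImplicit false
set_option linter.unusedSectionVars false
set_option linter.style.haveILetI false
set_option linter.unusedSimpArgs false
set_option linter.unusedVariables false

namespace Cfsg.Agent.Helper3

open scoped Classical Pointwise
open Cfsg Matrix
open Cfsg.Agent.S0335 (fv ovA tM ovO fv_aniso fv_inv_id fv_translate tM_mulVec)

noncomputable section

section abstractP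

variable {G Ω : Type*} [Group G] [Finite G] [MulAction G Ω] [Fintype Ω]

/-- an element commuting with a fixed-point-free element is fixed-point-free -/
theorem fpf_comm
    (h3 : ∀ g : G, ∀ a b c : Ω, a ≠ b → b ≠ c → a ≠ c → g • a = a → g • b = b → g • c = c → g = 1)
    (hodd : Odd (Fintype.card Ω)) (z d : G) (hz : ∀ P : Ω, z • P ≠ P) (hd1 : d ≠ 1)
    (hcomm : d * z = z * d) : ∀ P : Ω, d • P ≠ P := by
  intro a hda
  by_cases hex : ∃ b, b ≠ a ∧ d • b = b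
  · obtain ⟨b, hba, hdb⟩ := hex
    exact hz a (commute_fix_two h3 hodd z d hd1 hcomm a b (Ne.symm hba) hda hdb).1
  · have e : z • a = a := by
      by_contra hne
      exact hex ⟨z • a, hne, by rw [← mul_smul, hcomm, mul_smul, hda]⟩
    exact hz a e

/-- the nonidentity elements conjugate into `H` -/
def tiSet (H : Subgroup G) : Set G := {x | x ≠ 1 ∧ ∃ g : G, g * x * g⁻¹ ∈ H}

/-- counting the conjugates of a TI subgroup -/
theorem ti_count (H N : Subgroup G)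
    (hN : ∀ n ∈ N, ∀ h ∈ H, n * h * n⁻¹ ∈ H)
    (hTI : ∀ g : G, ∀ h ∈ H, h ≠ 1 → g * h * g⁻¹ ∈ H → g ∈ N) :
    (tiSet H).ncard * Nat.card N = Nat.card G * (Nat.card H - 1) := by
  haveI : Fintype G := Fintype.ofFinite G
  let s : Finset (G × G) := Finset.univ.filter (fun p => p.2 ∈ H ∧ p.2 ≠ 1)
  let t : Finset G := Finset.univ.filter (fun x => x ≠ 1 ∧ ∃ g : G, g * x * g⁻¹ ∈ H)
  let f : G × G → G := fun p => p.1 * p.2 * p.1⁻¹
  have ht : (tiSet H).ncard = t.card := by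
    rw [← Set.ncard_coe_finset t]
    congr 1
    ext x
    simp [tiSet, t]
  have hmaps : ∀ p ∈ s, f p ∈ t := by
    intro p hp
    obtain ⟨hpH, hp1⟩ := (Finset.mem_filter.mp hp).2
    refine Finset.mem_filter.mpr ⟨Finset.mem_univ _, ?_, p.1⁻¹, ?_⟩
    · intro h
      apply hp1
      have : p.1 * p.2 * p.1⁻¹ = 1 := h
      exact conj_eq_one_iff.mp this
    · have : p.1⁻¹ * (p.1 * p.2 * p.1⁻¹) * p.1⁻¹⁻¹ = p.2 := by group
      show p.1⁻¹ * (p.1 * p.2 * p.1⁻¹) * p.1⁻¹⁻¹ ∈ H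
      rw [this]
      exact hpH
  have hs : s.card = Nat.card G * (Nat.card H - 1) := by
    have e1 : s = (Finset.univ : Finset G) ×ˢ (Finset.univ.filter (fun h : G => h ∈ H ∧ h ≠ 1)) := by
      ext ⟨a, b⟩
      simp [s]
    have e2 : Finset.univ.filter (fun h : G => h ∈ H ∧ h ≠ 1) =
        (Finset.univ.filter (fun h : G => h ∈ H)).erase 1 := by
      ext h
      simp [and_comm]
    have e3 : (Finset.univ.filter (fun h : G => h ∈ H)).card = Nat.card H := by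
      rw [Nat.card_eq_fintype_card, Fintype.card_subtype]
    rw [e1, Finset.card_product, Finset.card_univ, e2, Finset.card_erase_of_mem
      (Finset.mem_filter.mpr ⟨Finset.mem_univ _, H.one_mem⟩), e3,
      Nat.card_eq_fintype_card (α := G)]
  have hfib : ∀ x ∈ t, (s.filter (fun p => f p = x)).card = Nat.card N := by
    intro x hx
    obtain ⟨hx1, g₀, hg₀⟩ := (Finset.mem_filter.mp hx).2
    have hh₀1 : g₀ * x * g₀⁻¹ ≠ 1 := fun h => hx1 (conj_eq_one_iff.mp h)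
    have e3 : (Finset.univ.filter (fun n : G => n ∈ N)).card = Nat.card N := by
      rw [Nat.card_eq_fintype_card, Fintype.card_subtype]
    rw [← e3]
    symm
    apply Finset.card_bij (fun n _ => (g₀⁻¹ * n, n⁻¹ * (g₀ * x * g₀⁻¹) * n))
    · intro n hn
      have hnN : n ∈ N := (Finset.mem_filter.mp hn).2
      refine Finset.mem_filter.mpr ⟨Finset.mem_filter.mpr ⟨Finset.mem_univ _, ?_, ?_⟩, ?_⟩
      · have := hN n⁻¹ (N.inv_mem hnN) _ hg₀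
        rwa [inv_inv] at this
      · intro h
        apply hh₀1
        have h' : n⁻¹ * (g₀ * x * g₀⁻¹) * n⁻¹⁻¹ = 1 := by rw [inv_inv]; exact h
        exact conj_eq_one_iff.mp h'
      · show g₀⁻¹ * n * (n⁻¹ * (g₀ * x * g₀⁻¹) * n) * (g₀⁻¹ * n)⁻¹ = x
        group
    · intro n _ n' _ h
      have := congrArg Prod.fst h
      exact mul_left_cancel this
    · rintro ⟨g, h⟩ hp
      obtain ⟨hp1, hp2⟩ := Finset.mem_filter.mp hp
      obtain ⟨hhH, hh1⟩ := (Finset.mem_filter.mp hp1).2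
      have hp2' : g * h * g⁻¹ = x := hp2
      have hn : g₀ * g ∈ N := by
        apply hTI (g₀ * g) h hhH hh1
        have : g₀ * g * h * (g₀ * g)⁻¹ = g₀ * (g * h * g⁻¹) * g₀⁻¹ := by group
        rw [this, hp2']
        exact hg₀
      refine ⟨g₀ * g, Finset.mem_filter.mpr ⟨Finset.mem_univ _, hn⟩, ?_⟩
      have e1 : g₀⁻¹ * (g₀ * g) = g := by group
      have e2 : (g₀ * g)⁻¹ * (g₀ * x * g₀⁻¹) * (g₀ * g) = h := by
        rw [← hp2']
        group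
      rw [e1, e2]
  rw [ht, ← hs, Finset.card_eq_sum_card_fiberwise hmaps, Finset.sum_congr rfl hfib,
    Finset.sum_const, smul_eq_mul]

end abstractP

section part

variable {F : Type*} [Field F] [Fintype F] {m : ℕ} (σ τ : F →+* F)
  (hσ : ∀ x, σ x = x ^ (2 ^ (m + 1)))
  (hσ2 : ∀ x, σ (σ x) = x ^ 2) (hτ : ∀ x, τ x ^ 2 = σ x) (h2 : (2 : F) = 0)

/-- fixed-point-free elements of the Suzuki group -/
def szS0 (F : Type*) [Field F] (m : ℕ) : Set (Sz F m) :=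
  {z | ∀ P : suzukiOvoid F m, z • P ≠ P}

include hσ in
theorem mem_szS0 (z : Sz F m) : z ∈ szS0 F m ↔ ∀ o, z.1 • pt σ o ≠ pt σ o := by
  constructor
  · intro h o ho
    exact h (ptO σ hσ o) (Subtype.ext ho)
  · intro h P hP
    obtain ⟨o, ho⟩ := (mem_ovoid_iff σ hσ _).mp P.2
    apply h o
    rw [← ho]
    exact congrArg Subtype.val hP

include hτ in
/-- an element of the Borel subgroup outside the unipotent radical is conjugate into the torus -/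
theorem borel_conj_torus (hm : 1 ≤ m) (hF : Fintype.card F = 2 ^ (2 * m + 1)) (a b : F) (κ : Fˣ)
    (hκ : κ ≠ 1) : ∃ (x₀ y₀ : F) (μ : Fˣ),
      (uG σ hσ hσ2 h2 x₀ y₀)⁻¹ * (uG σ hσ hσ2 h2 a b * dG σ τ hσ hσ2 hτ κ) *
        uG σ hσ hσ2 h2 x₀ y₀ = dG σ τ hσ hσ2 hτ μ := by
  have hk1 : (1 : F) + κ ≠ 0 := by
    intro h
    apply hκ
    apply Units.ext
    show (κ : F) = 1
    linear_combination h - h2
  have hk2 : (1 : F) + κ * σ κ ≠ 0 := by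
    intro h
    have e : (κ : F) * σ κ = 1 := by linear_combination h - h2
    exact hκ (Units.ext (norm_eq_one σ hσ2 _ e))
  obtain ⟨x₀, hx₀⟩ : ∃ x₀ : F, x₀ = a / (1 + κ) := ⟨_, rfl⟩
  obtain ⟨y₀, hy₀⟩ : ∃ y₀ : F, y₀ = (b + σ a * (κ * x₀)) / (1 + κ * σ κ) := ⟨_, rfl⟩
  have ex : κ * x₀ + a = x₀ := by
    rw [hx₀]
    field_simp
    linear_combination (a * κ) * h2
  have ey : κ * σ κ * y₀ + b + σ a * (κ * x₀) = y₀ := by
    rw [hy₀]
    field_simp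
    linear_combination (κ * σ κ * (b + κ * σ a * x₀)) * h2
  have hfix0 : ((uG σ hσ hσ2 h2 x₀ y₀)⁻¹ * (uG σ hσ hσ2 h2 a b * dG σ τ hσ hσ2 hτ κ) *
      uG σ hσ hσ2 h2 x₀ y₀).1 • pt σ (some (0, 0)) = pt σ (some (0, 0)) := by
    show ((tS σ x₀ y₀)⁻¹ * (tS σ a b * dS σ τ hτ κ) * tS σ x₀ y₀) • _ = _
    rw [mul_smul, mul_smul, mul_smul, tS_aff σ hσ2 h2, dS_aff σ τ hσ2 hτ, tS_aff σ hσ2 h2,
      inv_smul_eq_iff, tS_aff σ hσ2 h2]
    simp only [zero_add, mul_zero, add_zero]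
    rw [ex, ey]
  have hfixinf : ((uG σ hσ hσ2 h2 x₀ y₀)⁻¹ * (uG σ hσ hσ2 h2 a b * dG σ τ hσ hσ2 hτ κ) *
      uG σ hσ hσ2 h2 x₀ y₀).1 • pt σ none = pt σ none := by
    have e : (uG σ hσ hσ2 h2 x₀ y₀)⁻¹ * (uG σ hσ hσ2 h2 a b * dG σ τ hσ hσ2 hτ κ) *
        uG σ hσ hσ2 h2 x₀ y₀ ∈ szB (F := F) m :=
      mul_mem (mul_mem (inv_mem (uG_mem_szB σ hσ hσ2 h2 _ _))
        (mul_mem (uG_mem_szB σ hσ hσ2 h2 _ _) (dG_mem_szB σ τ hσ hσ2 hτ κ)))
        (uG_mem_szB σ hσ hσ2 h2 _ _)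
    exact (mem_szB σ _).mp e
  obtain ⟨μ, hμ⟩ := Sz_fix_two σ τ hσ hσ2 hτ h2 hm hF _
    ((uG σ hσ hσ2 h2 x₀ y₀)⁻¹ * (uG σ hσ hσ2 h2 a b * dG σ τ hσ hσ2 hτ κ) *
      uG σ hσ hσ2 h2 x₀ y₀).2 hfixinf hfix0
  exact ⟨x₀, y₀, μ, Subtype.ext hμ⟩

include hτ in
/-- a nonidentity element with a fixed point is conjugate into `szU` or into the torus -/
theorem fix_cases (hm : 1 ≤ m) (hF : Fintype.card F = 2 ^ (2 * m + 1)) (x : Sz F m)
    (hx1 : x ≠ 1) (o : Option (F × F)) (hfix : x.1 • pt σ o = pt σ o) :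
    x ∈ tiSet (szU σ hσ hσ2 h2) ∨ x ∈ tiSet (szD σ τ hσ hσ2 hτ) := by
  obtain ⟨g, hg, -, hgo⟩ := Sz_trans σ hσ hσ2 h2 o
  obtain ⟨g', hg'⟩ : ∃ g' : Sz F m, g' = ⟨g, hg⟩ := ⟨_, rfl⟩
  have hy : g'⁻¹ * x * g' ∈ szB (F := F) m := by
    rw [mem_szB σ]
    show (g'.1⁻¹ * x.1 * g'.1) • pt σ none = pt σ none
    rw [hg']
    show (g⁻¹ * x.1 * g) • pt σ none = pt σ none
    rw [mul_smul, mul_smul, hgo, hfix, ← hgo, inv_smul_smul]
  obtain ⟨a, b, κ, hdec⟩ := (mem_szB_iff' σ τ hσ hσ2 hτ h2 hm hF _).mp hy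
  by_cases hκ : κ = 1
  · left
    refine ⟨hx1, g'⁻¹, ?_⟩
    rw [inv_inv, hdec, hκ, dG_one, mul_one]
    exact (mem_szU_iff σ hσ hσ2 h2 _).mpr ⟨a, b, rfl⟩
  · right
    obtain ⟨x₀, y₀, μ, hμ⟩ := borel_conj_torus σ τ hσ hσ2 hτ h2 hm hF a b κ hκ
    refine ⟨hx1, (uG σ hσ hσ2 h2 x₀ y₀)⁻¹ * g'⁻¹, ?_⟩
    have e : (uG σ hσ hσ2 h2 x₀ y₀)⁻¹ * g'⁻¹ * x * ((uG σ hσ hσ2 h2 x₀ y₀)⁻¹ * g'⁻¹)⁻¹ =
        (uG σ hσ hσ2 h2 x₀ y₀)⁻¹ * (g'⁻¹ * x * g') * uG σ hσ hσ2 h2 x₀ y₀ := by group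
    rw [e, hdec, hμ]
    exact (mem_szD_iff σ τ hσ hσ2 hτ _).mpr ⟨μ, rfl⟩

/-- elements conjugate into `szU` have exactly one fixed point -/
theorem tiU_fix (x : Sz F m) (hx : x ∈ tiSet (szU σ hσ hσ2 h2)) :
    ∃ o, x.1 • pt σ o = pt σ o ∧ ∀ o', x.1 • pt σ o' = pt σ o' → o' = o := by
  obtain ⟨hx1, g, hg⟩ := hx
  obtain ⟨a, b, hab⟩ := (mem_szU_iff σ hσ hσ2 h2 _).mp hg
  have hne : ¬ (a = 0 ∧ b = 0) := by
    rintro ⟨rfl, rfl⟩
    rw [uG_zero] at hab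
    exact hx1 (conj_eq_one_iff.mp hab)
  have hab' : g.1 * x.1 * g.1⁻¹ = tS σ a b := congrArg (fun y : Sz F m => y.1) hab
  have hx' : x.1 = g.1⁻¹ * tS σ a b * g.1 := by rw [← hab']; group
  obtain ⟨o, ho⟩ := Sz_pt σ hσ g.1⁻¹ (Subgroup.inv_mem _ g.2) none
  refine ⟨o, ?_, ?_⟩
  · rw [hx', mul_smul, mul_smul, ← ho, smul_inv_smul, tS_inf]
  · intro o' ho'
    obtain ⟨o'', ho''⟩ := Sz_pt σ hσ g.1 g.2 o'
    have hfix : tS σ a b • pt σ o'' = pt σ o'' := by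
      rw [← hab', ← ho'', mul_smul, mul_smul, inv_smul_smul, ho']
    have e := tS_fix σ hσ2 h2 a b hne o'' hfix
    rw [e] at ho''
    apply pt_inj σ
    rw [← ho, ← ho'', inv_smul_smul]

include hσ2 in
/-- elements conjugate into the torus have two fixed points -/
theorem tiD_fix (x : Sz F m) (hx : x ∈ tiSet (szD σ τ hσ hσ2 hτ)) :
    ∃ o₁ o₂, o₁ ≠ o₂ ∧ x.1 • pt σ o₁ = pt σ o₁ ∧ x.1 • pt σ o₂ = pt σ o₂ := by
  obtain ⟨hx1, g, hg⟩ := hx
  obtain ⟨κ, hκ⟩ := (mem_szD_iff σ τ hσ hσ2 hτ _).mp hg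
  have hκ' : g.1 * x.1 * g.1⁻¹ = dS σ τ hτ κ := congrArg (fun y : Sz F m => y.1) hκ
  have hx' : x.1 = g.1⁻¹ * dS σ τ hτ κ * g.1 := by rw [← hκ']; group
  obtain ⟨o₁, ho₁⟩ := Sz_pt σ hσ g.1⁻¹ (Subgroup.inv_mem _ g.2) none
  obtain ⟨o₂, ho₂⟩ := Sz_pt σ hσ g.1⁻¹ (Subgroup.inv_mem _ g.2) (some (0, 0))
  refine ⟨o₁, o₂, ?_, ?_, ?_⟩
  · rintro rfl
    have e := smul_left_cancel g.1⁻¹ (ho₁.trans ho₂.symm)
    exact absurd (pt_inj σ e) (by simp)
  · rw [hx', mul_smul, mul_smul, ← ho₁, smul_inv_smul, dS_inf]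
  · rw [hx', mul_smul, mul_smul, ← ho₂, smul_inv_smul, dS_aff σ τ hσ2 hτ]
    simp

include hτ in
theorem szS0_eq (hm : 1 ≤ m) (hF : Fintype.card F = 2 ^ (2 * m + 1)) :
    szS0 F m = (({1} : Set (Sz F m)) ∪ tiSet (szU σ hσ hσ2 h2) ∪ tiSet (szD σ τ hσ hσ2 hτ))ᶜ := by
  ext z
  rw [Set.mem_compl_iff, mem_szS0 σ hσ]
  constructor
  · intro hz hmem
    rcases hmem with (h | h) | h
    · have : z = 1 := h
      apply hz none
      rw [this]
      exact one_smul _ _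
    · obtain ⟨o, ho, -⟩ := tiU_fix σ hσ hσ2 h2 z h
      exact hz o ho
    · obtain ⟨o₁, o₂, -, ho, -⟩ := tiD_fix σ τ hσ hσ2 hτ z h
      exact hz o₁ ho
  · intro hz o ho
    apply hz
    by_cases h1 : z = 1
    · left; left; exact h1
    · rcases fix_cases σ τ hσ hσ2 hτ h2 hm hF z h1 o ho with h | h
      · left; right; exact h
      · right; exact h

/-- the stabiliser of the pair of points `∞`, `0` -/
def szND : Subgroup (Sz F m) where
  carrier := {g | (g.1 • pt σ none = pt σ none ∧ g.1 • pt σ (some (0, 0)) = pt σ (some (0, 0))) ∨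
    (g.1 • pt σ none = pt σ (some (0, 0)) ∧ g.1 • pt σ (some (0, 0)) = pt σ none)}
  mul_mem' := by
    rintro a b (⟨ha1, ha2⟩ | ⟨ha1, ha2⟩) (⟨hb1, hb2⟩ | ⟨hb1, hb2⟩)
    · left
      exact ⟨by show (a.1 * b.1) • _ = _; rw [mul_smul, hb1, ha1],
        by show (a.1 * b.1) • _ = _; rw [mul_smul, hb2, ha2]⟩
    · right
      exact ⟨by show (a.1 * b.1) • _ = _; rw [mul_smul, hb1, ha2],
        by show (a.1 * b.1) • _ = _; rw [mul_smul, hb2, ha1]⟩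
    · right
      exact ⟨by show (a.1 * b.1) • _ = _; rw [mul_smul, hb1, ha1],
        by show (a.1 * b.1) • _ = _; rw [mul_smul, hb2, ha2]⟩
    · left
      exact ⟨by show (a.1 * b.1) • _ = _; rw [mul_smul, hb1, ha2],
        by show (a.1 * b.1) • _ = _; rw [mul_smul, hb2, ha1]⟩
  one_mem' := Or.inl ⟨one_smul _ _, one_smul _ _⟩
  inv_mem' := by
    rintro a (⟨ha1, ha2⟩ | ⟨ha1, ha2⟩)
    · left
      exact ⟨by show a.1⁻¹ • _ = _; rw [inv_smul_eq_iff, ha1],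
        by show a.1⁻¹ • _ = _; rw [inv_smul_eq_iff, ha2]⟩
    · right
      exact ⟨by show a.1⁻¹ • _ = _; rw [inv_smul_eq_iff, ha2],
        by show a.1⁻¹ • _ = _; rw [inv_smul_eq_iff, ha1]⟩

include hσ hσ2 hτ h2 in
theorem mem_szND_iff (hm : 1 ≤ m) (hF : Fintype.card F = 2 ^ (2 * m + 1)) (g : Sz F m) :
    g ∈ szND (m := m) σ ↔ (∃ κ, g = dG σ τ hσ hσ2 hτ κ) ∨
      (∃ κ, g = wG σ hσ hσ2 h2 * dG σ τ hσ hσ2 hτ κ) := by
  constructor
  · rintro (⟨h1, h0⟩ | ⟨h1, h0⟩)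
    · left
      obtain ⟨κ, hκ⟩ := Sz_fix_two σ τ hσ hσ2 hτ h2 hm hF g.1 g.2 h1 h0
      exact ⟨κ, Subtype.ext hκ⟩
    · right
      have f1 : (wS h2 * g.1) • pt σ none = pt σ none := by rw [mul_smul, h1, wS_zero]
      have f0 : (wS h2 * g.1) • pt σ (some (0, 0)) = pt σ (some (0, 0)) := by
        rw [mul_smul, h0, wS_inf]
      obtain ⟨κ, hκ⟩ := Sz_fix_two σ τ hσ hσ2 hτ h2 hm hF _
        (mul_mem (wS_mem σ hσ hσ2 h2) g.2) f1 f0
      refine ⟨κ, Subtype.ext ?_⟩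
      show g.1 = wS h2 * dS σ τ hτ κ
      rw [← hκ, ← mul_assoc, wS_mul_self, one_mul]
  · rintro (⟨κ, rfl⟩ | ⟨κ, rfl⟩)
    · left
      refine ⟨dS_inf σ τ hτ κ, ?_⟩
      show dS σ τ hτ κ • _ = _
      rw [dS_aff σ τ hσ2 hτ]
      simp
    · right
      constructor
      · show (wS h2 * dS σ τ hτ κ) • _ = _
        rw [mul_smul, dS_inf, wS_inf]
      · show (wS h2 * dS σ τ hτ κ) • _ = _
        rw [mul_smul, dS_aff σ τ hσ2 hτ]
        simp only [mul_zero]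
        exact wS_zero σ h2

include hσ hσ2 hτ h2 in
theorem card_szND (hm : 1 ≤ m) (hF : Fintype.card F = 2 ^ (2 * m + 1)) :
    Nat.card (szND (m := m) σ) = 2 * (Fintype.card F - 1) := by
  have hmem := mem_szND_iff σ τ hσ hσ2 hτ h2 hm hF
  let φ : Fˣ ⊕ Fˣ → szND (m := m) σ := fun s =>
    Sum.elim (fun κ => ⟨dG σ τ hσ hσ2 hτ κ, (hmem _).mpr (Or.inl ⟨κ, rfl⟩)⟩)
      (fun κ => ⟨wG σ hσ hσ2 h2 * dG σ τ hσ hσ2 hτ κ, (hmem _).mpr (Or.inr ⟨κ, rfl⟩)⟩) s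
  have hne : ∀ κ κ' : Fˣ, dG σ τ hσ hσ2 hτ κ ≠ wG σ hσ hσ2 h2 * dG σ τ hσ hσ2 hτ κ' := by
    intro κ κ' h
    have h' : dS σ τ hτ κ = wS h2 * dS σ τ hτ κ' := congrArg (fun y : Sz F m => y.1) h
    have e : dS σ τ hτ κ • pt σ none = (wS h2 * dS σ τ hτ κ') • pt σ none := by rw [h']
    rw [dS_inf, mul_smul, dS_inf, wS_inf] at e
    exact absurd (pt_inj σ e) (by simp)
  have hφ : Function.Bijective φ := by
    constructor
    · rintro (κ | κ) (κ' | κ') h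
      · have e : dG σ τ hσ hσ2 hτ κ = dG σ τ hσ hσ2 hτ κ' := congrArg Subtype.val h
        rw [dG_inj σ τ hσ hσ2 hτ _ _ e]
      · exact absurd (congrArg Subtype.val h) (hne κ κ')
      · exact absurd (congrArg Subtype.val h).symm (hne κ' κ)
      · have e : wG σ hσ hσ2 h2 * dG σ τ hσ hσ2 hτ κ = wG σ hσ hσ2 h2 * dG σ τ hσ hσ2 hτ κ' :=
          congrArg Subtype.val h
        rw [dG_inj σ τ hσ hσ2 hτ _ _ (mul_left_cancel e)]
    · rintro ⟨g, hg⟩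
      rcases (hmem g).mp hg with ⟨κ, rfl⟩ | ⟨κ, rfl⟩
      · exact ⟨Sum.inl κ, rfl⟩
      · exact ⟨Sum.inr κ, rfl⟩
  rw [← Nat.card_congr (Equiv.ofBijective φ hφ), Nat.card_sum, Nat.card_units,
    Nat.card_eq_fintype_card]
  ring

include hτ in
theorem count_tiU (hm : 1 ≤ m) (hF : Fintype.card F = 2 ^ (2 * m + 1)) :
    (tiSet (szU σ hσ hσ2 h2)).ncard * Nat.card (szB (F := F) m) =
      Nat.card (Sz F m) * (Nat.card (szU σ hσ hσ2 h2) - 1) := by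
  haveI := Sz_finite σ τ hσ hσ2 hτ h2 hm hF
  apply ti_count
  · intro n hn h hh
    exact (Subgroup.mem_normalizer_iff.mp
      (szB_le_normalizer σ τ hσ hσ2 hτ h2 hm hF hn) h).mp hh
  · intro g h hh hh1 hgh
    obtain ⟨a, b, rfl⟩ := (mem_szU_iff σ hσ hσ2 h2 _).mp hh
    obtain ⟨a', b', hab'⟩ := (mem_szU_iff σ hσ hσ2 h2 _).mp hgh
    have hne : ¬ (a' = 0 ∧ b' = 0) := by
      rintro ⟨rfl, rfl⟩
      rw [uG_zero] at hab'
      exact hh1 (conj_eq_one_iff.mp hab')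
    have hrel : g.1 * tS σ a b = tS σ a' b' * g.1 := by
      have e : g * uG σ hσ hσ2 h2 a b = uG σ hσ hσ2 h2 a' b' * g := by rw [← hab']; group
      exact congrArg (fun y : Sz F m => y.1) e
    obtain ⟨o, ho⟩ := Sz_pt σ hσ g.1 g.2 none
    have hfix : tS σ a' b' • pt σ o = pt σ o := by
      rw [← ho, ← mul_smul, ← hrel, mul_smul, tS_inf]
    have ho' := tS_fix σ hσ2 h2 a' b' hne o hfix
    rw [mem_szB σ, ho, ho']

include hσ hσ2 hτ h2 in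
theorem count_tiD (hm : 1 ≤ m) (hF : Fintype.card F = 2 ^ (2 * m + 1)) :
    (tiSet (szD σ τ hσ hσ2 hτ)).ncard * Nat.card (szND (m := m) σ) =
      Nat.card (Sz F m) * (Nat.card (szD σ τ hσ hσ2 hτ) - 1) := by
  haveI := Sz_finite σ τ hσ hσ2 hτ h2 hm hF
  have key : ∀ (g : Sz F m) (κ κ' : Fˣ), κ' ≠ 1 →
      g * dG σ τ hσ hσ2 hτ κ * g⁻¹ = dG σ τ hσ hσ2 hτ κ' → g ∈ szND (m := m) σ := by
    intro g κ κ' hκ' hrel
    have hrel' : g.1 * dS σ τ hτ κ = dS σ τ hτ κ' * g.1 := by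
      have e : g * dG σ τ hσ hσ2 hτ κ = dG σ τ hσ hσ2 hτ κ' * g := by rw [← hrel]; group
      exact congrArg (fun y : Sz F m => y.1) e
    obtain ⟨o1, ho1⟩ := Sz_pt σ hσ g.1 g.2 none
    obtain ⟨o2, ho2⟩ := Sz_pt σ hσ g.1 g.2 (some (0, 0))
    have hfix1 : dS σ τ hτ κ' • pt σ o1 = pt σ o1 := by
      rw [← ho1, ← mul_smul, ← hrel', mul_smul, dS_inf]
    have hfix2 : dS σ τ hτ κ' • pt σ o2 = pt σ o2 := by
      rw [← ho2, ← mul_smul, ← hrel', mul_smul, dS_aff σ τ hσ2 hτ]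
      simp only [mul_zero]
    have hne12 : o1 ≠ o2 := by
      rintro rfl
      have e : g.1 • pt σ none = g.1 • pt σ (some (0, 0)) := by rw [ho1, ho2]
      exact absurd (pt_inj σ (smul_left_cancel g.1 e)) (by simp)
    rcases dS_fix σ τ hσ2 hτ κ' hκ' o1 hfix1 with c1 | c1 <;>
      rcases dS_fix σ τ hσ2 hτ κ' hκ' o2 hfix2 with c2 | c2
    · exact absurd (c1.trans c2.symm) hne12
    · left
      exact ⟨by rw [ho1, c1], by rw [ho2, c2]⟩
    · right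
      exact ⟨by rw [ho1, c1], by rw [ho2, c2]⟩
    · exact absurd (c1.trans c2.symm) hne12
  apply ti_count
  · intro n hn h hh
    obtain ⟨κ, rfl⟩ := (mem_szD_iff σ τ hσ hσ2 hτ _).mp hh
    rcases (mem_szND_iff σ τ hσ hσ2 hτ h2 hm hF n).mp hn with ⟨μ, rfl⟩ | ⟨μ, rfl⟩
    · refine (mem_szD_iff σ τ hσ hσ2 hτ _).mpr ⟨κ, ?_⟩
      rw [dG_inv, ← dG_mul, ← dG_mul]
      congr 1
      rw [mul_comm μ κ, mul_assoc, mul_inv_cancel, mul_one]
    · refine (mem_szD_iff σ τ hσ hσ2 hτ _).mpr ⟨κ⁻¹, ?_⟩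
      have e1 : wG σ hσ hσ2 h2 * dG σ τ hσ hσ2 hτ μ * dG σ τ hσ hσ2 hτ κ *
          (wG σ hσ hσ2 h2 * dG σ τ hσ hσ2 hτ μ)⁻¹ =
          wG σ hσ hσ2 h2 * (dG σ τ hσ hσ2 hτ μ * dG σ τ hσ hσ2 hτ κ *
            (dG σ τ hσ hσ2 hτ μ)⁻¹) * (wG σ hσ hσ2 h2)⁻¹ := by group
      have e2 : dG σ τ hσ hσ2 hτ μ * dG σ τ hσ hσ2 hτ κ * (dG σ τ hσ hσ2 hτ μ)⁻¹ =
          dG σ τ hσ hσ2 hτ κ := by
        rw [dG_inv, ← dG_mul, ← dG_mul]
        congr 1
        rw [mul_comm μ κ, mul_assoc, mul_inv_cancel, mul_one]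
      have e3 : (wG σ hσ hσ2 h2)⁻¹ = wG σ hσ hσ2 h2 :=
        inv_eq_of_mul_eq_one_right (wG_sq σ hσ hσ2 h2)
      rw [e1, e2, e3, wG_dG, mul_assoc, wG_sq, mul_one]
  · intro g h hh hh1 hgh
    obtain ⟨κ, rfl⟩ := (mem_szD_iff σ τ hσ hσ2 hτ _).mp hh
    obtain ⟨κ', hκ'⟩ := (mem_szD_iff σ τ hσ hσ2 hτ _).mp hgh
    have hκ'1 : κ' ≠ 1 := by
      rintro rfl
      rw [dG_one] at hκ'
      exact hh1 (conj_eq_one_iff.mp hκ')
    exact key g κ κ' hκ'1 hκ'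

include hσ hσ2 hτ h2 in
/-- the number of fixed-point-free elements -/
theorem card_szS0 (hm : 1 ≤ m) (hF : Fintype.card F = 2 ^ (2 * m + 1)) :
    2 * (szS0 F m).ncard = Fintype.card F ^ 3 * (Fintype.card F - 1) ^ 2 := by
  haveI := Sz_finite σ τ hσ hσ2 hτ h2 hm hF
  have hF8 : 2 ^ 3 ≤ Fintype.card F := by
    rw [hF]
    exact Nat.pow_le_pow_right (by norm_num) (by omega)
  obtain ⟨P, hP⟩ : ∃ P, Fintype.card F = P + 2 := ⟨Fintype.card F - 2, by omega⟩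
  have hU := count_tiU σ τ hσ hσ2 hτ h2 hm hF
  have hD := count_tiD σ τ hσ hσ2 hτ h2 hm hF
  have hBcard : Nat.card (szB (F := F) m) = Fintype.card F ^ 2 * (Fintype.card F - 1) :=
    card_Sz_inf σ τ hσ hσ2 hτ h2 hm hF
  rw [hBcard, card_Sz σ τ hσ hσ2 hτ h2 hm hF, card_szU, hP] at hU
  rw [card_szND σ τ hσ hσ2 hτ h2 hm hF, card_Sz σ τ hσ hσ2 hτ h2 hm hF, card_szD, hP] at hD
  have e1 : P + 2 - 1 = P + 1 := by omega
  have e2 : P + 1 - 1 = P := by omega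
  have e3 : (P + 2) * (P + 2) - 1 = (P + 1) * (P + 3) := by
    have : (P + 2) * (P + 2) = (P + 1) * (P + 3) + 1 := by ring
    omega
  rw [e1, e3] at hU
  rw [e1, e2] at hD
  have hTU : (tiSet (szU σ hσ hσ2 h2)).ncard = ((P + 2) ^ 2 + 1) * ((P + 1) * (P + 3)) := by
    have hpos : 0 < (P + 2) ^ 2 * (P + 1) := by positivity
    apply Nat.eq_of_mul_eq_mul_right hpos
    rw [hU]
    ring
  have hTD : 2 * (tiSet (szD σ τ hσ hσ2 hτ)).ncard = (P + 2) ^ 2 * ((P + 2) ^ 2 + 1) * P := by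
    have hpos : 0 < P + 1 := by positivity
    apply Nat.eq_of_mul_eq_mul_right hpos
    calc 2 * (tiSet (szD σ τ hσ hσ2 hτ)).ncard * (P + 1)
        = (tiSet (szD σ τ hσ hσ2 hτ)).ncard * (2 * (P + 1)) := by ring
      _ = _ := by rw [hD]; ring
  -- the partition
  have hdisj1 : Disjoint ({1} : Set (Sz F m)) (tiSet (szU σ hσ hσ2 h2)) := by
    rw [Set.disjoint_left]
    intro x hx hx'
    exact hx'.1 hx
  have hdisj2 : Disjoint (({1} : Set (Sz F m)) ∪ tiSet (szU σ hσ hσ2 h2))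
      (tiSet (szD σ τ hσ hσ2 hτ)) := by
    rw [Set.disjoint_left]
    intro x hx hx'
    rcases hx with hx | hx
    · exact hx'.1 hx
    · obtain ⟨o, -, huniq⟩ := tiU_fix σ hσ hσ2 h2 x hx
      obtain ⟨o₁, o₂, hne, h1, h2'⟩ := tiD_fix σ τ hσ hσ2 hτ x hx'
      exact hne ((huniq o₁ h1).trans (huniq o₂ h2').symm)
  have hcompl := Set.ncard_add_ncard_compl
    (({1} : Set (Sz F m)) ∪ tiSet (szU σ hσ hσ2 h2) ∪ tiSet (szD σ τ hσ hσ2 hτ))
  rw [← szS0_eq σ τ hσ hσ2 hτ h2 hm hF, Set.ncard_union_eq hdisj2, Set.ncard_union_eq hdisj1,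
    Set.ncard_singleton, card_Sz σ τ hσ hσ2 hτ h2 hm hF, hP, e1, hTU] at hcompl
  rw [hP, e1]
  have hc2 : 2 * (1 + ((P + 2) ^ 2 + 1) * ((P + 1) * (P + 3))) +
      2 * (tiSet (szD σ τ hσ hσ2 hτ)).ncard + 2 * (szS0 F m).ncard =
      2 * ((P + 2) ^ 2 * ((P + 2) ^ 2 + 1) * (P + 1)) := by
    rw [← hcompl]
    ring
  rw [hTD] at hc2
  nlinarith [hc2]

end part

section rootb

theorem root_bound {F : Type*} [Field F] [Fintype F] {p : ℕ} [Fact p.Prime]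
    (hp2 : p ≠ 2) (hq : p ∣ Fintype.card F ^ 2 + 1)
    (x : Matrix (Fin 4) (Fin 4) F) (hx : x ^ p = 1) (hx1 : x ≠ 1)
    (χ : Polynomial F) (hχ : χ.Monic) (hdeg : χ.natDegree = 4)
    (Y : Finset (Matrix (Fin 4) (Fin 4) F))
    (hY : ∀ y ∈ Y, y * x = x * y ∧ Polynomial.aeval y χ = 0) : Y.card ≤ 4 := by
  haveI : NoZeroDivisors (Subring.centralizer ({x} : Set (Matrix (Fin 4) (Fin 4) F))) := ⟨by
    rintro ⟨a, ha⟩ ⟨b, hb⟩ hab
    have hab' : a * b = 0 := congrArg Subtype.val hab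
    have ha' : a * x = x * a := ((Subring.mem_centralizer_iff.mp ha) x rfl).symm
    rcases cent_domain hp2 hq x hx hx1 a b ha' hab' with h | h
    · left; exact Subtype.ext h
    · right; exact Subtype.ext h⟩
  haveI hdom : IsDomain (Subring.centralizer ({x} : Set (Matrix (Fin 4) (Fin 4) F))) :=
    NoZeroDivisors.to_isDomain _
  have hfield := Finite.isDomain_to_isField
    (Subring.centralizer ({x} : Set (Matrix (Fin 4) (Fin 4) F)))
  letI : CommRing (Subring.centralizer ({x} : Set (Matrix (Fin 4) (Fin 4) F))) :=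
    { (inferInstance : Ring (Subring.centralizer ({x} : Set (Matrix (Fin 4) (Fin 4) F)))) with
      mul_comm := hfield.mul_comm }
  haveI : IsDomain (Subring.centralizer ({x} : Set (Matrix (Fin 4) (Fin 4) F))) := hdom
  let φ : F →+* (Subring.centralizer ({x} : Set (Matrix (Fin 4) (Fin 4) F))) :=
    RingHom.codRestrict (algebraMap F (Matrix (Fin 4) (Fin 4) F)) _ (fun c => by
      rw [Subring.mem_centralizer_iff]
      rintro g rfl
      exact (Algebra.commutes c g).symm)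
  let P : Polynomial (Subring.centralizer ({x} : Set (Matrix (Fin 4) (Fin 4) F))) := χ.map φ
  have hP : P.Monic := hχ.map φ
  have hPdeg : P.natDegree = 4 := by rw [hχ.natDegree_map φ, hdeg]
  have hmemE : ∀ y ∈ Y, y ∈ Subring.centralizer ({x} : Set (Matrix (Fin 4) (Fin 4) F)) := by
    intro y hy
    rw [Subring.mem_centralizer_iff]
    rintro g rfl
    exact ((hY y hy).1).symm
  let Y' : Finset (Subring.centralizer ({x} : Set (Matrix (Fin 4) (Fin 4) F))) :=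
    Y.subtype (fun y => y ∈ Subring.centralizer ({x} : Set (Matrix (Fin 4) (Fin 4) F)))
  have hY'card : Y'.card = Y.card := by
    rw [Finset.card_subtype]
    congr 1
    exact Finset.filter_true_of_mem hmemE
  have hsub : Y' ⊆ P.roots.toFinset := by
    intro y hy
    have hyY : y.1 ∈ Y := Finset.mem_subtype.mp hy
    rw [Multiset.mem_toFinset, Polynomial.mem_roots hP.ne_zero, Polynomial.IsRoot,
      Polynomial.eval_map]
    apply Subtype.ext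
    have e := Polynomial.hom_eval₂ χ φ
      (Subring.centralizer ({x} : Set (Matrix (Fin 4) (Fin 4) F))).subtype y
    rw [Subring.coe_subtype] at e
    show ((Polynomial.eval₂ φ y χ : Subring.centralizer ({x} : Set (Matrix (Fin 4) (Fin 4) F))) :
      Matrix (Fin 4) (Fin 4) F) = 0
    rw [e]
    exact (hY y.1 hyY).2
  calc Y.card = Y'.card := hY'card.symm
    _ ≤ P.roots.toFinset.card := Finset.card_le_card hsub
    _ ≤ Multiset.card P.roots := Multiset.toFinset_card_le _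
    _ ≤ P.natDegree := Polynomial.card_roots' _
    _ = 4 := hPdeg

theorem two_pow_odd_mod_three (m : ℕ) : 2 ^ (2 * m + 1) % 3 = 2 := by
  induction m with
  | zero => norm_num
  | succ n ih =>
    have e : 2 ^ (2 * (n + 1) + 1) = 4 * 2 ^ (2 * n + 1) := by
      rw [show 2 * (n + 1) + 1 = 2 + (2 * n + 1) by ring, pow_add]
      norm_num
    rw [e]
    omega

end rootb

section arith

theorem ar_A (t e k G : ℕ) (hk : 4 ≤ k) (he : e ≤ 4) (h : t * (e * (k + 1)) = G * k) :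
    G ≤ 5 * t := by
  by_contra hcon
  have hG : 5 * t + 1 ≤ G := by omega
  have h1 : t * (e * (k + 1)) ≤ t * (4 * (k + 1)) :=
    Nat.mul_le_mul_left t (Nat.mul_le_mul_right (k + 1) he)
  have h2 : (5 * t + 1) * k ≤ G * k := Nat.mul_le_mul_right k hG
  have h3 : t * 4 ≤ t * k := Nat.mul_le_mul_left t hk
  nlinarith

theorem ar_A' (t e k G : ℕ) (hk : 4 ≤ k) (he : e ≤ 2) (h : t * (e * (k + 1)) = G * k) :
    2 * G ≤ 5 * t := by
  by_contra hcon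
  have hG : 5 * t + 1 ≤ 2 * G := by omega
  have h1 : t * (e * (k + 1)) ≤ t * (2 * (k + 1)) :=
    Nat.mul_le_mul_left t (Nat.mul_le_mul_right (k + 1) he)
  have h2 : (5 * t + 1) * k ≤ 2 * G * k := Nat.mul_le_mul_right k hG
  have h3 : t * 4 ≤ t * k := Nat.mul_le_mul_left t hk
  nlinarith

theorem ar_B (P : ℕ) (hP : 7 ≤ P) :
    5 * ((P + 1) ^ 3 * P ^ 2) < 6 * ((P + 1) ^ 2 * ((P + 1) ^ 2 + 1) * P) := by
  have h1 : 5 * ((P + 1) * P) < 6 * ((P + 1) ^ 2 + 1) := by nlinarith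
  have h2 : 0 < (P + 1) ^ 2 * P := by positivity
  calc 5 * ((P + 1) ^ 3 * P ^ 2) = (P + 1) ^ 2 * P * (5 * ((P + 1) * P)) := by ring
    _ < (P + 1) ^ 2 * P * (6 * ((P + 1) ^ 2 + 1)) := Nat.mul_lt_mul_of_pos_left h1 h2
    _ = _ := by ring

theorem ar_C (P k e c t : ℕ) (hP : 7 ≤ P) (hk : 4 ≤ k) (hc : (k + 1) * c = (P + 1) ^ 2 + 1)
    (he : e = 1 ∨ e = 2 ∨ e = 4) (hS : 2 * t = (P + 1) ^ 3 * P ^ 2)
    (ht : t * (e * (k + 1)) = (P + 1) ^ 2 * ((P + 1) ^ 2 + 1) * P * k) : False := by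
  have key : (P + 1) * P * e = 2 * c * k := by
    have hpos : 0 < (P + 1) ^ 2 * P * (k + 1) := by positivity
    apply Nat.eq_of_mul_eq_mul_left hpos
    calc (P + 1) ^ 2 * P * (k + 1) * ((P + 1) * P * e)
        = (P + 1) ^ 3 * P ^ 2 * (e * (k + 1)) := by ring
      _ = 2 * (t * (e * (k + 1))) := by rw [← hS]; ring
      _ = 2 * ((P + 1) ^ 2 * ((P + 1) ^ 2 + 1) * P * k) := by rw [ht]
      _ = 2 * ((P + 1) ^ 2 * ((k + 1) * c) * P * k) := by rw [hc]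
      _ = _ := by ring
  rcases he with rfl | rfl | rfl
  · -- e = 1
    have h5 : 5 * c ≤ (k + 1) * c := Nat.mul_le_mul_right c (by omega)
    nlinarith
  · -- e = 2
    have hc2 : c = P + 2 := by nlinarith
    subst hc2
    rcases Nat.lt_or_ge k P with hlt | hge
    · have : (k + 1) * (P + 2) ≤ P * (P + 2) := Nat.mul_le_mul_right _ (by omega)
      nlinarith
    · have : (P + 1) * (P + 2) ≤ (k + 1) * (P + 2) := Nat.mul_le_mul_right _ (by omega)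
      nlinarith
  · -- e = 4
    have h5 : 2 * c * k ≤ 2 * ((k + 1) * c) := by nlinarith
    nlinarith

theorem ar_D (P k₁ k₂ t₁ t₂ : ℕ) (hP : 7 ≤ P)
    (h₁ : t₁ * (4 * (k₁ + 1)) = (P + 1) ^ 2 * ((P + 1) ^ 2 + 1) * P * k₁)
    (h₂ : t₂ * (4 * (k₂ + 1)) = (P + 1) ^ 2 * ((P + 1) ^ 2 + 1) * P * k₂)
    (hS : 2 * (t₁ + t₂) = (P + 1) ^ 3 * P ^ 2) :
    2 * (P + 2) * ((k₁ + 1) * (k₂ + 1)) = ((P + 1) ^ 2 + 1) * ((k₁ + 1) + (k₂ + 1)) := by
  have hpos : 0 < (P + 1) ^ 2 * P := by positivity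
  apply Nat.eq_of_mul_eq_mul_left hpos
  zify at h₁ h₂ hS ⊢
  linear_combination (-(k₂ + 1 : ℤ)) * h₁ - (k₁ + 1 : ℤ) * h₂ + (2 * (k₁ + 1) * (k₂ + 1) : ℤ) * hS

theorem ar_E (P n₁ n₂ : ℕ) (hn₁ : 0 < n₁) (hn₂ : 0 < n₂) (hcop : Nat.Coprime n₁ n₂)
    (hd₁ : n₁ ∣ (P + 1) ^ 2 + 1) (hd₂ : n₂ ∣ (P + 1) ^ 2 + 1) (hodd : Odd P)
    (h : 2 * (P + 2) * (n₁ * n₂) = ((P + 1) ^ 2 + 1) * (n₁ + n₂)) :
    n₁ * n₂ = (P + 1) ^ 2 + 1 ∧ n₁ + n₂ = 2 * (P + 2) := by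
  obtain ⟨d, hd⟩ := hcop.mul_dvd_of_dvd_of_dvd hd₁ hd₂
  have hpos : 0 < n₁ * n₂ := Nat.mul_pos hn₁ hn₂
  have h' : 2 * (P + 2) = d * (n₁ + n₂) := by
    apply Nat.eq_of_mul_eq_mul_left hpos
    rw [hd] at h
    linarith [h, mul_comm (n₁ * n₂) (2 * (P + 2)), mul_assoc (n₁ * n₂) d (n₁ + n₂)]
  have hd4 : d ∣ 4 := by
    have e1 : d ∣ 2 * ((P + 1) ^ 2 + 1) := Dvd.dvd.mul_left (Dvd.intro_left _ hd.symm) 2
    have e2 : d ∣ 2 * (P + 2) * P := Dvd.dvd.mul_right (Dvd.intro _ h'.symm) P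
    have e3 : 2 * ((P + 1) ^ 2 + 1) = 2 * (P + 2) * P + 4 := by ring
    rw [e3] at e1
    exact (Nat.dvd_add_right e2).mp e1
  have hdodd : d % 2 = 1 := by
    obtain ⟨j, hj⟩ := hodd
    have hQ : ((P + 1) ^ 2 + 1) % 2 = 1 := by
      rw [hj]
      have : (2 * j + 1 + 1) ^ 2 + 1 = 2 * (2 * (j + 1) ^ 2) + 1 := by ring
      rw [this]
      omega
    by_contra hcon
    have h0 : d % 2 = 0 := by omega
    rw [hd, Nat.mul_mod, h0] at hQ
    simp at hQ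
  have hd1 : d = 1 := by
    have hle : d ≤ 4 := Nat.le_of_dvd (by norm_num) hd4
    interval_cases d <;> simp_all
  subst hd1
  exact ⟨by rw [hd, mul_one], by rw [h', one_mul]⟩

theorem ar_F (n₁ n₂ q r b : ℕ) (hq : q = 2 * r * r) (hb : b + 2 * r = q + 1)
    (hsum : n₁ + n₂ = 2 * (q + 1)) (hprod : n₁ * n₂ = q ^ 2 + 1) :
    (n₁ = q + 2 * r + 1 ∧ n₂ = b) ∨ (n₁ = b ∧ n₂ = q + 2 * r + 1) := by
  have key : ((n₁ : ℤ) - (q + 2 * r + 1)) * ((n₁ : ℤ) - b) = 0 := by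
    zify at hq hb hsum hprod
    have hb' : (b : ℤ) = q + 1 - 2 * r := by linarith
    rw [hb']
    linear_combination (-1 : ℤ) * hprod + (n₁ : ℤ) * hsum + (2 : ℤ) * hq
  rcases mul_eq_zero.mp key with h | h
  · left
    have h1 : n₁ = q + 2 * r + 1 := by
      have : (n₁ : ℤ) = q + 2 * r + 1 := by linarith
      exact_mod_cast this
    exact ⟨h1, by omega⟩
  · right
    have h1 : n₁ = b := by
      have : (n₁ : ℤ) = b := by linarith
      exact_mod_cast this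
    exact ⟨h1, by omega⟩

theorem coprime_qm1 (P n : ℕ) (hodd : Odd P) (hn : n ∣ (P + 1) ^ 2 + 1) : Nat.Coprime n P := by
  apply Nat.coprime_of_dvd
  intro p hp hpn hpP
  have h1 : p ∣ (P + 1) ^ 2 + 1 := dvd_trans hpn hn
  have e : (P + 1) ^ 2 + 1 = P * (P + 2) + 2 := by ring
  rw [e] at h1
  have h2 : p ∣ 2 := (Nat.dvd_add_right (Dvd.dvd.mul_right hpP _)).mp h1
  have hp2 : p = 2 := (Nat.prime_dvd_prime_iff_eq hp Nat.prime_two).mp h2
  subst hp2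
  obtain ⟨j, hj⟩ := hodd
  omega

end arith

section tori

variable {F : Type*} [Field F] [Fintype F] {m : ℕ} (σ τ : F →+* F)
  (hσ : ∀ x, σ x = x ^ (2 ^ (m + 1)))
  (hσ2 : ∀ x, σ (σ x) = x ^ 2) (hτ : ∀ x, τ x ^ 2 = σ x) (h2 : (2 : F) = 0)

include hσ hσ2 hτ h2 in
theorem S0_fpf_comm (hm : 1 ≤ m) (hF : Fintype.card F = 2 ^ (2 * m + 1)) (z d : Sz F m)
    (hz : z ∈ szS0 F m) (hd1 : d ≠ 1) (hcomm : d * z = z * d) : d ∈ szS0 F m := by
  haveI := Sz_finite σ τ hσ hσ2 hτ h2 hm hF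
  haveI : Finite (suzukiOvoid F m) := (ovoid_finite m).to_subtype
  haveI : Fintype (suzukiOvoid F m) := Fintype.ofFinite _
  have hZ := Sz_zassenhaus σ τ hσ hσ2 hτ h2 hm hF
  exact fpf_comm hZ.2.2.1 (ovoid_odd hF) z d hz hd1 hcomm

include hσ in
theorem S0_ne_one (z : Sz F m) (hz : z ∈ szS0 F m) : z ≠ 1 := by
  rintro rfl
  exact hz (ptO σ hσ none) (one_smul _ _)

theorem S0_conj (z g : Sz F m) (hz : z ∈ szS0 F m) : g * z * g⁻¹ ∈ szS0 F m := by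
  intro P hP
  apply hz (g⁻¹ • P)
  have e : z • g⁻¹ • P = g⁻¹ • (g * z * g⁻¹) • P := by
    rw [← mul_smul, ← mul_smul]
    congr 1
    group
  rw [e, hP]

include hσ hσ2 hτ h2 in
theorem S0_order_prime (hm : 1 ≤ m) (hF : Fintype.card F = 2 ^ (2 * m + 1)) (a : Sz F m)
    (ha : a ∈ szS0 F m) (p : ℕ) [Fact p.Prime] (hap : orderOf a = p) :
    p ≠ 2 ∧ p ∣ Fintype.card F ^ 2 + 1 := by
  haveI := Sz_finite σ τ hσ hσ2 hτ h2 hm hF
  haveI : Finite (suzukiOvoid F m) := (ovoid_finite m).to_subtype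
  haveI : Fintype (suzukiOvoid F m) := Fintype.ofFinite _
  have hapow : a ^ p = 1 := by rw [← hap]; exact pow_orderOf_eq_one a
  have hp2 : p ≠ 2 := by
    rintro rfl
    obtain ⟨c, hc⟩ := invol_has_fixed_point (ovoid_odd hF) a (by rw [← pow_two]; exact hapow)
    exact ha c hc
  refine ⟨hp2, ?_⟩
  have hd : p ∣ Nat.card (Sz F m) := by rw [← hap]; exact orderOf_dvd_natCard a
  rw [card_Sz σ τ hσ hσ2 hτ h2 hm hF, hF] at hd
  rcases prime_cases m p Fact.out hp2 hd with hq | hq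
  · rw [hF]; exact hq
  · exfalso
    have hfac : (Nat.card (Sz F m)).factorization p =
        (Nat.card (szD σ τ hσ hσ2 hτ)).factorization p := by
      rw [card_Sz σ τ hσ hσ2 hτ h2 hm hF, card_szD, hF]
      exact fact_torus m p Fact.out hp2 hq
    obtain ⟨g, hg⟩ := conj_mem_of_sylow (szD σ τ hσ hσ2 hτ) p hfac a 1
      (by rw [pow_one]; exact hapow)
    obtain ⟨κ, hκ⟩ := (mem_szD_iff σ τ hσ hσ2 hτ _).mp hg
    rw [mem_szS0 σ hσ] at ha
    obtain ⟨o, ho⟩ := Sz_pt σ hσ g.1⁻¹ (Subgroup.inv_mem _ g.2) none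
    apply ha o
    have e0 : g.1 * a.1 * g.1⁻¹ = dS σ τ hτ κ := congrArg (fun y : Sz F m => y.1) hκ
    have e : a.1 = g.1⁻¹ * dS σ τ hτ κ * g.1 := by rw [← e0]; group
    rw [e, mul_smul, mul_smul, ← ho, smul_inv_smul, dS_inf]

include hσ hσ2 hτ h2 in
theorem S0_prime (hm : 1 ≤ m) (hF : Fintype.card F = 2 ^ (2 * m + 1)) (z : Sz F m)
    (hz : z ∈ szS0 F m) :
    ∃ (p : ℕ) (z' : Sz F m), p.Prime ∧ p ≠ 2 ∧ p ∣ Fintype.card F ^ 2 + 1 ∧ orderOf z' = p ∧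
      z' ∈ szS0 F m ∧ ∀ c : Sz F m, c * z = z * c → c * z' = z' * c := by
  haveI := Sz_finite σ τ hσ hσ2 hτ h2 hm hF
  have hz1 := S0_ne_one σ hσ z hz
  have hn : orderOf z ≠ 1 := by rwa [Ne, orderOf_eq_one_iff]
  obtain ⟨p, hp, hpd⟩ := Nat.exists_prime_and_dvd hn
  haveI : Fact p.Prime := ⟨hp⟩
  have hzo : orderOf (z ^ (orderOf z / p)) = p :=
    orderOf_pow_orderOf_div (orderOf_pos z).ne' hpd
  have hz'1 : z ^ (orderOf z / p) ≠ 1 := by
    intro h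
    rw [h, orderOf_one] at hzo
    exact hp.one_lt.ne hzo
  have hz' : z ^ (orderOf z / p) ∈ szS0 F m :=
    S0_fpf_comm σ τ hσ hσ2 hτ h2 hm hF z _ hz hz'1
      (Commute.pow_left (Commute.refl z) _).eq
  obtain ⟨hp2, hq⟩ := S0_order_prime σ τ hσ hσ2 hτ h2 hm hF _ hz' p hzo
  exact ⟨p, _, hp, hp2, hq, hzo, hz',
    fun c hc => (Commute.pow_right (show Commute c z from hc) _).eq⟩

include hσ hσ2 hτ h2 in
theorem S0_cyc (hm : 1 ≤ m) (hF : Fintype.card F = 2 ^ (2 * m + 1)) (z : Sz F m)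
    (hz : z ∈ szS0 F m) : IsCyclic (Subgroup.centralizer ({z} : Set (Sz F m))) := by
  haveI := Sz_finite σ τ hσ hσ2 hτ h2 hm hF
  obtain ⟨p, z', hp, hp2, hq, hzo, hz', hcomm⟩ := S0_prime σ τ hσ hσ2 hτ h2 hm hF z hz
  haveI : Fact p.Prime := ⟨hp⟩
  let f : Subgroup.centralizer ({z} : Set (Sz F m)) →* Matrix (Fin 4) (Fin 4) F :=
    { toFun := fun g => g.1.1.1
      map_one' := rfl
      map_mul' := fun _ _ => rfl }
  have hf : Function.Injective f := fun a b h => Subtype.ext (Subtype.ext (Subtype.ext h))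
  refine cent_cyclic hp2 hq z'.1.1 ?_ ?_ f hf ?_
  · have h3 := congrArg (fun u : Sz F m => (u.1.1 : Matrix (Fin 4) (Fin 4) F))
      (show z' ^ p = 1 by rw [← hzo]; exact pow_orderOf_eq_one z')
    simpa using h3
  · intro h
    have : z' = 1 := Subtype.ext (Subtype.ext h)
    rw [this, orderOf_one] at hzo
    exact hp.one_lt.ne hzo
  · intro g
    have e := hcomm g.1 (Subgroup.mem_centralizer_singleton_iff.mp g.2)
    exact congrArg (fun u : Sz F m => (u.1.1 : Matrix (Fin 4) (Fin 4) F)) e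

include hσ hσ2 hτ h2 in
theorem S0_comm (hm : 1 ≤ m) (hF : Fintype.card F = 2 ^ (2 * m + 1)) (z : Sz F m)
    (hz : z ∈ szS0 F m) (a b : Sz F m) (ha : a ∈ Subgroup.centralizer ({z} : Set (Sz F m)))
    (hb : b ∈ Subgroup.centralizer ({z} : Set (Sz F m))) : a * b = b * a := by
  haveI := S0_cyc σ τ hσ hσ2 hτ h2 hm hF z hz
  letI := IsCyclic.commGroup (α := Subgroup.centralizer ({z} : Set (Sz F m)))
  exact congrArg Subtype.val
    (mul_comm (⟨a, ha⟩ : Subgroup.centralizer ({z} : Set (Sz F m))) ⟨b, hb⟩)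

include hσ hσ2 hτ h2 in
theorem S0_cent (hm : 1 ≤ m) (hF : Fintype.card F = 2 ^ (2 * m + 1)) (z : Sz F m)
    (hz : z ∈ szS0 F m) (a : Sz F m) (ha : a ∈ Subgroup.centralizer ({z} : Set (Sz F m)))
    (ha1 : a ≠ 1) :
    a ∈ szS0 F m ∧ Subgroup.centralizer ({a} : Set (Sz F m)) = Subgroup.centralizer {z} := by
  have haz : a * z = z * a := Subgroup.mem_centralizer_singleton_iff.mp ha
  have haS : a ∈ szS0 F m := S0_fpf_comm σ τ hσ hσ2 hτ h2 hm hF z a hz ha1 haz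
  refine ⟨haS, ?_⟩
  have hza : z ∈ Subgroup.centralizer ({a} : Set (Sz F m)) :=
    Subgroup.mem_centralizer_singleton_iff.mpr haz.symm
  have hzz : z ∈ Subgroup.centralizer ({z} : Set (Sz F m)) :=
    Subgroup.mem_centralizer_singleton_iff.mpr rfl
  have haa : a ∈ Subgroup.centralizer ({a} : Set (Sz F m)) :=
    Subgroup.mem_centralizer_singleton_iff.mpr rfl
  ext c
  constructor
  · intro hc
    rw [Subgroup.mem_centralizer_singleton_iff]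
    exact S0_comm σ τ hσ hσ2 hτ h2 hm hF a haS c z hc hza
  · intro hc
    rw [Subgroup.mem_centralizer_singleton_iff]
    exact S0_comm σ τ hσ hσ2 hτ h2 hm hF z hz c a hc ha

include hσ hσ2 hτ h2 in
theorem S0_card (hm : 1 ≤ m) (hF : Fintype.card F = 2 ^ (2 * m + 1)) (z : Sz F m)
    (hz : z ∈ szS0 F m) :
    Nat.card (Subgroup.centralizer ({z} : Set (Sz F m))) ∣ Fintype.card F ^ 2 + 1 ∧
      5 ≤ Nat.card (Subgroup.centralizer ({z} : Set (Sz F m))) := by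
  haveI := Sz_finite σ τ hσ hσ2 hτ h2 hm hF
  have hq3 : Fintype.card F % 3 = 2 := by rw [hF]; exact two_pow_odd_mod_three m
  have hq1 : 1 ≤ Fintype.card F := Fintype.card_pos
  have hprime : ∀ p : ℕ, p.Prime → p ∣ Nat.card (Subgroup.centralizer ({z} : Set (Sz F m))) →
      p ≠ 2 ∧ p ∣ Fintype.card F ^ 2 + 1 := by
    intro p hp hpn
    haveI : Fact p.Prime := ⟨hp⟩
    obtain ⟨a, ha⟩ := exists_prime_orderOf_dvd_card'
      (G := Subgroup.centralizer ({z} : Set (Sz F m))) p hpn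
    have ha1 : a.1 ≠ 1 := by
      intro h
      have : a = 1 := Subtype.ext h
      rw [this, orderOf_one] at ha
      exact hp.one_lt.ne ha
    have haS := (S0_cent σ τ hσ hσ2 hτ h2 hm hF z hz a.1 a.2 ha1).1
    exact S0_order_prime σ τ hσ hσ2 hτ h2 hm hF a.1 haS p (by rw [Subgroup.orderOf_coe]; exact ha)
  have hcop2 : Nat.Coprime (Nat.card (Subgroup.centralizer ({z} : Set (Sz F m))))
      (Fintype.card F ^ 2) := Nat.coprime_of_dvd (fun p hp hpn hpq => by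
    have h3 := hp.dvd_of_dvd_pow hpq
    rw [hF] at h3
    have h4 := hp.dvd_of_dvd_pow h3
    exact (hprime p hp hpn).1 ((Nat.prime_dvd_prime_iff_eq hp Nat.prime_two).mp h4))
  have hcop1 : Nat.Coprime (Nat.card (Subgroup.centralizer ({z} : Set (Sz F m))))
      (Fintype.card F - 1) := Nat.coprime_of_dvd (fun p hp hpn hpq => by
    obtain ⟨hp2, hq⟩ := hprime p hp hpn
    have h3 : p ∣ 2 := by
      have e : Fintype.card F ^ 2 + 1 = (Fintype.card F - 1) * (Fintype.card F + 1) + 2 := by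
        obtain ⟨j, hj⟩ : ∃ j, Fintype.card F = j + 1 := ⟨Fintype.card F - 1, by omega⟩
        rw [hj]
        have : j + 1 - 1 = j := by omega
        rw [this]
        ring
      rw [e] at hq
      exact (Nat.dvd_add_right (Dvd.dvd.mul_right hpq _)).mp hq
    exact hp2 ((Nat.prime_dvd_prime_iff_eq hp Nat.prime_two).mp h3))
  have hdvdG : Nat.card (Subgroup.centralizer ({z} : Set (Sz F m))) ∣ Nat.card (Sz F m) :=
    Subgroup.card_subgroup_dvd_card _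
  rw [card_Sz σ τ hσ hσ2 hτ h2 hm hF] at hdvdG
  have h1 := hcop1.dvd_of_dvd_mul_right hdvdG
  have h2' := hcop2.dvd_of_dvd_mul_left h1
  refine ⟨h2', ?_⟩
  have hn1 : Nat.card (Subgroup.centralizer ({z} : Set (Sz F m))) ≠ 1 := by
    intro h
    rw [Subgroup.card_eq_one] at h
    have hzz : z ∈ Subgroup.centralizer ({z} : Set (Sz F m)) :=
      Subgroup.mem_centralizer_singleton_iff.mpr rfl
    rw [h, Subgroup.mem_bot] at hzz
    exact S0_ne_one σ hσ z hz hzz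
  have hpos : 0 < Nat.card (Subgroup.centralizer ({z} : Set (Sz F m))) := Nat.card_pos
  have hmod3 : (Fintype.card F ^ 2 + 1) % 3 = 2 := by
    rw [Nat.add_mod, Nat.pow_mod, hq3]
  have hmod2 : (Fintype.card F ^ 2 + 1) % 2 = 1 := by
    have e0 : Fintype.card F % 2 = 0 := by
      rw [hF, pow_succ]
      exact Nat.mul_mod_left _ _
    rw [Nat.add_mod, Nat.pow_mod, e0]
  obtain ⟨c, hc⟩ := h2'
  have hodd : Nat.card (Subgroup.centralizer ({z} : Set (Sz F m))) % 2 = 1 := by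
    by_contra hcon
    have h0 : Nat.card (Subgroup.centralizer ({z} : Set (Sz F m))) % 2 = 0 := by omega
    rw [hc, Nat.mul_mod, h0] at hmod2
    simp at hmod2
  have h3 : Nat.card (Subgroup.centralizer ({z} : Set (Sz F m))) % 3 ≠ 0 := by
    intro h0
    rw [hc, Nat.mul_mod, h0] at hmod3
    simp at hmod3
  omega

include hσ hσ2 hτ h2 in
theorem S0_ti (hm : 1 ≤ m) (hF : Fintype.card F = 2 ^ (2 * m + 1)) (z : Sz F m)
    (hz : z ∈ szS0 F m) (g h : Sz F m) (hh : h ∈ Subgroup.centralizer ({z} : Set (Sz F m)))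
    (hh1 : h ≠ 1) (hgh : g * h * g⁻¹ ∈ Subgroup.centralizer ({z} : Set (Sz F m))) :
    g ∈ Subgroup.normalizer ((Subgroup.centralizer ({z} : Set (Sz F m)) : Subgroup (Sz F m)) :
      Set (Sz F m)) := by
  have hgh1 : g * h * g⁻¹ ≠ 1 := fun e => hh1 (conj_eq_one_iff.mp e)
  have e1 := (S0_cent σ τ hσ hσ2 hτ h2 hm hF z hz h hh hh1).2
  have e2 := (S0_cent σ τ hσ hσ2 hτ h2 hm hF z hz _ hgh hgh1).2
  rw [Subgroup.mem_normalizer_iff]
  intro x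
  have key : x ∈ Subgroup.centralizer ({h} : Set (Sz F m)) ↔
      g * x * g⁻¹ ∈ Subgroup.centralizer ({g * h * g⁻¹} : Set (Sz F m)) := by
    rw [Subgroup.mem_centralizer_singleton_iff, Subgroup.mem_centralizer_singleton_iff]
    constructor
    · intro hx
      calc g * x * g⁻¹ * (g * h * g⁻¹) = g * (x * h) * g⁻¹ := by group
        _ = g * (h * x) * g⁻¹ := by rw [hx]
        _ = _ := by group
    · intro hx
      have e3 : g * (x * h) * g⁻¹ = g * (h * x) * g⁻¹ := by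
        calc g * (x * h) * g⁻¹ = g * x * g⁻¹ * (g * h * g⁻¹) := by group
          _ = g * h * g⁻¹ * (g * x * g⁻¹) := hx
          _ = _ := by group
      exact mul_left_cancel (mul_right_cancel e3)
  rw [e1, e2] at key
  exact key

include hσ hσ2 hτ h2 in
theorem S0_tiSet (hm : 1 ≤ m) (hF : Fintype.card F = 2 ^ (2 * m + 1)) (z : Sz F m)
    (hz : z ∈ szS0 F m) : tiSet (Subgroup.centralizer ({z} : Set (Sz F m))) ⊆ szS0 F m := by
  rintro x ⟨hx1, g, hg⟩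
  have hgx1 : g * x * g⁻¹ ≠ 1 := fun e => hx1 (conj_eq_one_iff.mp e)
  have h3 := (S0_cent σ τ hσ hσ2 hτ h2 hm hF z hz _ hg hgx1).1
  have h4 := S0_conj _ g⁻¹ h3
  have e : g⁻¹ * (g * x * g⁻¹) * g⁻¹⁻¹ = x := by group
  rw [e] at h4
  exact h4

include hσ hσ2 hτ h2 in
theorem S0_count (hm : 1 ≤ m) (hF : Fintype.card F = 2 ^ (2 * m + 1)) (z : Sz F m)
    (hz : z ∈ szS0 F m) :
    (tiSet (Subgroup.centralizer ({z} : Set (Sz F m)))).ncard *
      Nat.card (Subgroup.normalizer ((Subgroup.centralizer ({z} : Set (Sz F m)) :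
        Subgroup (Sz F m)) : Set (Sz F m))) =
      Nat.card (Sz F m) * (Nat.card (Subgroup.centralizer ({z} : Set (Sz F m))) - 1) := by
  haveI := Sz_finite σ τ hσ hσ2 hτ h2 hm hF
  apply ti_count
  · intro n hn h hh
    exact (Subgroup.mem_normalizer_iff.mp hn h).mp hh
  · intro g h hh hh1 hgh
    exact S0_ti σ τ hσ hσ2 hτ h2 hm hF z hz g h hh hh1 hgh

include hσ hσ2 hτ h2 in
theorem S0_disj (hm : 1 ≤ m) (hF : Fintype.card F = 2 ^ (2 * m + 1)) (z₁ z₂ : Sz F m)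
    (hz₁ : z₁ ∈ szS0 F m) (hz₂ : z₂ ∈ szS0 F m)
    (hn : z₂ ∉ tiSet (Subgroup.centralizer ({z₁} : Set (Sz F m)))) :
    Disjoint (tiSet (Subgroup.centralizer ({z₁} : Set (Sz F m))))
      (tiSet (Subgroup.centralizer ({z₂} : Set (Sz F m)))) := by
  rw [Set.disjoint_left]
  rintro x ⟨hx1, g₁, hg₁⟩ ⟨-, g₂, hg₂⟩
  apply hn
  refine ⟨S0_ne_one σ hσ z₂ hz₂, g₁ * g₂⁻¹, ?_⟩
  have hgx1 : g₁ * x * g₁⁻¹ ≠ 1 := fun e => hx1 (conj_eq_one_iff.mp e)
  have e1 := (S0_cent σ τ hσ hσ2 hτ h2 hm hF z₁ hz₁ _ hg₁ hgx1).2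
  rw [← e1, Subgroup.mem_centralizer_singleton_iff]
  have hc : g₂ * x * g₂⁻¹ * z₂ = z₂ * (g₂ * x * g₂⁻¹) :=
    Subgroup.mem_centralizer_singleton_iff.mp hg₂
  have hc' : x * (g₂⁻¹ * z₂ * g₂) = (g₂⁻¹ * z₂ * g₂) * x := by
    have e3 : g₂⁻¹ * (g₂ * x * g₂⁻¹ * z₂) * g₂ = g₂⁻¹ * (z₂ * (g₂ * x * g₂⁻¹)) * g₂ := by rw [hc]
    calc x * (g₂⁻¹ * z₂ * g₂) = g₂⁻¹ * (g₂ * x * g₂⁻¹ * z₂) * g₂ := by group
      _ = g₂⁻¹ * (z₂ * (g₂ * x * g₂⁻¹)) * g₂ := e3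
      _ = _ := by group
  calc g₁ * g₂⁻¹ * z₂ * (g₁ * g₂⁻¹)⁻¹ * (g₁ * x * g₁⁻¹)
      = g₁ * ((g₂⁻¹ * z₂ * g₂) * x) * g₁⁻¹ := by group
    _ = g₁ * (x * (g₂⁻¹ * z₂ * g₂)) * g₁⁻¹ := by rw [hc']
    _ = _ := by group

include hσ hσ2 hτ h2 in
theorem S0_norm_le (hm : 1 ≤ m) (hF : Fintype.card F = 2 ^ (2 * m + 1)) (z : Sz F m)
    (hz : z ∈ szS0 F m) :
    Nat.card (Subgroup.normalizer ((Subgroup.centralizer ({z} : Set (Sz F m)) :
        Subgroup (Sz F m)) : Set (Sz F m))) ≤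
      4 * Nat.card (Subgroup.centralizer ({z} : Set (Sz F m))) := by
  haveI := Sz_finite σ τ hσ hσ2 hτ h2 hm hF
  haveI : Fintype (Sz F m) := Fintype.ofFinite _
  obtain ⟨p, z', hp, hp2, hq, hzo, hz', hcomm⟩ := S0_prime σ τ hσ hσ2 hτ h2 hm hF z hz
  haveI : Fact p.Prime := ⟨hp⟩
  haveI := S0_cyc σ τ hσ hσ2 hτ h2 hm hF z hz
  obtain ⟨a₀, ha₀⟩ := IsCyclic.exists_monoid_generator
    (α := Subgroup.centralizer ({z} : Set (Sz F m)))
  have hzz : z ∈ Subgroup.centralizer ({z} : Set (Sz F m)) :=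
    Subgroup.mem_centralizer_singleton_iff.mpr rfl
  have ha₀1 : a₀.1 ≠ 1 := by
    intro h
    have h1 : a₀ = 1 := Subtype.ext h
    obtain ⟨k, hk⟩ := (Submonoid.mem_powers_iff _ _).mp (ha₀ ⟨z, hzz⟩)
    rw [h1, one_pow] at hk
    have : z = 1 := (congrArg Subtype.val hk).symm
    exact S0_ne_one σ hσ z hz this
  have hcent := (S0_cent σ τ hσ hσ2 hτ h2 hm hF z hz a₀.1 a₀.2 ha₀1).2
  let s : Finset (Sz F m) := Finset.univ.filter (fun n => n ∈ Subgroup.normalizer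
    ((Subgroup.centralizer ({z} : Set (Sz F m)) : Subgroup (Sz F m)) : Set (Sz F m)))
  let f : Sz F m → Matrix (Fin 4) (Fin 4) F := fun n => (n * a₀.1 * n⁻¹).1.1
  have hs : s.card = Nat.card (Subgroup.normalizer
      ((Subgroup.centralizer ({z} : Set (Sz F m)) : Subgroup (Sz F m)) : Set (Sz F m))) := by
    rw [Nat.card_eq_fintype_card, Fintype.card_subtype]
  have hA : (Finset.univ.filter (fun n : Sz F m => n ∈ Subgroup.centralizer
      ({z} : Set (Sz F m)))).card = Nat.card (Subgroup.centralizer ({z} : Set (Sz F m))) := by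
    rw [Nat.card_eq_fintype_card, Fintype.card_subtype]
  have hfib : ∀ y ∈ s.image f, (s.filter (fun n => f n = y)).card ≤
      Nat.card (Subgroup.centralizer ({z} : Set (Sz F m))) := by
    intro y hy
    obtain ⟨n₀, hn₀, rfl⟩ := Finset.mem_image.mp hy
    rw [← hA]
    apply Finset.card_le_card_of_injOn (fun n => n₀⁻¹ * n)
    · intro n hn
      have hn' := (Finset.mem_filter.mp (Finset.mem_coe.mp hn)).2
      have e : n * a₀.1 * n⁻¹ = n₀ * a₀.1 * n₀⁻¹ := Subtype.ext (Subtype.ext hn')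
      have e' : n₀⁻¹ * n * a₀.1 = a₀.1 * (n₀⁻¹ * n) := by
        calc n₀⁻¹ * n * a₀.1 = n₀⁻¹ * (n * a₀.1 * n⁻¹) * n := by group
          _ = n₀⁻¹ * (n₀ * a₀.1 * n₀⁻¹) * n := by rw [e]
          _ = _ := by group
      refine Finset.mem_coe.mpr (Finset.mem_filter.mpr ⟨Finset.mem_univ _, ?_⟩)
      rw [← hcent]
      exact Subgroup.mem_centralizer_singleton_iff.mpr e'
    · intro n _ n' _ h
      exact mul_left_cancel h
  have hbound := Finset.card_le_mul_card_image s _ hfib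
  have himg : (s.image f).card ≤ 4 := by
    apply root_bound hp2 hq z'.1.1 ?_ ?_ (Matrix.charpoly (a₀.1.1.1 : Matrix (Fin 4) (Fin 4) F))
      (Matrix.charpoly_monic _) ?_ (s.image f)
    · intro y hy
      obtain ⟨n, hn, rfl⟩ := Finset.mem_image.mp hy
      have hnN := (Finset.mem_filter.mp hn).2
      have hmem : n * a₀.1 * n⁻¹ ∈ Subgroup.centralizer ({z} : Set (Sz F m)) :=
        (Subgroup.mem_normalizer_iff.mp hnN a₀.1).mp a₀.2
      constructor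
      · have e := hcomm _ (Subgroup.mem_centralizer_singleton_iff.mp hmem)
        exact congrArg (fun u : Sz F m => (u.1.1 : Matrix (Fin 4) (Fin 4) F)) e
      · have e1 : f n = n.1.1 * (a₀.1.1.1 * n⁻¹.1.1) := by
          show (n * a₀.1 * n⁻¹).1.1 = _
          rw [mul_assoc]
          rfl
        have e2 : (a₀.1.1.1 * n⁻¹.1.1) * n.1.1 = (a₀.1.1.1 : Matrix (Fin 4) (Fin 4) F) := by
          have e3 : (n⁻¹.1.1 * n.1.1 : Matrix (Fin 4) (Fin 4) F) = 1 := by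
            have := congrArg (fun u : Sz F m => (u.1.1 : Matrix (Fin 4) (Fin 4) F))
              (inv_mul_cancel n)
            exact this
          rw [mul_assoc, e3, mul_one]
        have e4 : (f n).charpoly = (a₀.1.1.1 : Matrix (Fin 4) (Fin 4) F).charpoly := by
          rw [e1, Matrix.charpoly_mul_comm, e2]
        rw [← e4]
        exact Matrix.aeval_self_charpoly _
    · have h3 := congrArg (fun u : Sz F m => (u.1.1 : Matrix (Fin 4) (Fin 4) F))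
        (show z' ^ p = 1 by rw [← hzo]; exact pow_orderOf_eq_one z')
      simpa using h3
    · intro h
      have : z' = 1 := Subtype.ext (Subtype.ext h)
      rw [this, orderOf_one] at hzo
      exact hp.one_lt.ne hzo
    · rw [Matrix.charpoly_natDegree_eq_dim]
      rfl
  rw [← hs]
  calc s.card ≤ Nat.card (Subgroup.centralizer ({z} : Set (Sz F m))) * (s.image f).card := hbound
    _ ≤ Nat.card (Subgroup.centralizer ({z} : Set (Sz F m))) * 4 := Nat.mul_le_mul_left _ himg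
    _ = _ := by ring

include hσ hσ2 hτ h2 in
theorem S0_norm (hm : 1 ≤ m) (hF : Fintype.card F = 2 ^ (2 * m + 1)) (z : Sz F m)
    (hz : z ∈ szS0 F m) :
    ∃ e : ℕ, (e = 1 ∨ e = 2 ∨ e = 4) ∧
      Nat.card (Subgroup.normalizer ((Subgroup.centralizer ({z} : Set (Sz F m)) :
        Subgroup (Sz F m)) : Set (Sz F m))) =
      e * Nat.card (Subgroup.centralizer ({z} : Set (Sz F m))) := by
  haveI := Sz_finite σ τ hσ hσ2 hτ h2 hm hF
  have hle := S0_norm_le σ τ hσ hσ2 hτ h2 hm hF z hz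
  obtain ⟨e, he⟩ := Subgroup.card_dvd_of_le (Subgroup.le_normalizer
    (H := Subgroup.centralizer ({z} : Set (Sz F m))))
  have hApos : 0 < Nat.card (Subgroup.centralizer ({z} : Set (Sz F m))) := Nat.card_pos
  have hNpos : 0 < Nat.card (Subgroup.normalizer ((Subgroup.centralizer ({z} : Set (Sz F m)) :
        Subgroup (Sz F m)) : Set (Sz F m))) := Nat.card_pos
  have hdvdG : Nat.card (Subgroup.normalizer ((Subgroup.centralizer ({z} : Set (Sz F m)) :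
        Subgroup (Sz F m)) : Set (Sz F m))) ∣ Nat.card (Sz F m) :=
    Subgroup.card_subgroup_dvd_card _
  have hq3 : Fintype.card F % 3 = 2 := by rw [hF]; exact two_pow_odd_mod_three m
  have hq1 : 1 ≤ Fintype.card F := Fintype.card_pos
  have hG3 : Nat.card (Sz F m) % 3 = 2 := by
    rw [card_Sz σ τ hσ hσ2 hτ h2 hm hF]
    obtain ⟨j, hj⟩ : ∃ j, Fintype.card F = j + 1 := ⟨Fintype.card F - 1, by omega⟩
    have hj3 : j % 3 = 1 := by omega
    have e1 : Fintype.card F - 1 = j := by omega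
    rw [e1, Nat.mul_mod, Nat.mul_mod (Fintype.card F ^ 2), Nat.add_mod, Nat.pow_mod, hq3, hj3]
  have he4 : e ≤ 4 := by
    rw [he] at hle
    by_contra hcon
    have : 5 ≤ e := by omega
    nlinarith
  have he0 : e ≠ 0 := by
    rintro rfl
    rw [mul_zero] at he
    omega
  have he3 : e ≠ 3 := by
    rintro rfl
    have h3 : 3 ∣ Nat.card (Sz F m) := dvd_trans (Dvd.intro_left _ he.symm) hdvdG
    omega
  refine ⟨e, ?_, by rw [he, mul_comm]⟩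
  omega

include hσ hσ2 hτ h2 in
theorem S0_coprime (hm : 1 ≤ m) (hF : Fintype.card F = 2 ^ (2 * m + 1)) (z₁ z₂ : Sz F m)
    (hz₁ : z₁ ∈ szS0 F m) (hz₂ : z₂ ∈ szS0 F m)
    (hn : z₂ ∉ tiSet (Subgroup.centralizer ({z₁} : Set (Sz F m)))) :
    Nat.Coprime (Nat.card (Subgroup.centralizer ({z₁} : Set (Sz F m))))
      (Nat.card (Subgroup.centralizer ({z₂} : Set (Sz F m)))) := by
  haveI := Sz_finite σ τ hσ hσ2 hτ h2 hm hF
  apply Nat.coprime_of_dvd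
  intro p hp hp1 hp2'
  haveI : Fact p.Prime := ⟨hp⟩
  obtain ⟨a₁, ha₁⟩ := exists_prime_orderOf_dvd_card'
    (G := Subgroup.centralizer ({z₁} : Set (Sz F m))) p hp1
  obtain ⟨a₂, ha₂⟩ := exists_prime_orderOf_dvd_card'
    (G := Subgroup.centralizer ({z₂} : Set (Sz F m))) p hp2'
  have ha₁1 : a₁.1 ≠ 1 := by
    intro h
    have : a₁ = 1 := Subtype.ext h
    rw [this, orderOf_one] at ha₁
    exact hp.one_lt.ne ha₁
  have ha₂1 : a₂.1 ≠ 1 := by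
    intro h
    have : a₂ = 1 := Subtype.ext h
    rw [this, orderOf_one] at ha₂
    exact hp.one_lt.ne ha₂
  have ho₁ : orderOf a₁.1 = p := by rw [Subgroup.orderOf_coe]; exact ha₁
  have ho₂ : orderOf a₂.1 = p := by rw [Subgroup.orderOf_coe]; exact ha₂
  obtain ⟨haS₁, hc₁⟩ := S0_cent σ τ hσ hσ2 hτ h2 hm hF z₁ hz₁ a₁.1 a₁.2 ha₁1
  obtain ⟨haS₂, hc₂⟩ := S0_cent σ τ hσ hσ2 hτ h2 hm hF z₂ hz₂ a₂.1 a₂.2 ha₂1
  have hpne2 := (S0_order_prime σ τ hσ hσ2 hτ h2 hm hF a₁.1 haS₁ p ho₁).1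
  have hpg₁ : IsPGroup p (Subgroup.zpowers a₁.1) :=
    IsPGroup.of_card (n := 1) (by rw [Nat.card_zpowers, ho₁, pow_one])
  have hpg₂ : IsPGroup p (Subgroup.zpowers a₂.1) :=
    IsPGroup.of_card (n := 1) (by rw [Nat.card_zpowers, ho₂, pow_one])
  obtain ⟨P, hP⟩ := hpg₁.exists_le_sylow
  obtain ⟨Q, hQ⟩ := hpg₂.exists_le_sylow
  obtain ⟨g, hg⟩ := MulAction.exists_smul_eq (Sz F m) Q P
  have hmem : g * a₂.1 * g⁻¹ ∈ (P : Subgroup (Sz F m)) := by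
    have h1 : MulAut.conj g • a₂.1 ∈ MulAut.conj g • (Q : Subgroup (Sz F m)) :=
      Subgroup.smul_mem_pointwise_smul a₂.1 _ _ (hQ (Subgroup.mem_zpowers _))
    rw [← Sylow.coe_subgroup_smul, hg] at h1
    simpa [MulAut.smul_def] using h1
  haveI := Sz_sylow_cyclic σ τ hσ hσ2 hτ h2 hm hF p hpne2 P
  letI := IsCyclic.commGroup (α := (P : Subgroup (Sz F m)))
  have hcomm : g * a₂.1 * g⁻¹ * a₁.1 = a₁.1 * (g * a₂.1 * g⁻¹) :=
    congrArg Subtype.val (mul_comm (⟨g * a₂.1 * g⁻¹, hmem⟩ : (P : Subgroup (Sz F m)))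
      ⟨a₁.1, hP (Subgroup.mem_zpowers _)⟩)
  have hmem₁ : g * a₂.1 * g⁻¹ ∈ Subgroup.centralizer ({z₁} : Set (Sz F m)) := by
    rw [← hc₁]
    exact Subgroup.mem_centralizer_singleton_iff.mpr hcomm
  have hne1 : g * a₂.1 * g⁻¹ ≠ 1 := fun e => ha₂1 (conj_eq_one_iff.mp e)
  have hc₃ := (S0_cent σ τ hσ hσ2 hτ h2 hm hF z₁ hz₁ _ hmem₁ hne1).2
  apply hn
  refine ⟨S0_ne_one σ hσ z₂ hz₂, g, ?_⟩
  rw [← hc₃, Subgroup.mem_centralizer_singleton_iff]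
  have hz₂a : z₂ * a₂.1 = a₂.1 * z₂ :=
    (Subgroup.mem_centralizer_singleton_iff.mp a₂.2).symm
  calc g * z₂ * g⁻¹ * (g * a₂.1 * g⁻¹) = g * (z₂ * a₂.1) * g⁻¹ := by group
    _ = g * (a₂.1 * z₂) * g⁻¹ := by rw [hz₂a]
    _ = _ := by group

include hσ hσ2 hτ h2 in
/-- the class data of a fixed-point-free element -/
theorem S0_data (hm : 1 ≤ m) (hF : Fintype.card F = 2 ^ (2 * m + 1)) (P : ℕ)
    (hP : Fintype.card F = P + 1) (z : Sz F m) (hz : z ∈ szS0 F m) :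
    ∃ k e c : ℕ, 4 ≤ k ∧ (e = 1 ∨ e = 2 ∨ e = 4) ∧
      Nat.card (Subgroup.centralizer ({z} : Set (Sz F m))) = k + 1 ∧
      (k + 1) * c = (P + 1) ^ 2 + 1 ∧
      Nat.card (Subgroup.normalizer ((Subgroup.centralizer ({z} : Set (Sz F m)) :
        Subgroup (Sz F m)) : Set (Sz F m))) = e * (k + 1) ∧
      (tiSet (Subgroup.centralizer ({z} : Set (Sz F m)))).ncard * (e * (k + 1)) =
        (P + 1) ^ 2 * ((P + 1) ^ 2 + 1) * P * k := by
  obtain ⟨hdvd, h5⟩ := S0_card σ τ hσ hσ2 hτ h2 hm hF z hz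
  obtain ⟨e, he, hN⟩ := S0_norm σ τ hσ hσ2 hτ h2 hm hF z hz
  have hcount := S0_count σ τ hσ hσ2 hτ h2 hm hF z hz
  obtain ⟨k, hk⟩ : ∃ k, Nat.card (Subgroup.centralizer ({z} : Set (Sz F m))) = k + 1 :=
    ⟨Nat.card (Subgroup.centralizer ({z} : Set (Sz F m))) - 1, by omega⟩
  rw [hk] at hdvd hN hcount h5
  rw [hP] at hdvd
  obtain ⟨c, hc⟩ := hdvd
  rw [hN, card_Sz σ τ hσ hσ2 hτ h2 hm hF, hP] at hcount
  have e1 : P + 1 - 1 = P := by omega
  have e2 : k + 1 - 1 = k := by omega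
  rw [e1, e2] at hcount
  exact ⟨k, e, c, by omega, he, hk, hc.symm, hN, hcount⟩

include hσ hσ2 hτ h2 in
/-- the two classes of cyclic Hall subgroups acting without fixed points -/
theorem Sz_tori (hm : 1 ≤ m) (hF : Fintype.card F = 2 ^ (2 * m + 1)) :
    ∃ z₁ z₂ : Sz F m, z₁ ∈ szS0 F m ∧ z₂ ∈ szS0 F m ∧
      Nat.card (Subgroup.centralizer ({z₁} : Set (Sz F m))) =
        2 ^ (2 * m + 1) + 2 ^ (m + 1) + 1 ∧
      Nat.card (Subgroup.centralizer ({z₂} : Set (Sz F m))) =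
        2 ^ (2 * m + 1) - 2 ^ (m + 1) + 1 ∧
      Nat.card (Subgroup.normalizer ((Subgroup.centralizer ({z₁} : Set (Sz F m)) :
        Subgroup (Sz F m)) : Set (Sz F m))) =
        4 * Nat.card (Subgroup.centralizer ({z₁} : Set (Sz F m))) ∧
      Nat.card (Subgroup.normalizer ((Subgroup.centralizer ({z₂} : Set (Sz F m)) :
        Subgroup (Sz F m)) : Set (Sz F m))) =
        4 * Nat.card (Subgroup.centralizer ({z₂} : Set (Sz F m))) ∧
      Nat.Coprime (Nat.card (Subgroup.centralizer ({z₁} : Set (Sz F m))))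
        (Nat.card (Subgroup.centralizer ({z₂} : Set (Sz F m)))) ∧
      szS0 F m = tiSet (Subgroup.centralizer ({z₁} : Set (Sz F m))) ∪
        tiSet (Subgroup.centralizer ({z₂} : Set (Sz F m))) := by
  haveI := Sz_finite σ τ hσ hσ2 hτ h2 hm hF
  have hF8 : 2 ^ 3 ≤ Fintype.card F := by
    rw [hF]
    exact Nat.pow_le_pow_right (by norm_num) (by omega)
  obtain ⟨P, hP⟩ : ∃ P, Fintype.card F = P + 1 := ⟨Fintype.card F - 1, by omega⟩
  have hP7 : 7 ≤ P := by omega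
  have hPodd : Odd P := by
    have : Fintype.card F % 2 = 0 := by
      rw [hF, pow_succ]
      exact Nat.mul_mod_left _ _
    exact Nat.odd_iff.mpr (by omega)
  have hS := card_szS0 σ τ hσ hσ2 hτ h2 hm hF
  rw [hP] at hS
  have e1 : P + 1 - 1 = P := by omega
  rw [e1] at hS
  have hSpos : 0 < (szS0 F m).ncard := by
    have : 0 < (P + 1) ^ 3 * P ^ 2 := by positivity
    omega
  obtain ⟨z₁, hz₁⟩ := (Set.ncard_pos).mp hSpos
  obtain ⟨k₁, e₁, c₁, hk₁, he₁, hn₁, hc₁, hN₁, ht₁⟩ :=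
    S0_data σ τ hσ hσ2 hτ h2 hm hF P hP z₁ hz₁
  have hsub₁ := S0_tiSet σ τ hσ hσ2 hτ h2 hm hF z₁ hz₁
  have hex₂ : ∃ z₂, z₂ ∈ szS0 F m ∧ z₂ ∉ tiSet (Subgroup.centralizer ({z₁} : Set (Sz F m))) := by
    by_contra hcon
    have heq : tiSet (Subgroup.centralizer ({z₁} : Set (Sz F m))) = szS0 F m := by
      apply Set.Subset.antisymm hsub₁
      intro x hx
      by_contra hx'
      exact hcon ⟨x, hx, hx'⟩
    rw [heq] at ht₁
    exact ar_C P k₁ e₁ c₁ _ hP7 hk₁ hc₁ he₁ hS ht₁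
  obtain ⟨z₂, hz₂, hz₂n⟩ := hex₂
  obtain ⟨k₂, e₂, c₂, hk₂, he₂, hn₂, hc₂, hN₂, ht₂⟩ :=
    S0_data σ τ hσ hσ2 hτ h2 hm hF P hP z₂ hz₂
  have hsub₂ := S0_tiSet σ τ hσ hσ2 hτ h2 hm hF z₂ hz₂
  have hdisj := S0_disj σ τ hσ hσ2 hτ h2 hm hF z₁ z₂ hz₁ hz₂ hz₂n
  have hcop := S0_coprime σ τ hσ hσ2 hτ h2 hm hF z₁ z₂ hz₁ hz₂ hz₂n
  have hB := ar_B P hP7
  have hG₁ := ar_A _ e₁ k₁ _ hk₁ (by rcases he₁ with h | h | h <;> omega) ht₁
  have hG₂ := ar_A _ e₂ k₂ _ hk₂ (by rcases he₂ with h | h | h <;> omega) ht₂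
  have hunion : szS0 F m = tiSet (Subgroup.centralizer ({z₁} : Set (Sz F m))) ∪
      tiSet (Subgroup.centralizer ({z₂} : Set (Sz F m))) := by
    apply Set.Subset.antisymm _ (Set.union_subset hsub₁ hsub₂)
    intro z₃ hz₃
    by_contra hz₃n
    have hz₃n₁ : z₃ ∉ tiSet (Subgroup.centralizer ({z₁} : Set (Sz F m))) :=
      fun h => hz₃n (Or.inl h)
    have hz₃n₂ : z₃ ∉ tiSet (Subgroup.centralizer ({z₂} : Set (Sz F m))) :=
      fun h => hz₃n (Or.inr h)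
    obtain ⟨k₃, e₃, c₃, hk₃, he₃, hn₃, hc₃, hN₃, ht₃⟩ :=
      S0_data σ τ hσ hσ2 hτ h2 hm hF P hP z₃ hz₃
    have hsub₃ := S0_tiSet σ τ hσ hσ2 hτ h2 hm hF z₃ hz₃
    have hdisj₁₃ := S0_disj σ τ hσ hσ2 hτ h2 hm hF z₁ z₃ hz₁ hz₃ hz₃n₁
    have hdisj₂₃ := S0_disj σ τ hσ hσ2 hτ h2 hm hF z₂ z₃ hz₂ hz₃ hz₃n₂
    have hG₃ := ar_A _ e₃ k₃ _ hk₃ (by rcases he₃ with h | h | h <;> omega) ht₃
    have hdisj' : Disjoint (tiSet (Subgroup.centralizer ({z₁} : Set (Sz F m))) ∪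
        tiSet (Subgroup.centralizer ({z₂} : Set (Sz F m))))
        (tiSet (Subgroup.centralizer ({z₃} : Set (Sz F m)))) :=
      Set.disjoint_union_left.mpr ⟨hdisj₁₃, hdisj₂₃⟩
    have hle : (tiSet (Subgroup.centralizer ({z₁} : Set (Sz F m))) ∪
        tiSet (Subgroup.centralizer ({z₂} : Set (Sz F m))) ∪
        tiSet (Subgroup.centralizer ({z₃} : Set (Sz F m)))).ncard ≤ (szS0 F m).ncard :=
      Set.ncard_le_ncard (Set.union_subset (Set.union_subset hsub₁ hsub₂) hsub₃)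
    rw [Set.ncard_union_eq hdisj', Set.ncard_union_eq hdisj] at hle
    omega
  have hsum : (tiSet (Subgroup.centralizer ({z₁} : Set (Sz F m)))).ncard +
      (tiSet (Subgroup.centralizer ({z₂} : Set (Sz F m)))).ncard = (szS0 F m).ncard := by
    rw [hunion, Set.ncard_union_eq hdisj]
  have he₁4 : e₁ = 4 := by
    by_contra hne
    have hG₁' := ar_A' _ e₁ k₁ _ hk₁ (by rcases he₁ with h | h | h <;> omega) ht₁
    omega
  have he₂4 : e₂ = 4 := by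
    by_contra hne
    have hG₂' := ar_A' _ e₂ k₂ _ hk₂ (by rcases he₂ with h | h | h <;> omega) ht₂
    omega
  subst he₁4
  subst he₂4
  have hD := ar_D P k₁ k₂ _ _ hP7 ht₁ ht₂ (by rw [hsum]; exact hS)
  rw [hn₁, hn₂] at hcop
  obtain ⟨hprod, hsum'⟩ := ar_E P (k₁ + 1) (k₂ + 1) (by omega) (by omega) hcop
    (Dvd.intro _ hc₁) (Dvd.intro _ hc₂) hPodd hD
  have hq : P + 1 = 2 * 2 ^ m * 2 ^ m := by
    rw [← hP, hF, show 2 * m + 1 = m + m + 1 by ring, pow_succ, pow_add]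
    ring
  have hr1 : 1 ≤ 2 ^ m := Nat.one_le_two_pow
  have hrr : 2 ^ m ≤ 2 ^ m * 2 ^ m := Nat.le_mul_of_pos_left _ (by omega)
  have hqF : 2 ^ (2 * m + 1) = P + 1 := by rw [← hF, hP]
  have h2r : 2 ^ (m + 1) = 2 * 2 ^ m := by rw [pow_succ]; ring
  have hb : (2 ^ (2 * m + 1) - 2 ^ (m + 1) + 1) + 2 * 2 ^ m = P + 1 + 1 := by
    rw [hqF, h2r]
    have : 2 * 2 ^ m ≤ P + 1 := by rw [hq]; nlinarith
    omega
  rcases ar_F (k₁ + 1) (k₂ + 1) (P + 1) (2 ^ m) (2 ^ (2 * m + 1) - 2 ^ (m + 1) + 1) hq hb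
    (by rw [hsum']) hprod with ⟨ha, hb'⟩ | ⟨ha, hb'⟩
  · refine ⟨z₁, z₂, hz₁, hz₂, ?_, ?_, ?_, ?_, ?_, hunion⟩
    · rw [hn₁, ha, hqF, h2r]
    · rw [hn₂, hb']
    · rw [hN₁, hn₁]
    · rw [hN₂, hn₂]
    · rw [hn₁, hn₂]; exact hcop
  · refine ⟨z₂, z₁, hz₂, hz₁, ?_, ?_, ?_, ?_, ?_, ?_⟩
    · rw [hn₂, hb', hqF, h2r]
    · rw [hn₁, ha]
    · rw [hN₂, hn₂]
    · rw [hN₁, hn₁]
    · rw [hn₁, hn₂]; exact hcop.symm
    · rw [hunion, Set.union_comm]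

end tori

section abstractQ

variable {G : Type*} [Group G]

theorem cyc_le_cent (U : Subgroup G) (hU : IsCyclic U) (g : G) (hg : g ∈ U) :
    U ≤ Subgroup.centralizer ({g} : Set G) := by
  intro x hx
  letI := IsCyclic.commGroup (α := U)
  rw [Subgroup.mem_centralizer_singleton_iff]
  exact congrArg Subtype.val (mul_comm (⟨x, hx⟩ : U) ⟨g, hg⟩)

/-- conjugation between centralisers -/
def centConj (c g : G) :
    Subgroup.centralizer ({g} : Set G) ≃* Subgroup.centralizer ({c * g * c⁻¹} : Set G) where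
  toFun x := ⟨c * x.1 * c⁻¹, by
    rw [Subgroup.mem_centralizer_singleton_iff]
    have hx : x.1 * g = g * x.1 := Subgroup.mem_centralizer_singleton_iff.mp x.2
    calc c * x.1 * c⁻¹ * (c * g * c⁻¹) = c * (x.1 * g) * c⁻¹ := by group
      _ = c * (g * x.1) * c⁻¹ := by rw [hx]
      _ = _ := by group⟩
  invFun y := ⟨c⁻¹ * y.1 * c, by
    rw [Subgroup.mem_centralizer_singleton_iff]
    have hy : y.1 * (c * g * c⁻¹) = c * g * c⁻¹ * y.1 :=
      Subgroup.mem_centralizer_singleton_iff.mp y.2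
    calc c⁻¹ * y.1 * c * g = c⁻¹ * (y.1 * (c * g * c⁻¹)) * c := by group
      _ = c⁻¹ * (c * g * c⁻¹ * y.1) * c := by rw [hy]
      _ = _ := by group⟩
  left_inv x := Subtype.ext (by show c⁻¹ * (c * x.1 * c⁻¹) * c = x.1; group)
  right_inv y := Subtype.ext (by show c * (c⁻¹ * y.1 * c) * c⁻¹ = y.1; group)
  map_mul' x y := Subtype.ext (by
    show c * (x.1 * y.1) * c⁻¹ = c * x.1 * c⁻¹ * (c * y.1 * c⁻¹)
    group)

theorem two_odd_absurd (g : G) (hg : g ≠ 1) (P : Subgroup G) (hP : IsPGroup 2 P) (hgP : g ∈ P)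
    (U : Subgroup G) (hU : Odd (Nat.card U)) (hgU : g ∈ U) : False := by
  obtain ⟨j, hj⟩ := hP ⟨g, hgP⟩
  have hj' : g ^ 2 ^ j = 1 := congrArg Subtype.val hj
  have h1 : orderOf g ∣ 2 ^ j := orderOf_dvd_of_pow_eq_one hj'
  have h2 : orderOf g ∣ Nat.card U := Subgroup.orderOf_dvd_natCard U hgU
  have hcop : Nat.Coprime (2 ^ j) (Nat.card U) :=
    Nat.Coprime.pow_left j (Nat.coprime_two_left.mpr hU)
  have h3 : orderOf g = 1 := Nat.eq_one_of_dvd_coprimes hcop h1 h2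
  exact hg (orderOf_eq_one_iff.mp h3)

theorem three_antichain (a b c : ℕ) (ha : 1 < a) (hb : 1 < b) (hc : 1 < c)
    (hab : Nat.Coprime a b) (hac : Nat.Coprime a c) (hbc : Nat.Coprime b c) :
    ∀ x ∈ ({a, b, c} : Set ℕ), ∀ y ∈ ({a, b, c} : Set ℕ), x ∣ y → x = y := by
  rintro x (rfl | rfl | rfl) y (rfl | rfl | rfl) h
  · rfl
  · exact absurd (Nat.Coprime.eq_one_of_dvd hab h) (by omega)
  · exact absurd (Nat.Coprime.eq_one_of_dvd hac h) (by omega)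
  · exact absurd (Nat.Coprime.eq_one_of_dvd hab.symm h) (by omega)
  · rfl
  · exact absurd (Nat.Coprime.eq_one_of_dvd hbc h) (by omega)
  · exact absurd (Nat.Coprime.eq_one_of_dvd hac.symm h) (by omega)
  · exact absurd (Nat.Coprime.eq_one_of_dvd hbc.symm h) (by omega)
  · rfl

theorem part_unique_cyc [Finite G] (g : G) (hg : g ≠ 1) (S : Set ℕ)
    (hS : ∀ a ∈ S, ∀ b ∈ S, a ∣ b → a = b) (hSodd : ∀ a ∈ S, Odd a)
    (hcyc : IsCyclic (Subgroup.centralizer ({g} : Set G)))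
    (hcard : Nat.card (Subgroup.centralizer ({g} : Set G)) ∈ S) :
    ∃! U : Subgroup G, ((∃ P : Sylow 2 G, U = (P : Subgroup G)) ∨
      (IsCyclic U ∧ Nat.card U ∈ S)) ∧ g ∈ U := by
  have hgg : g ∈ Subgroup.centralizer ({g} : Set G) :=
    Subgroup.mem_centralizer_singleton_iff.mpr rfl
  refine ⟨Subgroup.centralizer ({g} : Set G), ⟨Or.inr ⟨hcyc, hcard⟩, hgg⟩, ?_⟩
  rintro U ⟨hU | ⟨hUc, hUcard⟩, hgU⟩
  · obtain ⟨P, rfl⟩ := hU
    exact absurd (two_odd_absurd g hg _ P.isPGroup' hgU _ (hSodd _ hcard) hgg) id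
  · have hle := cyc_le_cent U hUc g hgU
    have hdvd := Subgroup.card_dvd_of_le hle
    have heq := hS _ hUcard _ hcard hdvd
    exact Subgroup.eq_of_le_of_card_ge hle heq.ge

theorem part_unique_syl [Finite G] (g : G) (hg : g ≠ 1) (S : Set ℕ)
    (hSodd : ∀ a ∈ S, Odd a) (P : Sylow 2 G) (hgP : g ∈ P)
    (huniq : ∀ P' : Sylow 2 G, g ∈ P' → P' = P) :
    ∃! U : Subgroup G, ((∃ P : Sylow 2 G, U = (P : Subgroup G)) ∨
      (IsCyclic U ∧ Nat.card U ∈ S)) ∧ g ∈ U := by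
  refine ⟨(P : Subgroup G), ⟨Or.inl ⟨P, rfl⟩, hgP⟩, ?_⟩
  rintro U ⟨hU | ⟨hUc, hUcard⟩, hgU⟩
  · obtain ⟨P', rfl⟩ := hU
    rw [huniq P' hgU]
  · exact absurd (two_odd_absurd g hg _ P.isPGroup' hgP U (hSodd _ hUcard) hgU) id

end abstractQ

section partition

variable {F : Type*} [Field F] [Fintype F] {m : ℕ} (σ τ : F →+* F)
  (hσ : ∀ x, σ x = x ^ (2 ^ (m + 1)))
  (hσ2 : ∀ x, σ (σ x) = x ^ 2) (hτ : ∀ x, τ x ^ 2 = σ x) (h2 : (2 : F) = 0)

include hσ hσ2 hτ h2 in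
theorem Sz_cyclic_tori (hm : 1 ≤ m) (hF : Fintype.card F = 2 ^ (2 * m + 1)) :
    ∀ k ∈ ({2 ^ (2 * m + 1) + 2 ^ (m + 1) + 1, 2 ^ (2 * m + 1) - 2 ^ (m + 1) + 1} : Set ℕ),
      ∃ U : Subgroup (Sz F m), IsCyclic U ∧ Nat.card U = k ∧
        (∀ u ∈ U, u ≠ 1 → Subgroup.centralizer {u} = U) ∧
        Nat.card (Subgroup.normalizer (U : Set (Sz F m))) = 4 * k := by
  obtain ⟨z₁, z₂, hz₁, hz₂, hn₁, hn₂, hN₁, hN₂, hcop, hunion⟩ :=
    Sz_tori σ τ hσ hσ2 hτ h2 hm hF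
  rintro k (rfl | rfl)
  · exact ⟨Subgroup.centralizer ({z₁} : Set (Sz F m)), S0_cyc σ τ hσ hσ2 hτ h2 hm hF z₁ hz₁, hn₁,
      fun u hu hu1 => (S0_cent σ τ hσ hσ2 hτ h2 hm hF z₁ hz₁ u hu hu1).2, by rw [hN₁, hn₁]⟩
  · exact ⟨Subgroup.centralizer ({z₂} : Set (Sz F m)), S0_cyc σ τ hσ hσ2 hτ h2 hm hF z₂ hz₂, hn₂,
      fun u hu hu1 => (S0_cent σ τ hσ hσ2 hτ h2 hm hF z₂ hz₂ u hu hu1).2, by rw [hN₂, hn₂]⟩

include hτ in
/-- `szU` is a TI subgroup with normaliser `szB` -/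
theorem szU_ti (hm : 1 ≤ m) (hF : Fintype.card F = 2 ^ (2 * m + 1)) (g h : Sz F m)
    (hh : h ∈ szU σ hσ hσ2 h2) (hh1 : h ≠ 1) (hgh : g * h * g⁻¹ ∈ szU σ hσ hσ2 h2) :
    g ∈ szB (F := F) m := by
  obtain ⟨a, b, rfl⟩ := (mem_szU_iff σ hσ hσ2 h2 _).mp hh
  obtain ⟨a', b', hab'⟩ := (mem_szU_iff σ hσ hσ2 h2 _).mp hgh
  have hne : ¬ (a' = 0 ∧ b' = 0) := by
    rintro ⟨rfl, rfl⟩
    rw [uG_zero] at hab'
    exact hh1 (conj_eq_one_iff.mp hab')
  have hrel : g.1 * tS σ a b = tS σ a' b' * g.1 := by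
    have e : g * uG σ hσ hσ2 h2 a b = uG σ hσ hσ2 h2 a' b' * g := by rw [← hab']; group
    exact congrArg (fun y : Sz F m => y.1) e
  obtain ⟨o, ho⟩ := Sz_pt σ hσ g.1 g.2 none
  have hfix : tS σ a' b' • pt σ o = pt σ o := by
    rw [← ho, ← mul_smul, ← hrel, mul_smul, tS_inf]
  have ho' := tS_fix σ hσ2 h2 a' b' hne o hfix
  rw [mem_szB σ, ho, ho']

include hσ hσ2 hτ h2 in
/-- every Sylow 2-subgroup is a conjugate of `szU`, and conversely -/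
theorem sylow2_conj (hm : 1 ≤ m) (hF : Fintype.card F = 2 ^ (2 * m + 1)) :
    (∀ P : Sylow 2 (Sz F m), ∃ c : Sz F m, ∀ x, x ∈ P ↔ c * x * c⁻¹ ∈ szU σ hσ hσ2 h2) ∧
    (∀ c : Sz F m, ∃ P : Sylow 2 (Sz F m), ∀ x, x ∈ P ↔ c * x * c⁻¹ ∈ szU σ hσ hσ2 h2) := by
  haveI := Sz_finite σ τ hσ hσ2 hτ h2 hm hF
  have hcard : Nat.card (szU σ hσ hσ2 h2) = 2 ^ (Nat.card (Sz F m)).factorization 2 := by
    rw [card_szU, card_Sz_eq σ τ hσ hσ2 hτ h2 hm hF, fact_two _ _ (odd_part m), hF, ← pow_add]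
    congr 1
    ring
  let P₀ : Sylow 2 (Sz F m) := Sylow.ofCard (szU σ hσ hσ2 h2) hcard
  have key : ∀ (c x : Sz F m), x ∈ ((c • P₀ : Sylow 2 (Sz F m)) : Subgroup (Sz F m)) ↔
      c⁻¹ * x * c ∈ szU σ hσ hσ2 h2 := by
    intro c x
    rw [Sylow.coe_subgroup_smul, Subgroup.mem_pointwise_smul_iff_inv_smul_mem]
    have e : (MulAut.conj c)⁻¹ • x = c⁻¹ * x * c := by
      simp [MulAut.smul_def]
    rw [e]
    rfl
  constructor
  · intro P
    obtain ⟨c, hc⟩ := MulAction.exists_smul_eq (Sz F m) P₀ P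
    refine ⟨c⁻¹, fun x => ?_⟩
    rw [inv_inv, ← key c x, hc]
    rfl
  · intro c
    refine ⟨c⁻¹ • P₀, fun x => ?_⟩
    have := key c⁻¹ x
    rw [inv_inv] at this
    exact this

include hσ hσ2 hτ h2 in
theorem cent_dG (hm : 1 ≤ m) (hF : Fintype.card F = 2 ^ (2 * m + 1)) (κ : Fˣ) (hκ : κ ≠ 1) :
    Subgroup.centralizer ({dG σ τ hσ hσ2 hτ κ} : Set (Sz F m)) = szD σ τ hσ hσ2 hτ := by
  ext h
  rw [Subgroup.mem_centralizer_singleton_iff, mem_szD_iff]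
  constructor
  · intro hc
    have hc' : h.1 * dS σ τ hτ κ = dS σ τ hτ κ * h.1 :=
      congrArg (fun y : Sz F m => y.1) hc
    obtain ⟨μ, hμ⟩ := cent_dS σ τ hσ hσ2 hτ h2 hm hF κ hκ h.1 h.2 hc'
    exact ⟨μ, Subtype.ext hμ⟩
  · rintro ⟨μ, rfl⟩
    rw [← dG_mul, ← dG_mul, mul_comm]

include hσ hσ2 hτ h2 in
/-- the partition of the Suzuki group -/
theorem Sz_partition (hm : 1 ≤ m) (hF : Fintype.card F = 2 ^ (2 * m + 1)) (g : Sz F m)
    (hg : g ≠ 1) :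
    ∃! U : Subgroup (Sz F m), ((∃ P : Sylow 2 (Sz F m), U = (P : Subgroup (Sz F m))) ∨
      (IsCyclic U ∧ Nat.card U ∈ ({2 ^ (2 * m + 1) - 1, 2 ^ (2 * m + 1) + 2 ^ (m + 1) + 1,
        2 ^ (2 * m + 1) - 2 ^ (m + 1) + 1} : Set ℕ))) ∧ g ∈ U := by
  haveI := Sz_finite σ τ hσ hσ2 hτ h2 hm hF
  obtain ⟨z₁, z₂, hz₁, hz₂, hn₁, hn₂, hN₁, hN₂, hcop, hunion⟩ :=
    Sz_tori σ τ hσ hσ2 hτ h2 hm hF
  have hF8 : 2 ^ 3 ≤ Fintype.card F := by
    rw [hF]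
    exact Nat.pow_le_pow_right (by norm_num) (by omega)
  obtain ⟨P, hP⟩ : ∃ P, Fintype.card F = P + 1 := ⟨Fintype.card F - 1, by omega⟩
  have hP7 : 7 ≤ P := by omega
  have hPodd : Odd P := by
    have : Fintype.card F % 2 = 0 := by
      rw [hF, pow_succ]
      exact Nat.mul_mod_left _ _
    exact Nat.odd_iff.mpr (by omega)
  have hqF : 2 ^ (2 * m + 1) = P + 1 := by rw [← hF, hP]
  have hA0 : 2 ^ (2 * m + 1) - 1 = P := by omega
  obtain ⟨hd₁, h5₁⟩ := S0_card σ τ hσ hσ2 hτ h2 hm hF z₁ hz₁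
  obtain ⟨hd₂, h5₂⟩ := S0_card σ τ hσ hσ2 hτ h2 hm hF z₂ hz₂
  rw [hn₁, hP] at hd₁
  rw [hn₂, hP] at hd₂
  rw [hn₁] at h5₁ hcop
  rw [hn₂] at h5₂ hcop
  have hQodd : Odd ((P + 1) ^ 2 + 1) := by
    obtain ⟨j, hj⟩ := hPodd
    exact ⟨2 * (j + 1) ^ 2, by rw [hj]; ring⟩
  have hodd₁ : Odd (2 ^ (2 * m + 1) + 2 ^ (m + 1) + 1) := by
    obtain ⟨c, hc⟩ := hd₁
    rw [hc] at hQodd
    exact (Nat.odd_mul.mp hQodd).1
  have hodd₂ : Odd (2 ^ (2 * m + 1) - 2 ^ (m + 1) + 1) := by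
    obtain ⟨c, hc⟩ := hd₂
    rw [hc] at hQodd
    exact (Nat.odd_mul.mp hQodd).1
  have hcop01 := coprime_qm1 P _ hPodd hd₁
  have hcop02 := coprime_qm1 P _ hPodd hd₂
  have hS := three_antichain (2 ^ (2 * m + 1) - 1) (2 ^ (2 * m + 1) + 2 ^ (m + 1) + 1)
    (2 ^ (2 * m + 1) - 2 ^ (m + 1) + 1) (by omega) (by omega) (by omega)
    (by rw [hA0]; exact hcop01.symm) (by rw [hA0]; exact hcop02.symm) hcop
  have hSodd : ∀ a ∈ ({2 ^ (2 * m + 1) - 1, 2 ^ (2 * m + 1) + 2 ^ (m + 1) + 1,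
        2 ^ (2 * m + 1) - 2 ^ (m + 1) + 1} : Set ℕ), Odd a := by
    rintro a (rfl | rfl | rfl)
    · rw [hA0]; exact hPodd
    · exact hodd₁
    · exact hodd₂
  by_cases hgS : g ∈ szS0 F m
  · -- fixed-point-free
    apply part_unique_cyc g hg _ hS hSodd (S0_cyc σ τ hσ hσ2 hτ h2 hm hF g hgS)
    rw [hunion] at hgS
    rcases hgS with ⟨-, c, hc⟩ | ⟨-, c, hc⟩
    · have hne1 : c * g * c⁻¹ ≠ 1 := fun e => hg (conj_eq_one_iff.mp e)
      have e1 := (S0_cent σ τ hσ hσ2 hτ h2 hm hF z₁ hz₁ _ hc hne1).2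
      rw [Nat.card_congr (centConj c g).toEquiv, e1, hn₁]
      right; left; rfl
    · have hne1 : c * g * c⁻¹ ≠ 1 := fun e => hg (conj_eq_one_iff.mp e)
      have e1 := (S0_cent σ τ hσ hσ2 hτ h2 hm hF z₂ hz₂ _ hc hne1).2
      rw [Nat.card_congr (centConj c g).toEquiv, e1, hn₂]
      right; right; rfl
  · have hex : ∃ o, g.1 • pt σ o = pt σ o := by
      by_contra hcon
      apply hgS
      rw [mem_szS0 σ hσ]
      intro o ho
      exact hcon ⟨o, ho⟩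
    obtain ⟨o, ho⟩ := hex
    rcases fix_cases σ τ hσ hσ2 hτ h2 hm hF g hg o ho with hU | hD
    · -- conjugate into `szU`
      obtain ⟨-, c, hc⟩ := hU
      obtain ⟨hsyl₁, hsyl₂⟩ := sylow2_conj σ τ hσ hσ2 hτ h2 hm hF
      obtain ⟨P₁, hP₁⟩ := hsyl₂ c
      apply part_unique_syl g hg _ hSodd P₁ ((hP₁ g).mpr hc)
      intro P' hgP'
      obtain ⟨c', hc'⟩ := hsyl₁ P'
      have hgc' := (hc' g).mp hgP'
      have hne1 : c * g * c⁻¹ ≠ 1 := fun e => hg (conj_eq_one_iff.mp e)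
      have hB : c' * c⁻¹ ∈ szB (F := F) m := by
        apply szU_ti σ τ hσ hσ2 hτ h2 hm hF (c' * c⁻¹) (c * g * c⁻¹) hc hne1
        have e : c' * c⁻¹ * (c * g * c⁻¹) * (c' * c⁻¹)⁻¹ = c' * g * c'⁻¹ := by group
        rw [e]
        exact hgc'
      have hnorm := szB_le_normalizer σ τ hσ hσ2 hτ h2 hm hF hB
      apply Sylow.ext
      ext x
      have e : c' * c⁻¹ * (c * x * c⁻¹) * (c' * c⁻¹)⁻¹ = c' * x * c'⁻¹ := by group
      have h3 := Subgroup.mem_normalizer_iff.mp hnorm (c * x * c⁻¹)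
      rw [e] at h3
      exact (hc' x).trans (h3.symm.trans (hP₁ x).symm)
    · -- conjugate into the torus
      obtain ⟨-, c, hc⟩ := hD
      obtain ⟨κ, hκ⟩ := (mem_szD_iff σ τ hσ hσ2 hτ _).mp hc
      have hκ1 : κ ≠ 1 := by
        rintro rfl
        rw [dG_one] at hκ
        exact hg (conj_eq_one_iff.mp hκ)
      have e1 := cent_dG σ τ hσ hσ2 hτ h2 hm hF κ hκ1
      rw [← hκ] at e1
      haveI hcycD : IsCyclic (szD σ τ hσ hσ2 hτ) :=
        isCyclic_of_surjective (dHom σ τ hσ hσ2 hτ).rangeRestrict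
          (dHom σ τ hσ hσ2 hτ).rangeRestrict_surjective
      have hcyc : IsCyclic (Subgroup.centralizer ({g} : Set (Sz F m))) := by
        rw [(centConj c g).isCyclic, e1]
        exact hcycD
      apply part_unique_cyc g hg _ hS hSodd hcyc
      rw [Nat.card_congr (centConj c g).toEquiv, e1, card_szD, hP]
      left
      omega

end partition

end

end Cfsg.Agent.Helper3
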