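import Mathlib
import Cfsg.Agent.Helper3.SuzukiP
import Cfsg.Agent.Helper3.SuzukiL

set_option autoImplicit false
set_option linter.unusedSectionVars false
set_option linter.style.haveILetI false
set_option linter.unusedSimpArgs false
set_option linter.unusedVariables false

namespace Cfsg.Agent.Helper3

open scoped Classical Pointwise
open Cfsg Matrix

noncomputable section

section cntAbs

variable {G : Type*} [Group G]

/-- the number of `x` with `x⁻¹ g x ∈ H`; it is `|H|` times the number of fixed points of `g`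
on the cosets of `H` -/
def cnt (H : Subgroup G) (g : G) : ℕ := Nat.card {x : G // x⁻¹ * g * x ∈ H}

theorem cnt_fixed {Ω : Type*} [MulAction G Ω] (htr : MulAction.IsPretransitive G Ω) (α : Ω)
    (g : G) :
    cnt (MulAction.stabilizer G α) g =
      Nat.card (MulAction.fixedBy Ω g) * Nat.card (MulAction.stabilizer G α) := by
  have hr : ∀ β : Ω, ∃ x : G, x • α = β := fun β => MulAction.exists_smul_eq G α β
  choose r hr using hr
  have hmem : ∀ x : G, x⁻¹ * g * x ∈ MulAction.stabilizer G α ↔ g • x • α = x • α := by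
    intro x
    rw [MulAction.mem_stabilizer_iff, mul_smul, mul_smul, inv_smul_eq_iff]
  unfold cnt
  rw [← Nat.card_prod]
  apply Nat.card_congr
  refine
    { toFun := fun x => (⟨x.1 • α, (hmem x.1).mp x.2⟩, ⟨(r (x.1 • α))⁻¹ * x.1, ?_⟩)
      invFun := fun p => ⟨r p.1.1 * p.2.1, ?_⟩
      left_inv := ?_
      right_inv := ?_ }
  · rw [MulAction.mem_stabilizer_iff, mul_smul, inv_smul_eq_iff, hr]
  · rw [hmem, mul_smul]
    have h1 : p.2.1 • α = α := p.2.2
    have h2 : g • p.1.1 = p.1.1 := p.1.2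
    rw [h1, hr, h2]
  · intro x
    apply Subtype.ext
    show r (x.1 • α) * ((r (x.1 • α))⁻¹ * x.1) = x.1
    rw [mul_inv_cancel_left]
  · rintro ⟨⟨β, hβ⟩, ⟨h, hh⟩⟩
    have h1 : h • α = α := hh
    have e1 : (r β * h) • α = β := by rw [mul_smul, h1, hr]
    apply Prod.ext
    · exact Subtype.ext e1
    · apply Subtype.ext
      show (r ((r β * h) • α))⁻¹ * (r β * h) = h
      rw [e1, inv_mul_cancel_left]

theorem cnt_map {G' : Type*} [Group G'] (e : G ≃* G') (H : Subgroup G) (g : G) :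
    cnt (H.map e.toMonoidHom) (e g) = cnt H g := by
  unfold cnt
  apply Nat.card_congr
  symm
  refine Equiv.subtypeEquiv e.toEquiv (fun x => ?_)
  show x⁻¹ * g * x ∈ H ↔ (e x)⁻¹ * e g * e x ∈ H.map e.toMonoidHom
  have e1 : (e x)⁻¹ * e g * e x = e.toMonoidHom (x⁻¹ * g * x) := by
    show _ = e (x⁻¹ * g * x)
    rw [map_mul, map_mul, map_inv]
  rw [e1, Subgroup.mem_map_iff_mem e.injective]

theorem cnt_le_card [Finite G] (H : Subgroup G) (g : G) : cnt H g ≤ Nat.card G := by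
  unfold cnt
  exact Nat.card_le_card_of_injective _ Subtype.val_injective

theorem cnt_ge_prod [Finite G] (H K : Subgroup G) (g : G) (hK : ∀ k ∈ K, k⁻¹ * g * k ∈ H) :
    Nat.card K * Nat.card H ≤ cnt H g * Nat.card (K ⊓ H : Subgroup G) := by
  have hmem : ∀ p : K × H, (p.1.1 * p.2.1)⁻¹ * g * (p.1.1 * p.2.1) ∈ H := by
    intro p
    have e1 : (p.1.1 * p.2.1)⁻¹ * g * (p.1.1 * p.2.1) =
        p.2.1⁻¹ * (p.1.1⁻¹ * g * p.1.1) * p.2.1 := by group
    rw [e1]
    exact H.mul_mem (H.mul_mem (H.inv_mem p.2.2) (hK _ p.1.2)) p.2.2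
  let f : K × H → {x : G // x⁻¹ * g * x ∈ H} := fun p => ⟨p.1.1 * p.2.1, hmem p⟩
  have hinv : ∀ p : K × H, f (Function.invFun f (f p)) = f p :=
    fun p => Function.invFun_eq ⟨p, rfl⟩
  have hinv' : ∀ p : K × H, (Function.invFun f (f p)).1.1 * (Function.invFun f (f p)).2.1 =
      p.1.1 * p.2.1 := fun p => congrArg Subtype.val (hinv p)
  have hj : ∀ p : K × H, ((Function.invFun f (f p)).1.1)⁻¹ * p.1.1 ∈ (K ⊓ H : Subgroup G) := by
    intro p
    constructor
    · exact K.mul_mem (K.inv_mem (Function.invFun f (f p)).1.2) p.1.2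
    · have e1 : ((Function.invFun f (f p)).1.1)⁻¹ * p.1.1 =
          (Function.invFun f (f p)).2.1 * p.2.1⁻¹ := by
        rw [inv_mul_eq_iff_eq_mul, ← mul_assoc, hinv' p, mul_inv_cancel_right]
      show ((Function.invFun f (f p)).1.1)⁻¹ * p.1.1 ∈ H
      rw [e1]
      exact H.mul_mem (Function.invFun f (f p)).2.2 (H.inv_mem p.2.2)
  let Φ : K × H → {x : G // x⁻¹ * g * x ∈ H} × (K ⊓ H : Subgroup G) :=
    fun p => (f p, ⟨((Function.invFun f (f p)).1.1)⁻¹ * p.1.1, hj p⟩)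
  have hΦ : Function.Injective Φ := by
    intro p q hpq
    have h1 : f p = f q := congrArg Prod.fst hpq
    have h2 : ((Function.invFun f (f p)).1.1)⁻¹ * p.1.1 =
        ((Function.invFun f (f q)).1.1)⁻¹ * q.1.1 := congrArg (fun z => z.2.1) hpq
    rw [h1] at h2
    have h3 : p.1.1 = q.1.1 := mul_left_cancel h2
    have h4 : p.1.1 * p.2.1 = q.1.1 * q.2.1 := congrArg Subtype.val h1
    rw [h3] at h4
    have h5 : p.2.1 = q.2.1 := mul_left_cancel h4
    exact Prod.ext (Subtype.ext h3) (Subtype.ext h5)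
  have := Nat.card_le_card_of_injective Φ hΦ
  rw [Nat.card_prod, Nat.card_prod] at this
  exact this

theorem sq_mem_of_card_le [Finite G] (K H : Subgroup G)
    (hcard : Nat.card K ≤ 2 * Nat.card (K ⊓ H : Subgroup G)) (x : G) (hx : x ∈ K) :
    x * x ∈ H := by
  have e1 : Nat.card (H.subgroupOf K) = Nat.card (K ⊓ H : Subgroup G) := by
    rw [← Subgroup.inf_subgroupOf_left H K]
    exact Nat.card_congr (Subgroup.subgroupOfEquivOfLe inf_le_left).toEquiv
  have e2 := Subgroup.index_mul_card (H.subgroupOf K)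
  rw [e1] at e2
  have hpos : 0 < Nat.card (K ⊓ H : Subgroup G) := Nat.card_pos
  have hle : (H.subgroupOf K).index ≤ 2 := by
    by_contra hcon
    have : 3 ≤ (H.subgroupOf K).index := by omega
    nlinarith
  have hne : (H.subgroupOf K).index ≠ 0 := by
    intro h0
    rw [h0, zero_mul] at e2
    have : 0 < Nat.card K := Nat.card_pos
    omega
  have hcase : (H.subgroupOf K).index = 1 ∨ (H.subgroupOf K).index = 2 := by omega
  rcases hcase with h | h
  · rw [Subgroup.index_eq_one] at h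
    have : (⟨x, hx⟩ : K) ∈ H.subgroupOf K := by rw [h]; exact Subgroup.mem_top _
    have hxH : x ∈ H := Subgroup.mem_subgroupOf.mp this
    exact H.mul_mem hxH hxH
  · have := Subgroup.mul_self_mem_of_index_two h (⟨x, hx⟩ : K)
    exact Subgroup.mem_subgroupOf.mp this

theorem le_of_odd_card [Finite G] (K H : Subgroup G) (hodd : Odd (Nat.card K))
    (hcard : Nat.card K ≤ 2 * Nat.card (K ⊓ H : Subgroup G)) : K ≤ H := by
  obtain ⟨j, hj⟩ := Subgroup.card_dvd_of_le (inf_le_left : (K ⊓ H : Subgroup G) ≤ K)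
  have hpos : 0 < Nat.card (K ⊓ H : Subgroup G) := Nat.card_pos
  have hKpos : 0 < Nat.card K := Nat.card_pos
  have hjodd : Odd j := by
    rw [hj] at hodd
    exact (Nat.odd_mul.mp hodd).2
  have hj2 : j ≤ 2 := by
    by_contra hcon
    have : 3 ≤ j := by omega
    nlinarith
  have hj1 : j = 1 := by
    obtain ⟨i, hi⟩ := hjodd
    omega
  rw [hj1, mul_one] at hj
  have : (K ⊓ H : Subgroup G) = K := Subgroup.eq_of_le_of_card_ge inf_le_left hj.le
  rw [← this]
  exact inf_le_right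

end cntAbs

section fix

variable {F : Type*} [Field F] [Fintype F] {m : ℕ} (σ τ : F →+* F)
  (hσ : ∀ x, σ x = x ^ (2 ^ (m + 1)))
  (hσ2 : ∀ x, σ (σ x) = x ^ 2) (hτ : ∀ x, τ x ^ 2 = σ x) (h2 : (2 : F) = 0)

include hσ hσ2 hτ h2 in
/-- the even case in standard position: the stabiliser contains a central involution of `szU` -/
theorem fix2_even_std (hm : 1 ≤ m) (hF : Fintype.card F = 2 ^ (2 * m + 1))
    (H : Subgroup (Sz F m)) (hH : H ≠ ⊤)
    (h1 : ∀ g : Sz F m, g ≠ 1 → cnt H g ≤ 2 * Nat.card H) (β : F) (hβ : β ≠ 0)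
    (ht : uG σ hσ hσ2 h2 0 β ∈ H) : H = szB (F := F) m := by
  haveI := Sz_finite σ τ hσ hσ2 hτ h2 hm hF
  have hF8 : 2 < Fintype.card F := by
    rw [hF]
    calc 2 < 2 ^ 3 := by norm_num
      _ ≤ 2 ^ (2 * m + 1) := Nat.pow_le_pow_right (by norm_num) (by omega)
  have hHpos : 0 < Nat.card H := Nat.card_pos
  have ht1 : uG σ hσ hσ2 h2 0 β ≠ 1 := by
    intro h
    rw [← uG_zero σ hσ hσ2 h2] at h
    exact hβ (uG_inj σ hσ hσ2 h2 _ _ _ _ h).2
  have hb1 := h1 _ ht1
  -- the unipotent radical centralises the involution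
  have hU : ∀ k ∈ szU σ hσ hσ2 h2, k⁻¹ * uG σ hσ hσ2 h2 0 β * k ∈ H := by
    intro k hk
    obtain ⟨a, b, rfl⟩ := (mem_szU_iff σ hσ hσ2 h2 _).mp hk
    have e : (uG σ hσ hσ2 h2 a b)⁻¹ * uG σ hσ hσ2 h2 0 β * uG σ hσ hσ2 h2 a b =
        uG σ hσ hσ2 h2 0 β := by
      rw [mul_assoc, inv_mul_eq_iff_eq_mul, uG_mul, uG_mul]
      congr 1
      · ring
      · simp only [map_zero, zero_mul, mul_zero, add_zero]
        ring
    rw [e]
    exact ht
  have hUc := cnt_ge_prod H (szU σ hσ hσ2 h2) _ hU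
  have hUc' : Nat.card (szU σ hσ hσ2 h2) ≤
      2 * Nat.card (szU σ hσ hσ2 h2 ⊓ H : Subgroup (Sz F m)) := by
    have h3 : Nat.card (szU σ hσ hσ2 h2) * Nat.card H ≤
        2 * Nat.card H * Nat.card (szU σ hσ hσ2 h2 ⊓ H : Subgroup (Sz F m)) :=
      le_trans hUc (Nat.mul_le_mul_right _ hb1)
    have h4 : Nat.card (szU σ hσ hσ2 h2) * Nat.card H ≤
        (2 * Nat.card (szU σ hσ hσ2 h2 ⊓ H : Subgroup (Sz F m))) * Nat.card H := by
      rw [mul_assoc, mul_comm (Nat.card H)] at h3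
      rw [mul_assoc]
      exact h3
    exact Nat.le_of_mul_le_mul_right h4 hHpos
  -- the centre of the unipotent radical lies in `H`
  have hZ : ∀ b : F, uG σ hσ hσ2 h2 0 b ∈ H := by
    intro b
    obtain ⟨a, ha⟩ := norm_surj σ hσ2 b
    have h3 := sq_mem_of_card_le _ H hUc' (uG σ hσ hσ2 h2 a 0)
      ((mem_szU_iff σ hσ hσ2 h2 _).mpr ⟨a, 0, rfl⟩)
    rw [uG_sq] at h3
    have ha' : σ a * a = b := by rw [mul_comm]; exact ha
    rw [ha'] at h3
    exact h3
  -- the Borel subgroup conjugates the involution into `H`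
  have hB : ∀ k ∈ szB (F := F) m, k⁻¹ * uG σ hσ hσ2 h2 0 β * k ∈ H := by
    intro k hk
    obtain ⟨a, b, κ, rfl⟩ := (mem_szB_iff' σ τ hσ hσ2 hτ h2 hm hF _).mp hk
    have e0 : (κ : F) * σ κ * (((κ⁻¹ : Fˣ) : F) * σ ((κ⁻¹ : Fˣ) : F) * β) = β := by
      have h3 : (κ : F) * ((κ⁻¹ : Fˣ) : F) = 1 := by
        rw [← Units.val_mul, mul_inv_cancel, Units.val_one]
      have h4 : σ (κ : F) * σ ((κ⁻¹ : Fˣ) : F) = 1 := by rw [← map_mul, h3, map_one]
      linear_combination (σ (κ : F) * σ ((κ⁻¹ : Fˣ) : F) * β) * h3 + β * h4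
    have e : (uG σ hσ hσ2 h2 a b * dG σ τ hσ hσ2 hτ κ)⁻¹ * uG σ hσ hσ2 h2 0 β *
        (uG σ hσ hσ2 h2 a b * dG σ τ hσ hσ2 hτ κ) =
        uG σ hσ hσ2 h2 0 (((κ⁻¹ : Fˣ) : F) * σ ((κ⁻¹ : Fˣ) : F) * β) := by
      rw [mul_assoc, inv_mul_eq_iff_eq_mul, mul_assoc (uG σ hσ hσ2 h2 a b), dG_uG, e0,
        mul_zero, ← mul_assoc, ← mul_assoc, uG_mul, uG_mul]
      congr 2
      · ring
      · simp only [map_zero, zero_mul, mul_zero, add_zero]
        ring
    rw [e]
    exact hZ _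
  have hBc := cnt_ge_prod H (szB (F := F) m) _ hB
  have hBc' : Nat.card (szB (F := F) m) ≤
      2 * Nat.card (szB (F := F) m ⊓ H : Subgroup (Sz F m)) := by
    have h3 : Nat.card (szB (F := F) m) * Nat.card H ≤
        2 * Nat.card H * Nat.card (szB (F := F) m ⊓ H : Subgroup (Sz F m)) :=
      le_trans hBc (Nat.mul_le_mul_right _ hb1)
    have h4 : Nat.card (szB (F := F) m) * Nat.card H ≤
        (2 * Nat.card (szB (F := F) m ⊓ H : Subgroup (Sz F m))) * Nat.card H := by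
      rw [mul_assoc, mul_comm (Nat.card H)] at h3
      rw [mul_assoc]
      exact h3
    exact Nat.le_of_mul_le_mul_right h4 hHpos
  -- the torus lies in `H`
  have hD : szD σ τ hσ hσ2 hτ ≤ H := by
    intro d hd
    obtain ⟨κ, rfl⟩ := (mem_szD_iff σ τ hσ hσ2 hτ _).mp hd
    have hκ : κ ^ 2 ^ (2 * m) * κ ^ 2 ^ (2 * m) = κ := by
      apply Units.ext
      rw [Units.val_mul, Units.val_pow_eq_pow_val, ← pow_add, ← two_mul, ← pow_succ', ← hF,
        FiniteField.pow_card]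
    have h3 := sq_mem_of_card_le _ H hBc' (dG σ τ hσ hσ2 hτ (κ ^ 2 ^ (2 * m)))
      (dG_mem_szB σ τ hσ hσ2 hτ _)
    rw [← dG_mul, hκ] at h3
    exact h3
  -- an element of `H ∩ szU` outside the centre
  obtain ⟨κ, hκ⟩ := exists_unit_ne_one (F := F) hm hF
  have hx := sq_mem_of_card_le _ H hBc' (uG σ hσ hσ2 h2 1 0 * dG σ τ hσ hσ2 hτ κ)
    (mul_mem (uG_mem_szB σ hσ hσ2 h2 _ _) (dG_mem_szB σ τ hσ hσ2 hτ κ))
  have e : (uG σ hσ hσ2 h2 1 0 * dG σ τ hσ hσ2 hτ κ) *
      (uG σ hσ hσ2 h2 1 0 * dG σ τ hσ hσ2 hτ κ) =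
      uG σ hσ hσ2 h2 (1 + κ * 1) (0 + κ * σ κ * 0 + σ 1 * (κ * 1)) *
        dG σ τ hσ hσ2 hτ (κ * κ) := by
    rw [dG_mul, ← uG_mul, mul_assoc, ← mul_assoc (dG σ τ hσ hσ2 hτ κ), dG_uG]
    group
  rw [e] at hx
  have hx' : uG σ hσ hσ2 h2 (1 + κ * 1) (0 + κ * σ κ * 0 + σ 1 * (κ * 1)) ∈ H := by
    have h3 := H.mul_mem hx (H.inv_mem (hD ((mem_szD_iff σ τ hσ hσ2 hτ _).mpr ⟨κ * κ, rfl⟩)))
    rwa [mul_inv_cancel_right] at h3
  have hne : (1 : F) + κ * 1 ≠ 0 := by
    intro h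
    apply hκ
    apply Units.ext
    show (κ : F) = 1
    linear_combination h - h2
  have hUle : szU σ hσ hσ2 h2 ≤ H := U_gen σ τ hσ hσ2 hτ h2 H hD _ _ hne hx' hF8
  have hBle : szB (F := F) m ≤ H := by
    intro g hg
    obtain ⟨a, b, κ', rfl⟩ := (mem_szB_iff' σ τ hσ hσ2 hτ h2 hm hF _).mp hg
    exact H.mul_mem (hUle ((mem_szU_iff σ hσ hσ2 h2 _).mpr ⟨a, b, rfl⟩))
      (hD ((mem_szD_iff σ τ hσ hσ2 hτ _).mpr ⟨κ', rfl⟩))
  have hco := szB_coatom σ τ hσ hσ2 hτ h2 hm hF
  by_contra hne'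
  exact hH (hco.2 H (lt_of_le_of_ne hBle (Ne.symm hne')))

include hσ hσ2 hτ h2 in
/-- the even case: the stabiliser is a point stabiliser of the ovoid -/
theorem fix2_even (hm : 1 ≤ m) (hF : Fintype.card F = 2 ^ (2 * m + 1))
    (H : Subgroup (Sz F m)) (hH : H ≠ ⊤)
    (h1 : ∀ g : Sz F m, g ≠ 1 → cnt H g ≤ 2 * Nat.card H) (heven : Even (Nat.card H)) :
    ∃ P : suzukiOvoid F m, ∀ x : Sz F m, x ∈ H ↔ x • P = P := by
  haveI := Sz_finite σ τ hσ hσ2 hτ h2 hm hF
  haveI : Finite (suzukiOvoid F m) := (ovoid_finite m).to_subtype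
  haveI : Fintype (suzukiOvoid F m) := Fintype.ofFinite _
  haveI : Fact (Nat.Prime 2) := ⟨Nat.prime_two⟩
  obtain ⟨t, ht⟩ := exists_prime_orderOf_dvd_card' (G := H) 2 heven.two_dvd
  have ht1 : t.1 ≠ 1 := by
    intro h
    have : t = 1 := Subtype.ext h
    rw [this, orderOf_one] at ht
    omega
  have ht2 : t.1 * t.1 = 1 := by
    have h3 : t ^ 2 = 1 := by rw [← ht]; exact pow_orderOf_eq_one t
    rw [pow_two] at h3
    exact congrArg Subtype.val h3
  obtain ⟨c₀, hc₀⟩ := invol_has_fixed_point (ovoid_odd hF) t.1 ht2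
  obtain ⟨o, ho⟩ := (mem_ovoid_iff σ hσ _).mp c₀.2
  have hfix : t.1.1 • pt σ o = pt σ o := by
    rw [← ho]
    exact congrArg Subtype.val hc₀
  have hcase : ∃ (c : Sz F m) (β : F), β ≠ 0 ∧ c * t.1 * c⁻¹ = uG σ hσ hσ2 h2 0 β := by
    rcases fix_cases σ τ hσ hσ2 hτ h2 hm hF t.1 ht1 o hfix with ⟨-, c, hc⟩ | ⟨-, c, hc⟩
    · obtain ⟨a, b, hab⟩ := (mem_szU_iff σ hσ hσ2 h2 _).mp hc
      have hsq : uG σ hσ hσ2 h2 a b * uG σ hσ hσ2 h2 a b = 1 := by
        rw [← hab]
        calc c * t.1 * c⁻¹ * (c * t.1 * c⁻¹) = c * (t.1 * t.1) * c⁻¹ := by group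
          _ = 1 := by rw [ht2]; group
      rw [uG_sq, ← uG_zero σ hσ hσ2 h2] at hsq
      have h3 : σ a * a = 0 := (uG_inj σ hσ hσ2 h2 _ _ _ _ hsq).2
      have ha : a = 0 := by
        rcases mul_eq_zero.mp h3 with h | h
        · rw [hσ] at h
          exact pow_eq_zero_iff (by positivity) |>.mp h
        · exact h
      subst ha
      refine ⟨c, b, ?_, hab⟩
      rintro rfl
      rw [uG_zero] at hab
      exact ht1 (conj_eq_one_iff.mp hab)
    · exfalso
      obtain ⟨κ, hκ⟩ := (mem_szD_iff σ τ hσ hσ2 hτ _).mp hc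
      have hsq : dG σ τ hσ hσ2 hτ κ * dG σ τ hσ hσ2 hτ κ = 1 := by
        rw [← hκ]
        calc c * t.1 * c⁻¹ * (c * t.1 * c⁻¹) = c * (t.1 * t.1) * c⁻¹ := by group
          _ = 1 := by rw [ht2]; group
      rw [← dG_mul, ← dG_one σ τ hσ hσ2 hτ] at hsq
      have h3 : κ * κ = 1 := dG_inj σ τ hσ hσ2 hτ _ _ hsq
      have h4 : (κ : F) * κ = 1 := by rw [← Units.val_mul, h3, Units.val_one]
      have h5 : ((κ : F) + 1) * ((κ : F) + 1) = 0 := by
        linear_combination h4 + ((κ : F) + 1) * h2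
      have h6 : (κ : F) + 1 = 0 := by
        rcases mul_eq_zero.mp h5 with h | h <;> exact h
      have h7 : κ = 1 := by
        apply Units.ext
        show (κ : F) = 1
        linear_combination h6 - h2
      rw [h7, dG_one] at hκ
      exact ht1 (conj_eq_one_iff.mp hκ)
  obtain ⟨c, β, hβ, hcβ⟩ := hcase
  have hinj : Function.Injective (MulAut.conj c).toMonoidHom := (MulAut.conj c).injective
  have hcard : Nat.card (H.map (MulAut.conj c).toMonoidHom) = Nat.card H :=
    Subgroup.card_map_of_injective hinj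
  have h1' : ∀ g : Sz F m, g ≠ 1 →
      cnt (H.map (MulAut.conj c).toMonoidHom) g ≤
        2 * Nat.card (H.map (MulAut.conj c).toMonoidHom) := by
    intro g hg
    have e1 : g = MulAut.conj c (c⁻¹ * g * c) := by
      rw [MulAut.conj_apply]
      group
    have hg' : c⁻¹ * g * c ≠ 1 := by
      intro h
      apply hg
      have : c⁻¹ * g * c⁻¹⁻¹ = 1 := by rw [inv_inv]; exact h
      exact conj_eq_one_iff.mp this
    rw [hcard, e1, cnt_map]
    exact h1 _ hg'
  have hH' : H.map (MulAut.conj c).toMonoidHom ≠ ⊤ := by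
    intro h
    apply hH
    apply (Subgroup.card_eq_iff_eq_top H).mp
    rw [← hcard, h, Subgroup.card_top]
  have hmem' : uG σ hσ hσ2 h2 0 β ∈ H.map (MulAut.conj c).toMonoidHom := by
    rw [← hcβ]
    exact ⟨t.1, t.2, by rw [MulEquiv.coe_toMonoidHom, MulAut.conj_apply]⟩
  have hstd := fix2_even_std σ τ hσ hσ2 hτ h2 hm hF _ hH' h1' β hβ hmem'
  refine ⟨c⁻¹ • ptO σ hσ none, fun x => ?_⟩
  have e2 : x ∈ H ↔ c * x * c⁻¹ ∈ szB (F := F) m := by
    rw [← hstd]
    have : c * x * c⁻¹ = (MulAut.conj c).toMonoidHom x := by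
      rw [MulEquiv.coe_toMonoidHom, MulAut.conj_apply]
    rw [this, Subgroup.mem_map_iff_mem hinj]
  rw [e2, mem_szB σ]
  have e3 : (c * x * c⁻¹) • ptO σ hσ none = ptO σ hσ none ↔
      (c * x * c⁻¹).1 • pt σ none = pt σ none := Subtype.ext_iff
  rw [← e3, mul_smul, mul_smul, smul_eq_iff_eq_inv_smul]

/-- the centraliser of a conjugate -/
theorem cent_conj_map {G : Type*} [Group G] (c g : G) :
    Subgroup.centralizer ({c * g * c⁻¹} : Set G) =
      (Subgroup.centralizer ({g} : Set G)).map (MulAut.conj c).toMonoidHom := by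
  ext x
  constructor
  · intro hx
    refine ⟨c⁻¹ * x * c, ?_, ?_⟩
    · exact ((centConj c g).symm ⟨x, hx⟩).2
    · rw [MulEquiv.coe_toMonoidHom, MulAut.conj_apply]
      group
  · rintro ⟨y, hy, rfl⟩
    rw [MulEquiv.coe_toMonoidHom, MulAut.conj_apply]
    exact ((centConj c g) ⟨y, hy⟩).2

theorem card_norm_cent_conj {G : Type*} [Group G] (c g : G) :
    Nat.card (Subgroup.normalizer ((Subgroup.centralizer ({c * g * c⁻¹} : Set G) :
      Subgroup G) : Set G)) =
    Nat.card (Subgroup.normalizer ((Subgroup.centralizer ({g} : Set G) : Subgroup G) : Set G)) := by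
  rw [cent_conj_map, ← Subgroup.map_equiv_normalizer_eq]
  exact Subgroup.card_map_of_injective (MulAut.conj c).injective

include hσ hσ2 hτ h2 in
/-- the normaliser of the centraliser of a fixed-point-free element has index `4` -/
theorem S0_norm4 (hm : 1 ≤ m) (hF : Fintype.card F = 2 ^ (2 * m + 1)) (z : Sz F m)
    (hz : z ∈ szS0 F m) :
    Nat.card (Subgroup.normalizer ((Subgroup.centralizer ({z} : Set (Sz F m)) :
      Subgroup (Sz F m)) : Set (Sz F m))) =
      4 * Nat.card (Subgroup.centralizer ({z} : Set (Sz F m))) := by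
  obtain ⟨z₁, z₂, hz₁, hz₂, hn₁, hn₂, hN₁, hN₂, hcop, hunion⟩ :=
    Sz_tori σ τ hσ hσ2 hτ h2 hm hF
  have hz1 := S0_ne_one σ hσ z hz
  rw [hunion] at hz
  rcases hz with ⟨-, c, hc⟩ | ⟨-, c, hc⟩
  · have hne1 : c * z * c⁻¹ ≠ 1 := fun e => hz1 (conj_eq_one_iff.mp e)
    have e1 := (S0_cent σ τ hσ hσ2 hτ h2 hm hF z₁ hz₁ _ hc hne1).2
    rw [← card_norm_cent_conj c z, Nat.card_congr (centConj c z).toEquiv, e1, hN₁]
  · have hne1 : c * z * c⁻¹ ≠ 1 := fun e => hz1 (conj_eq_one_iff.mp e)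
    have e1 := (S0_cent σ τ hσ hσ2 hτ h2 hm hF z₂ hz₂ _ hc hne1).2
    rw [← card_norm_cent_conj c z, Nat.card_congr (centConj c z).toEquiv, e1, hN₂]

include hσ hσ2 hτ h2 in
/-- the odd case: every nonidentity element of the stabiliser has its centraliser, of order
`q - 1`, inside the stabiliser -/
theorem fix2_odd_key (hm : 1 ≤ m) (hF : Fintype.card F = 2 ^ (2 * m + 1))
    (H : Subgroup (Sz F m)) (hodd : Odd (Nat.card H))
    (h1 : ∀ g : Sz F m, g ≠ 1 → cnt H g ≤ 2 * Nat.card H) (h : Sz F m) (hh : h ∈ H)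
    (hh1 : h ≠ 1) :
    Subgroup.centralizer ({h} : Set (Sz F m)) ≤ H ∧
      Nat.card (Subgroup.centralizer ({h} : Set (Sz F m))) = Fintype.card F - 1 := by
  haveI := Sz_finite σ τ hσ hσ2 hτ h2 hm hF
  have hHpos : 0 < Nat.card H := Nat.card_pos
  have hb1 := h1 h hh1
  have hF8 : 2 ^ 3 ≤ Fintype.card F := by
    rw [hF]
    exact Nat.pow_le_pow_right (by norm_num) (by omega)
  have hFodd : Odd (Fintype.card F - 1) := by
    have : Fintype.card F % 2 = 0 := by
      rw [hF, pow_succ]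
      exact Nat.mul_mod_left _ _
    exact Nat.odd_iff.mpr (by omega)
  -- the general consequence of the counting bound for a subgroup centralising `h`
  have hC : ∀ k ∈ Subgroup.centralizer ({h} : Set (Sz F m)), k⁻¹ * h * k ∈ H := by
    intro k hk
    have e : k⁻¹ * h * k = h := by
      rw [mul_assoc, inv_mul_eq_iff_eq_mul]
      exact (Subgroup.mem_centralizer_singleton_iff.mp hk).symm
    rw [e]
    exact hh
  have hCc := cnt_ge_prod H (Subgroup.centralizer ({h} : Set (Sz F m))) _ hC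
  have hCc' : Nat.card (Subgroup.centralizer ({h} : Set (Sz F m))) ≤
      2 * Nat.card (Subgroup.centralizer ({h} : Set (Sz F m)) ⊓ H : Subgroup (Sz F m)) := by
    have h3 := le_trans hCc (Nat.mul_le_mul_right _ hb1)
    have h4 : Nat.card (Subgroup.centralizer ({h} : Set (Sz F m))) * Nat.card H ≤
        (2 * Nat.card (Subgroup.centralizer ({h} : Set (Sz F m)) ⊓ H : Subgroup (Sz F m))) *
          Nat.card H := by
      rw [mul_assoc, mul_comm (Nat.card H)] at h3
      rw [mul_assoc]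
      exact h3
    exact Nat.le_of_mul_le_mul_right h4 hHpos
  by_cases hS : h ∈ szS0 F m
  · -- fixed-point-free: impossible
    exfalso
    obtain ⟨hdvd, h5⟩ := S0_card σ τ hσ hσ2 hτ h2 hm hF h hS
    have hQodd : Odd (Fintype.card F ^ 2 + 1) := by
      have : Fintype.card F % 2 = 0 := by
        rw [hF, pow_succ]
        exact Nat.mul_mod_left _ _
      rw [Nat.odd_iff, Nat.add_mod, Nat.pow_mod, this]
    have hCodd : Odd (Nat.card (Subgroup.centralizer ({h} : Set (Sz F m)))) := by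
      obtain ⟨j, hj⟩ := hdvd
      rw [hj] at hQodd
      exact (Nat.odd_mul.mp hQodd).1
    have hle := le_of_odd_card _ H hCodd hCc'
    have hN4 := S0_norm4 σ τ hσ hσ2 hτ h2 hm hF h hS
    have hN : ∀ k ∈ Subgroup.normalizer ((Subgroup.centralizer ({h} : Set (Sz F m)) :
        Subgroup (Sz F m)) : Set (Sz F m)), k⁻¹ * h * k ∈ H := by
      intro k hk
      apply hle
      have hk' := Subgroup.inv_mem _ hk
      have h3 := (Subgroup.mem_normalizer_iff.mp hk' h).mp
        (Subgroup.mem_centralizer_singleton_iff.mpr rfl)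
      rw [inv_inv] at h3
      exact h3
    have hNc := cnt_ge_prod H _ _ hN
    have h3 := le_trans hNc (Nat.mul_le_mul_right _ hb1)
    rw [hN4] at h3
    -- the intersection of the normaliser with `H` has odd order dividing `4 |C|`
    have hdvd1 : Nat.card (Subgroup.normalizer ((Subgroup.centralizer ({h} : Set (Sz F m)) :
        Subgroup (Sz F m)) : Set (Sz F m)) ⊓ H : Subgroup (Sz F m)) ∣
        4 * Nat.card (Subgroup.centralizer ({h} : Set (Sz F m))) := by
      rw [← hN4]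
      exact Subgroup.card_dvd_of_le inf_le_left
    have hodd1 : Odd (Nat.card (Subgroup.normalizer ((Subgroup.centralizer
        ({h} : Set (Sz F m)) : Subgroup (Sz F m)) : Set (Sz F m)) ⊓ H : Subgroup (Sz F m))) := by
      obtain ⟨j, hj⟩ := Subgroup.card_dvd_of_le (inf_le_right :
        (Subgroup.normalizer ((Subgroup.centralizer ({h} : Set (Sz F m)) :
          Subgroup (Sz F m)) : Set (Sz F m)) ⊓ H : Subgroup (Sz F m)) ≤ H)
      rw [hj] at hodd
      exact (Nat.odd_mul.mp hodd).1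
    have hcop : Nat.Coprime (Nat.card (Subgroup.normalizer ((Subgroup.centralizer
        ({h} : Set (Sz F m)) : Subgroup (Sz F m)) : Set (Sz F m)) ⊓ H : Subgroup (Sz F m))) 4 := by
      have : Nat.Coprime (Nat.card (Subgroup.normalizer ((Subgroup.centralizer
        ({h} : Set (Sz F m)) : Subgroup (Sz F m)) : Set (Sz F m)) ⊓ H : Subgroup (Sz F m))) (2 ^ 2) :=
        Nat.Coprime.pow_right 2 (Nat.coprime_two_right.mpr hodd1)
      exact this
    have hdvd2 := hcop.dvd_of_dvd_mul_left hdvd1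
    have hle2 := Nat.le_of_dvd Nat.card_pos hdvd2
    have hCpos : 0 < Nat.card (Subgroup.centralizer ({h} : Set (Sz F m))) := Nat.card_pos
    nlinarith
  · -- conjugate into the torus
    have hex : ∃ o, h.1 • pt σ o = pt σ o := by
      by_contra hcon
      apply hS
      rw [mem_szS0 σ hσ]
      intro o ho
      exact hcon ⟨o, ho⟩
    obtain ⟨o, ho⟩ := hex
    rcases fix_cases σ τ hσ hσ2 hτ h2 hm hF h hh1 o ho with hU | hD
    · exfalso
      obtain ⟨-, c, hc⟩ := hU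
      obtain ⟨P₁, hP₁⟩ := (sylow2_conj σ τ hσ hσ2 hτ h2 hm hF).2 c
      exact two_odd_absurd h hh1 _ P₁.isPGroup' ((hP₁ h).mpr hc) H hodd hh
    · obtain ⟨-, c, hc⟩ := hD
      obtain ⟨κ, hκ⟩ := (mem_szD_iff σ τ hσ hσ2 hτ _).mp hc
      have hκ1 : κ ≠ 1 := by
        rintro rfl
        rw [dG_one] at hκ
        exact hh1 (conj_eq_one_iff.mp hκ)
      have e1 := cent_dG σ τ hσ hσ2 hτ h2 hm hF κ hκ1
      rw [← hκ] at e1
      have hcard : Nat.card (Subgroup.centralizer ({h} : Set (Sz F m))) = Fintype.card F - 1 := by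
        rw [Nat.card_congr (centConj c h).toEquiv, e1, card_szD]
      refine ⟨le_of_odd_card _ H (by rw [hcard]; exact hFodd) hCc', hcard⟩

include hσ hσ2 hτ h2 in
/-- the odd case: the stabiliser has order `q - 1` -/
theorem fix2_odd (hm : 1 ≤ m) (hF : Fintype.card F = 2 ^ (2 * m + 1))
    (H : Subgroup (Sz F m)) (hodd : Odd (Nat.card H)) (hH1 : H ≠ ⊥)
    (h1 : ∀ g : Sz F m, g ≠ 1 → cnt H g ≤ 2 * Nat.card H) :
    Nat.card H = Fintype.card F - 1 := by
  haveI := Sz_finite σ τ hσ hσ2 hτ h2 hm hF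
  have key := fix2_odd_key σ τ hσ hσ2 hτ h2 hm hF H hodd h1
  have hF8 : 2 ^ 3 ≤ Fintype.card F := by
    rw [hF]
    exact Nat.pow_le_pow_right (by norm_num) (by omega)
  obtain ⟨P, hP⟩ : ∃ P, Fintype.card F = P + 1 := ⟨Fintype.card F - 1, by omega⟩
  have hPodd : Odd P := by
    have : Fintype.card F % 2 = 0 := by
      rw [hF, pow_succ]
      exact Nat.mul_mod_left _ _
    exact Nat.odd_iff.mpr (by omega)
  have hP' : Fintype.card F - 1 = P := by omega
  rw [hP'] at key ⊢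
  obtain ⟨h, hh, hh1⟩ : ∃ h ∈ H, h ≠ 1 := by
    by_contra hcon
    apply hH1
    rw [Subgroup.eq_bot_iff_forall]
    intro x hx
    by_contra hx1
    exact hcon ⟨x, hx, hx1⟩
  obtain ⟨hle, hcard⟩ := key h hh hh1
  obtain ⟨j, hj⟩ := Subgroup.card_dvd_of_le hle
  rw [hcard] at hj
  by_contra hne
  have hj1 : j ≠ 1 := by
    rintro rfl
    rw [mul_one] at hj
    exact hne hj
  obtain ⟨p, hp, hpj⟩ := Nat.exists_prime_and_dvd hj1
  haveI : Fact p.Prime := ⟨hp⟩
  have hpH : p ∣ Nat.card H := by rw [hj]; exact Dvd.dvd.mul_left hpj P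
  obtain ⟨x, hx⟩ := exists_prime_orderOf_dvd_card' (G := H) p hpH
  have hx1 : x.1 ≠ 1 := by
    intro h'
    have : x = 1 := Subtype.ext h'
    rw [this, orderOf_one] at hx
    exact hp.one_lt.ne hx
  obtain ⟨-, hcardx⟩ := key x.1 x.2 hx1
  have hpP : p ∣ P := by
    rw [← hcardx, ← hx, ← Subgroup.orderOf_coe]
    exact Subgroup.orderOf_dvd_natCard _ (Subgroup.mem_centralizer_singleton_iff.mpr rfl)
  -- `j` divides `q² + 1`
  have hdvdG : Nat.card H ∣ Nat.card (Sz F m) := Subgroup.card_subgroup_dvd_card H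
  rw [card_Sz σ τ hσ hσ2 hτ h2 hm hF, hP, hj] at hdvdG
  have e1 : P + 1 - 1 = P := by omega
  rw [e1] at hdvdG
  have hPpos : 0 < P := Odd.pos hPodd
  have hjdvd : j ∣ (P + 1) ^ 2 * ((P + 1) ^ 2 + 1) := by
    have h3 : P * j ∣ P * ((P + 1) ^ 2 * ((P + 1) ^ 2 + 1)) := by
      rw [mul_comm P ((P + 1) ^ 2 * ((P + 1) ^ 2 + 1))]
      exact hdvdG
    exact (Nat.mul_dvd_mul_iff_left hPpos).mp h3
  have hjodd : Odd j := by
    rw [hj] at hodd
    exact (Nat.odd_mul.mp hodd).2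
  have hp2 : p ≠ 2 := by
    rintro rfl
    obtain ⟨i, hi⟩ := hjodd
    omega
  have hpdvd : p ∣ (P + 1) ^ 2 * ((P + 1) ^ 2 + 1) := dvd_trans hpj hjdvd
  have hpq : p ∣ (P + 1) ^ 2 + 1 := by
    rcases (Nat.Prime.dvd_mul hp).mp hpdvd with h' | h'
    · exfalso
      have h3 := hp.dvd_of_dvd_pow h'
      rw [← hP, hF] at h3
      have h4 := hp.dvd_of_dvd_pow h3
      exact hp2 ((Nat.prime_dvd_prime_iff_eq hp Nat.prime_two).mp h4)
    · exact h'
  have hcop := coprime_qm1 P p hPodd hpq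
  have := Nat.Coprime.eq_one_of_dvd hcop hpP
  exact hp.one_lt.ne' this

include hσ hσ2 hτ h2 in
/-- fixity-2 actions of the Suzuki group, in terms of the point stabiliser -/
theorem fix2_main (hm : 1 ≤ m) (hF : Fintype.card F = 2 ^ (2 * m + 1))
    (H : Subgroup (Sz F m))
    (h1 : ∀ g : Sz F m, g ≠ 1 → cnt H g ≤ 2 * Nat.card H)
    (hex : ∃ g : Sz F m, g ≠ 1 ∧ cnt H g = 2 * Nat.card H) :
    (∃ P : suzukiOvoid F m, ∀ x : Sz F m, x ∈ H ↔ x • P = P) ∨
      Nat.card H = Fintype.card F - 1 := by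
  haveI := Sz_finite σ τ hσ hσ2 hτ h2 hm hF
  obtain ⟨g, hg1, hg⟩ := hex
  have hHbot : H ≠ ⊥ := by
    rintro rfl
    have h0 : cnt (⊥ : Subgroup (Sz F m)) g = 0 := by
      unfold cnt
      rw [Nat.card_eq_zero]
      left
      constructor
      rintro ⟨x, hx⟩
      rw [Subgroup.mem_bot] at hx
      apply hg1
      have : x⁻¹ * g * x⁻¹⁻¹ = 1 := by rw [inv_inv]; exact hx
      exact conj_eq_one_iff.mp this
    rw [h0, Subgroup.card_bot] at hg
    omega
  have hHtop : H ≠ ⊤ := by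
    rintro rfl
    have h3 := cnt_le_card (⊤ : Subgroup (Sz F m)) g
    rw [hg, Subgroup.card_top] at h3
    have : 0 < Nat.card (Sz F m) := Nat.card_pos
    omega
  rcases Nat.even_or_odd (Nat.card H) with heven | hodd
  · left
    exact fix2_even σ τ hσ hσ2 hτ h2 hm hF H hHtop h1 heven
  · right
    exact fix2_odd σ τ hσ hσ2 hτ h2 hm hF H hodd hHbot h1

end fix

/-- fixity-2 actions of a group isomorphic to the Suzuki group -/
theorem fix2_final {G : Type*} [Group G] [Finite G] (F : Type) [Field F] [Fintype F] (m : ℕ)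
    (hm : 1 ≤ m) (hF : Fintype.card F = 2 ^ (2 * m + 1))
    (e : G ≃* ↥(Cfsg.Lie.Sz F (2 ^ (m + 1)))) {Ω : Type*} [Fintype Ω] [MulAction G Ω]
    (htr : MulAction.IsPretransitive G Ω)
    (hfix : ∀ g : G, g ≠ 1 → Nat.card (MulAction.fixedBy Ω g) ≤ 2)
    (hex : ∃ g : G, g ≠ 1 ∧ Nat.card (MulAction.fixedBy Ω g) = 2) :
    (Fintype.card Ω = Fintype.card F ^ 2 + 1 ∧ MulAction.IsMultiplyPretransitive G Ω 2) ∨
    (Fintype.card Ω = Fintype.card F ^ 2 * (Fintype.card F ^ 2 + 1) ∧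
      ∀ α : Ω, Nat.card (MulAction.stabilizer G α) = Fintype.card F - 1) := by
  obtain ⟨σ, τ, hσ, hσ2, hτ, h2⟩ := sz_ctx hF
  obtain ⟨ι⟩ := Sz_lie_iso' hm hF
  haveI := Sz_finite σ τ hσ hσ2 hτ h2 hm hF
  haveI : Finite (suzukiOvoid F m) := (ovoid_finite m).to_subtype
  let ε : G ≃* Sz F m := e.trans ι.symm
  have hcardG : Nat.card G = Fintype.card F ^ 2 * (Fintype.card F ^ 2 + 1) *
      (Fintype.card F - 1) := by
    rw [Nat.card_congr ε.toEquiv, card_Sz σ τ hσ hσ2 hτ h2 hm hF]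
  have hF8 : 2 ^ 3 ≤ Fintype.card F := by
    rw [hF]
    exact Nat.pow_le_pow_right (by norm_num) (by omega)
  have hq1 : 0 < Fintype.card F - 1 := by omega
  obtain ⟨g₀, hg₀1, hg₀⟩ := hex
  have hne : Nonempty Ω := by
    by_contra hcon
    rw [not_nonempty_iff] at hcon
    have : Nat.card (MulAction.fixedBy Ω g₀) = 0 := Nat.card_of_isEmpty
    omega
  obtain ⟨α⟩ := hne
  have horb : ∀ β : Ω, Fintype.card Ω * Nat.card (MulAction.stabilizer G β) = Nat.card G := by
    intro β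
    rw [← Nat.card_eq_fintype_card, ← MulAction.index_stabilizer_of_transitive G β]
    exact Subgroup.index_mul_card _
  have hcardH : Nat.card ((MulAction.stabilizer G α).map ε.toMonoidHom) =
      Nat.card (MulAction.stabilizer G α) := Subgroup.card_map_of_injective ε.injective
  have hcnt : ∀ g : G, cnt ((MulAction.stabilizer G α).map ε.toMonoidHom) (ε g) =
      Nat.card (MulAction.fixedBy Ω g) * Nat.card (MulAction.stabilizer G α) := by
    intro g
    rw [cnt_map, cnt_fixed htr]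
  have h1 : ∀ y : Sz F m, y ≠ 1 → cnt ((MulAction.stabilizer G α).map ε.toMonoidHom) y ≤
      2 * Nat.card ((MulAction.stabilizer G α).map ε.toMonoidHom) := by
    intro y hy
    have hy' : ε.symm y ≠ 1 := by
      intro h
      apply hy
      have := congrArg ε h
      rwa [MulEquiv.apply_symm_apply, map_one] at this
    have e1 : y = ε (ε.symm y) := (MulEquiv.apply_symm_apply ε y).symm
    rw [e1, hcnt, hcardH]
    exact Nat.mul_le_mul_right _ (hfix _ hy')
  have h2' : ∃ y : Sz F m, y ≠ 1 ∧ cnt ((MulAction.stabilizer G α).map ε.toMonoidHom) y =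
      2 * Nat.card ((MulAction.stabilizer G α).map ε.toMonoidHom) := by
    refine ⟨ε g₀, ?_, ?_⟩
    · intro h
      apply hg₀1
      have := congrArg ε.symm h
      rwa [MulEquiv.symm_apply_apply, map_one] at this
    · rw [hcnt, hcardH, hg₀]
  rcases fix2_main σ τ hσ hσ2 hτ h2 hm hF _ h1 h2' with ⟨P, hP⟩ | hcard
  · left
    have hZ := Sz_zassenhaus σ τ hσ hσ2 hτ h2 hm hF
    have h2t := hZ.2.1
    haveI : MulAction.IsPretransitive (Sz F m) (suzukiOvoid F m) :=
      @MulAction.isPretransitive_of_is_two_pretransitive _ _ _ _ h2t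
    have hstab : (MulAction.stabilizer G α).map ε.toMonoidHom =
        MulAction.stabilizer (Sz F m) P := by
      ext x
      rw [hP x, MulAction.mem_stabilizer_iff]
    have hidx := MulAction.index_stabilizer_of_transitive (Sz F m) P
    rw [Cfsg.Agent.S0326.result] at hidx
    have h3 := Subgroup.index_mul_card (MulAction.stabilizer (Sz F m) P)
    rw [hidx, ← hstab, hcardH, card_Sz σ τ hσ hσ2 hτ h2 hm hF] at h3
    have hH : Nat.card (MulAction.stabilizer G α) =
        Fintype.card F ^ 2 * (Fintype.card F - 1) := by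
      have hpos : 0 < Fintype.card F ^ 2 + 1 := by positivity
      apply Nat.eq_of_mul_eq_mul_left hpos
      rw [h3]
      ring
    have h4 := horb α
    rw [hH, hcardG] at h4
    have hΩ : Fintype.card Ω = Fintype.card F ^ 2 + 1 := by
      have hpos : 0 < Fintype.card F ^ 2 * (Fintype.card F - 1) := by positivity
      apply Nat.eq_of_mul_eq_mul_right hpos
      rw [h4]
      ring
    refine ⟨hΩ, ?_⟩
    rw [MulAction.is_two_pretransitive_iff]
    intro a b c d hab hcd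
    obtain ⟨x, rfl⟩ := MulAction.exists_smul_eq G α a
    obtain ⟨y, rfl⟩ := MulAction.exists_smul_eq G α b
    obtain ⟨z, rfl⟩ := MulAction.exists_smul_eq G α c
    obtain ⟨w, rfl⟩ := MulAction.exists_smul_eq G α d
    -- membership in the stabiliser, read off on the ovoid
    have key : ∀ u v : G, u • α = v • α ↔ ε u • P = ε v • P := by
      intro u v
      have e1 : u • α = v • α ↔ v⁻¹ * u ∈ MulAction.stabilizer G α := by
        rw [MulAction.mem_stabilizer_iff, mul_smul, inv_smul_eq_iff]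
      have e2 : v⁻¹ * u ∈ MulAction.stabilizer G α ↔
          ε.toMonoidHom (v⁻¹ * u) ∈ (MulAction.stabilizer G α).map ε.toMonoidHom :=
        (Subgroup.mem_map_iff_mem ε.injective).symm
      rw [e1, e2, hP]
      have e3 : ε.toMonoidHom (v⁻¹ * u) = (ε v)⁻¹ * ε u := by
        show ε (v⁻¹ * u) = _
        rw [map_mul, map_inv]
      rw [e3, mul_smul, inv_smul_eq_iff]
    have hab' : ε x • P ≠ ε y • P := fun h => hab ((key x y).mpr h)
    have hcd' : ε z • P ≠ ε w • P := fun h => hcd ((key z w).mpr h)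
    obtain ⟨γ, hγ1, hγ2⟩ := (MulAction.is_two_pretransitive_iff.mp h2t) hab' hcd'
    refine ⟨ε.symm γ, ?_, ?_⟩
    · rw [← mul_smul, key, map_mul, MulEquiv.apply_symm_apply, mul_smul]
      exact hγ1
    · rw [← mul_smul, key, map_mul, MulEquiv.apply_symm_apply, mul_smul]
      exact hγ2
  · right
    rw [hcardH] at hcard
    have h4 := horb α
    rw [hcard, hcardG] at h4
    have hΩ : Fintype.card Ω = Fintype.card F ^ 2 * (Fintype.card F ^ 2 + 1) :=
      Nat.eq_of_mul_eq_mul_right hq1 h4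
    refine ⟨hΩ, fun β => ?_⟩
    have h5 := horb β
    rw [hΩ, hcardG] at h5
    have hpos : 0 < Fintype.card F ^ 2 * (Fintype.card F ^ 2 + 1) := by positivity
    exact Nat.eq_of_mul_eq_mul_left hpos h5

end

end Cfsg.Agent.Helper3
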