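import Mathlib
import Cfsg.Agent.Helper3.SuzukiFix
import Cfsg.Agent.Helper3.SuzukiSub
import Cfsg.Agent.S0035

set_option autoImplicit false
set_option linter.unusedSectionVars false
set_option linter.style.haveILetI false
set_option linter.unusedSimpArgs false
set_option linter.unusedVariables false

namespace Cfsg.Agent.Helper3

open scoped Classical Pointwise
open Cfsg Matrix

noncomputable section

section absMax

variable {G : Type*} [Group G]

/-- conjugating the element conjugates the centraliser -/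
theorem cent_conj_iff (c g y : G) :
    y ∈ Subgroup.centralizer ({g} : Set G) ↔
      c * y * c⁻¹ ∈ Subgroup.centralizer ({c * g * c⁻¹} : Set G) := by
  rw [Subgroup.mem_centralizer_singleton_iff, Subgroup.mem_centralizer_singleton_iff]
  constructor
  · intro hx
    calc c * y * c⁻¹ * (c * g * c⁻¹) = c * (y * g) * c⁻¹ := by group
      _ = c * (g * y) * c⁻¹ := by rw [hx]
      _ = _ := by group
  · intro hx
    have e3 : c * (y * g) * c⁻¹ = c * (g * y) * c⁻¹ := by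
      calc c * (y * g) * c⁻¹ = c * y * c⁻¹ * (c * g * c⁻¹) := by group
        _ = c * g * c⁻¹ * (c * y * c⁻¹) := hx
        _ = _ := by group
    exact mul_left_cancel (mul_right_cancel e3)

/-- an element of odd order whose fourth power lies in a subgroup lies in the subgroup -/
theorem odd_pow_mem (T : Subgroup G) (n : G) (k : ℕ) (hk : Odd k) (hnk : n ^ k = 1)
    (h4 : n ^ 4 ∈ T) : n ∈ T := by
  obtain ⟨j, hj⟩ := hk
  have e1 : (n ^ 4) ^ (j + 1) = n ^ 2 := by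
    rw [← pow_mul]
    have : 4 * (j + 1) = k * 2 + 2 := by rw [hj]; ring
    rw [this, pow_add, pow_mul, hnk, one_pow, one_mul]
  have h2 : n ^ 2 ∈ T := by rw [← e1]; exact T.pow_mem h4 _
  have e2 : (n ^ 2) ^ (j + 1) = n := by
    rw [← pow_mul]
    have : 2 * (j + 1) = k + 1 := by rw [hj]; ring
    rw [this, pow_add, hnk, one_mul, pow_one]
  rw [← e2]
  exact T.pow_mem h2 _

/-- the index of a subgroup in its normaliser kills the normaliser modulo the subgroup -/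
theorem pow_mem_of_norm_index [Finite G] (T : Subgroup G) (e : ℕ)
    (he : Nat.card (Subgroup.normalizer (T : Set G)) = e * Nat.card T) (n : G)
    (hn : n ∈ Subgroup.normalizer (T : Set G)) : n ^ e ∈ T := by
  have h1 := Subgroup.index_mul_card (T.subgroupOf (Subgroup.normalizer (T : Set G)))
  have h2 : Nat.card (T.subgroupOf (Subgroup.normalizer (T : Set G))) = Nat.card T :=
    Nat.card_congr (Subgroup.subgroupOfEquivOfLe Subgroup.le_normalizer).toEquiv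
  rw [h2, he] at h1
  have hpos : 0 < Nat.card T := Nat.card_pos
  have h3 : (T.subgroupOf (Subgroup.normalizer (T : Set G))).index = e :=
    Nat.eq_of_mul_eq_mul_right hpos h1
  have h4 := Subgroup.pow_index_mem (T.subgroupOf (Subgroup.normalizer (T : Set G)))
    (⟨n, hn⟩ : Subgroup.normalizer (T : Set G))
  rw [h3] at h4
  exact Subgroup.mem_subgroupOf.mp h4

/-- a finite group covered by self-normalising TI subgroups attached to its elements is equal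
to each of them -/
theorem ti_partition_top [Finite G] (P : G → Subgroup G)
    (hmem : ∀ x : G, x ≠ 1 → x ∈ P x)
    (hTI : ∀ x : G, x ≠ 1 → ∀ g h : G, h ∈ P x → h ≠ 1 → g * h * g⁻¹ ∈ P x → g ∈ P x)
    (hdisj : ∀ x y : G, x ≠ 1 → y ≠ 1 → y ∈ tiSet (P x) ∨ Disjoint (tiSet (P x)) (tiSet (P y)))
    (x : G) (hx : x ≠ 1) : P x = ⊤ := by
  have hcount : ∀ z : G, z ≠ 1 →
      (tiSet (P z)).ncard * Nat.card (P z) = Nat.card G * (Nat.card (P z) - 1) := by
    intro z hz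
    apply ti_count
    · intro n hn h hh
      exact (P z).mul_mem ((P z).mul_mem hn hh) ((P z).inv_mem hn)
    · intro g h hh hh1 hgh
      exact hTI z hz g h hh hh1 hgh
  have hcard2 : ∀ z : G, z ≠ 1 → 2 ≤ Nat.card (P z) := by
    intro z hz
    have h1 : Nat.card (P z) ≠ 1 := by
      intro h
      rw [Subgroup.card_eq_one] at h
      have := hmem z hz
      rw [h, Subgroup.mem_bot] at this
      exact hz this
    have h0 : 0 < Nat.card (P z) := Nat.card_pos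
    omega
  have hGpos : 0 < Nat.card G := Nat.card_pos
  have hhalf : ∀ z : G, z ≠ 1 → Nat.card G ≤ 2 * (tiSet (P z)).ncard := by
    intro z hz
    have h1 := hcount z hz
    have h2 := hcard2 z hz
    obtain ⟨a, ha⟩ : ∃ a, Nat.card (P z) = a + 2 := ⟨Nat.card (P z) - 2, by omega⟩
    rw [ha] at h1
    have e : a + 2 - 1 = a + 1 := by omega
    rw [e] at h1
    by_contra hcon
    have h3 : 2 * (tiSet (P z)).ncard + 1 ≤ Nat.card G := by omega
    nlinarith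
  have hsub : ∀ z : G, tiSet (P z) ⊆ {y : G | y ≠ 1} := fun z y hy => hy.1
  have hne1 : ({y : G | y ≠ 1} : Set G).ncard + 1 = Nat.card G := by
    have h1 : ({y : G | y ≠ 1} : Set G) = ({1} : Set G)ᶜ := by
      ext y
      simp
    rw [h1]
    have := Set.ncard_add_ncard_compl ({1} : Set G)
    rw [Set.ncard_singleton] at this
    omega
  -- every nonidentity element is conjugate into `P x`
  have hall : ∀ y : G, y ≠ 1 → y ∈ tiSet (P x) := by
    intro y hy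
    rcases hdisj x y hx hy with h | h
    · exact h
    · exfalso
      have h1 := hhalf x hx
      have h2 := hhalf y hy
      have h3 : (tiSet (P x) ∪ tiSet (P y)).ncard ≤ ({y : G | y ≠ 1} : Set G).ncard :=
        Set.ncard_le_ncard (Set.union_subset (hsub x) (hsub y))
      rw [Set.ncard_union_eq h] at h3
      omega
  have heq : tiSet (P x) = {y : G | y ≠ 1} :=
    Set.Subset.antisymm (hsub x) (fun y hy => hall y hy)
  have h1 := hcount x hx
  rw [heq] at h1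
  have h2 := hcard2 x hx
  obtain ⟨a, ha⟩ : ∃ a, Nat.card (P x) = a + 2 := ⟨Nat.card (P x) - 2, by omega⟩
  rw [ha] at h1
  have e : a + 2 - 1 = a + 1 := by omega
  rw [e] at h1
  have h3 : Nat.card G = a + 2 := by
    have h4 : ({y : G | y ≠ 1} : Set G).ncard = Nat.card G - 1 := by omega
    rw [h4] at h1
    obtain ⟨N, hN⟩ : ∃ N, Nat.card G = N + 1 := ⟨Nat.card G - 1, by omega⟩
    rw [hN] at h1 ⊢
    have e2 : N + 1 - 1 = N := by omega
    rw [e2] at h1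
    nlinarith
  apply (Subgroup.card_eq_iff_eq_top (P x)).mp
  rw [ha, h3]

end absMax

section toral

variable {F : Type*} [Field F] [Fintype F] {m : ℕ} (σ τ : F →+* F)
  (hσ : ∀ x, σ x = x ^ (2 ^ (m + 1)))
  (hσ2 : ∀ x, σ (σ x) = x ^ 2) (hτ : ∀ x, τ x ^ 2 = σ x) (h2 : (2 : F) = 0)

include hσ hσ2 hτ h2 in
/-- an element conjugating a nonidentity torus element into the torus normalises the pair of
fixed points -/
theorem szD_ti (g : Sz F m) (κ κ' : Fˣ) (hκ' : κ' ≠ 1)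
    (hrel : g * dG σ τ hσ hσ2 hτ κ * g⁻¹ = dG σ τ hσ hσ2 hτ κ') : g ∈ szND (m := m) σ := by
  have hrel' : g.1 * dS σ τ hτ κ = dS σ τ hτ κ' * g.1 := by
    have e : g * dG σ τ hσ hσ2 hτ κ = dG σ τ hσ hσ2 hτ κ' * g := by rw [← hrel]; group
    exact congrArg (fun y : Sz F m => y.1) e
  obtain ⟨o1, ho1⟩ := Sz_pt σ hσ g.1 g.2 none
  obtain ⟨o2, ho2⟩ := Sz_pt σ hσ g.1 g.2 (some (0, 0))
  have hfix1 : dS σ τ hτ κ' • pt σ o1 = pt σ o1 := by
    rw [← ho1, ← mul_smul, ← hrel', mul_smul, dS_inf]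
  have hfix2 : dS σ τ hτ κ' • pt σ o2 = pt σ o2 := by
    rw [← ho2, ← mul_smul, ← hrel', mul_smul, dS_aff σ τ hσ2 hτ]
    simp only [mul_zero]
  have hne12 : o1 ≠ o2 := by
    rintro rfl
    have e : g.1 • pt σ none = g.1 • pt σ (some (0, 0)) := by rw [ho1, ho2]
    exact absurd (pt_inj σ (smul_left_cancel g.1 e)) (by simp)
  rcases dS_fix σ τ hσ2 hτ κ' hκ' o1 hfix1 with c1 | c1 <;>
    rcases dS_fix σ τ hσ2 hτ κ' hκ' o2 hfix2 with c2 | c2
  · exact absurd (c1.trans c2.symm) hne12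
  · left
    exact ⟨by rw [ho1, c1], by rw [ho2, c2]⟩
  · right
    exact ⟨by rw [ho1, c1], by rw [ho2, c2]⟩
  · exact absurd (c1.trans c2.symm) hne12

include hσ hσ2 hτ h2 in
/-- the structure of the centraliser of an element which is not a `2`-element -/
theorem toral (hm : 1 ≤ m) (hF : Fintype.card F = 2 ^ (2 * m + 1)) (x : Sz F m) (hx1 : x ≠ 1)
    (hxU : x ∉ tiSet (szU σ hσ hσ2 h2)) :
    IsCyclic (Subgroup.centralizer ({x} : Set (Sz F m))) ∧
    Nat.card (Subgroup.centralizer ({x} : Set (Sz F m))) ∈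
      ({2 ^ (2 * m + 1) - 1, 2 ^ (2 * m + 1) + 2 ^ (m + 1) + 1,
        2 ^ (2 * m + 1) - 2 ^ (m + 1) + 1} : Set ℕ) ∧
    (∀ a ∈ Subgroup.centralizer ({x} : Set (Sz F m)), a ≠ 1 →
      Subgroup.centralizer ({a} : Set (Sz F m)) = Subgroup.centralizer {x}) ∧
    (∀ n ∈ Subgroup.normalizer ((Subgroup.centralizer ({x} : Set (Sz F m)) :
      Subgroup (Sz F m)) : Set (Sz F m)), n ^ 4 ∈ Subgroup.centralizer ({x} : Set (Sz F m))) := by
  haveI := Sz_finite σ τ hσ hσ2 hτ h2 hm hF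
  by_cases hxS : x ∈ szS0 F m
  · obtain ⟨z₁, z₂, hz₁, hz₂, hn₁, hn₂, hN₁, hN₂, hcop, hunion⟩ :=
      Sz_tori σ τ hσ hσ2 hτ h2 hm hF
    refine ⟨S0_cyc σ τ hσ hσ2 hτ h2 hm hF x hxS, ?_,
      fun a ha ha1 => (S0_cent σ τ hσ hσ2 hτ h2 hm hF x hxS a ha ha1).2, ?_⟩
    · have hxS' := hxS
      rw [hunion] at hxS'
      rcases hxS' with ⟨-, c, hc⟩ | ⟨-, c, hc⟩
      · have hne1 : c * x * c⁻¹ ≠ 1 := fun e => hx1 (conj_eq_one_iff.mp e)
        have e1 := (S0_cent σ τ hσ hσ2 hτ h2 hm hF z₁ hz₁ _ hc hne1).2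
        rw [Nat.card_congr (centConj c x).toEquiv, e1, hn₁]
        right; left; rfl
      · have hne1 : c * x * c⁻¹ ≠ 1 := fun e => hx1 (conj_eq_one_iff.mp e)
        have e1 := (S0_cent σ τ hσ hσ2 hτ h2 hm hF z₂ hz₂ _ hc hne1).2
        rw [Nat.card_congr (centConj c x).toEquiv, e1, hn₂]
        right; right; rfl
    · intro n hn
      exact pow_mem_of_norm_index _ 4 (S0_norm4 σ τ hσ hσ2 hτ h2 hm hF x hxS) n hn
  · have hex : ∃ o, x.1 • pt σ o = pt σ o := by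
      by_contra hcon
      apply hxS
      rw [mem_szS0 σ hσ]
      intro o ho
      exact hcon ⟨o, ho⟩
    obtain ⟨o, ho⟩ := hex
    rcases fix_cases σ τ hσ hσ2 hτ h2 hm hF x hx1 o ho with hU | hD
    · exact absurd hU hxU
    · obtain ⟨-, c, hc⟩ := hD
      obtain ⟨κ, hκ⟩ := (mem_szD_iff σ τ hσ hσ2 hτ _).mp hc
      have hκ1 : κ ≠ 1 := by
        rintro rfl
        rw [dG_one] at hκ
        exact hx1 (conj_eq_one_iff.mp hκ)
      have e1 := cent_dG σ τ hσ hσ2 hτ h2 hm hF κ hκ1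
      rw [← hκ] at e1
      haveI hcycD : IsCyclic (szD σ τ hσ hσ2 hτ) :=
        isCyclic_of_surjective (dHom σ τ hσ hσ2 hτ).rangeRestrict
          (dHom σ τ hσ hσ2 hτ).rangeRestrict_surjective
      have hcyc : IsCyclic (Subgroup.centralizer ({x} : Set (Sz F m))) := by
        rw [(centConj c x).isCyclic, e1]
        exact hcycD
      have hmemD : ∀ y : Sz F m, y ∈ Subgroup.centralizer ({x} : Set (Sz F m)) ↔
          c * y * c⁻¹ ∈ szD σ τ hσ hσ2 hτ := by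
        intro y
        rw [← e1]
        exact cent_conj_iff c x y
      refine ⟨hcyc, ?_, ?_, ?_⟩
      · rw [Nat.card_congr (centConj c x).toEquiv, e1, card_szD, hF]
        left; rfl
      · intro a ha ha1
        obtain ⟨κ', hκ'⟩ := (mem_szD_iff σ τ hσ hσ2 hτ _).mp ((hmemD a).mp ha)
        have hκ'1 : κ' ≠ 1 := by
          rintro rfl
          rw [dG_one] at hκ'
          exact ha1 (conj_eq_one_iff.mp hκ')
        have e2 := cent_dG σ τ hσ hσ2 hτ h2 hm hF κ' hκ'1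
        rw [← hκ'] at e2
        ext y
        rw [cent_conj_iff c a y, e2, hmemD y]
      · intro n hn
        -- `c n c⁻¹` normalises the torus, so lies in the stabiliser of the two fixed points
        have h3 : c * n * c⁻¹ * dG σ τ hσ hσ2 hτ κ * (c * n * c⁻¹)⁻¹ ∈ szD σ τ hσ hσ2 hτ := by
          have h4 : n * x * n⁻¹ ∈ Subgroup.centralizer ({x} : Set (Sz F m)) :=
            (Subgroup.mem_normalizer_iff.mp hn x).mp
              (Subgroup.mem_centralizer_singleton_iff.mpr rfl)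
          have h5 := (hmemD _).mp h4
          have e3 : c * n * c⁻¹ * dG σ τ hσ hσ2 hτ κ * (c * n * c⁻¹)⁻¹ =
              c * (n * x * n⁻¹) * c⁻¹ := by
            rw [← hκ]
            group
          rw [e3]
          exact h5
        obtain ⟨κ₂, hκ₂⟩ := (mem_szD_iff σ τ hσ hσ2 hτ _).mp h3
        have hκ₂1 : κ₂ ≠ 1 := by
          rintro rfl
          rw [dG_one] at hκ₂
          have := conj_eq_one_iff.mp hκ₂
          rw [← dG_one σ τ hσ hσ2 hτ] at this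
          exact hκ1 (dG_inj σ τ hσ hσ2 hτ _ _ this)
        have hND := szD_ti σ τ hσ hσ2 hτ h2 (c * n * c⁻¹) κ κ₂ hκ₂1 hκ₂
        have hsq : (c * n * c⁻¹) * (c * n * c⁻¹) ∈ szD σ τ hσ hσ2 hτ := by
          rcases (mem_szND_iff σ τ hσ hσ2 hτ h2 hm hF _).mp hND with ⟨μ, hμ⟩ | ⟨μ, hμ⟩
          · rw [hμ]
            exact (mem_szD_iff σ τ hσ hσ2 hτ _).mpr ⟨μ * μ, by rw [dG_mul]⟩
          · rw [hμ]
            refine (mem_szD_iff σ τ hσ hσ2 hτ _).mpr ⟨1, ?_⟩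
            rw [dG_one]
            calc wG σ hσ hσ2 h2 * dG σ τ hσ hσ2 hτ μ * (wG σ hσ hσ2 h2 * dG σ τ hσ hσ2 hτ μ)
                = wG σ hσ hσ2 h2 * dG σ τ hσ hσ2 hτ μ * wG σ hσ hσ2 h2 * dG σ τ hσ hσ2 hτ μ := by
                  group
              _ = dG σ τ hσ hσ2 hτ μ⁻¹ * wG σ hσ hσ2 h2 * wG σ hσ hσ2 h2 *
                  dG σ τ hσ hσ2 hτ μ := by rw [wG_dG]
              _ = dG σ τ hσ hσ2 hτ μ⁻¹ * (wG σ hσ hσ2 h2 * wG σ hσ hσ2 h2) *
                  dG σ τ hσ hσ2 hτ μ := by group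
              _ = 1 := by rw [wG_sq, mul_one, ← dG_mul, inv_mul_cancel, dG_one]
        have hn2 : n ^ 2 ∈ Subgroup.centralizer ({x} : Set (Sz F m)) := by
          rw [hmemD]
          have e4 : c * n ^ 2 * c⁻¹ = (c * n * c⁻¹) * (c * n * c⁻¹) := by
            rw [pow_two]; group
          rw [e4]
          exact hsq
        have e5 : n ^ 4 = (n ^ 2) ^ 2 := by rw [← pow_mul]
        rw [e5]
        exact Subgroup.pow_mem _ hn2 _

include hσ hσ2 hτ h2 in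
/-- a nonidentity element of a subgroup of odd order is not a `2`-element -/
theorem not_tiU_of_odd (hm : 1 ≤ m) (hF : Fintype.card F = 2 ^ (2 * m + 1))
    (M : Subgroup (Sz F m)) (hodd : Odd (Nat.card M)) (x : Sz F m) (hx : x ∈ M) (hx1 : x ≠ 1) :
    x ∉ tiSet (szU σ hσ hσ2 h2) := by
  rintro ⟨-, c, hc⟩
  obtain ⟨P₁, hP₁⟩ := (sylow2_conj σ τ hσ hσ2 hτ h2 hm hF).2 c
  exact two_odd_absurd x hx1 _ P₁.isPGroup' ((hP₁ x).mpr hc) M hodd hx

include hσ hσ2 hτ h2 in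
/-- a nontrivial subgroup of odd order lies in the centraliser of each of its nonidentity
elements -/
theorem odd_in_torus (hm : 1 ≤ m) (hF : Fintype.card F = 2 ^ (2 * m + 1))
    (M : Subgroup (Sz F m)) (hodd : Odd (Nat.card M)) (h : Sz F m) (hh : h ∈ M) (hh1 : h ≠ 1) :
    M ≤ Subgroup.centralizer ({h} : Set (Sz F m)) := by
  haveI := Sz_finite σ τ hσ hσ2 hτ h2 hm hF
  have htor : ∀ x : M, x ≠ 1 → _ := fun x hx =>
    toral σ τ hσ hσ2 hτ h2 hm hF x.1 (fun e => hx (Subtype.ext e))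
      (not_tiU_of_odd σ τ hσ hσ2 hτ h2 hm hF M hodd x.1 x.2 (fun e => hx (Subtype.ext e)))
  have hord : ∀ n : M, (n.1 : Sz F m) ^ Nat.card M = 1 := by
    intro n
    have := pow_card_eq_one' (G := M) (x := n)
    exact congrArg Subtype.val this
  let P : M → Subgroup M := fun x => (Subgroup.centralizer ({x.1} : Set (Sz F m))).subgroupOf M
  have hP : ∀ x y : M, y ∈ P x ↔ y.1 ∈ Subgroup.centralizer ({x.1} : Set (Sz F m)) :=
    fun x y => Subgroup.mem_subgroupOf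
  have hTI : ∀ x : M, x ≠ 1 → ∀ g h' : M, h' ∈ P x → h' ≠ 1 → g * h' * g⁻¹ ∈ P x → g ∈ P x := by
    intro x hx g h' hh' hh'1 hgh
    rw [hP] at hh' hgh ⊢
    obtain ⟨-, -, hcent, hnorm⟩ := htor x hx
    have hh'1' : h'.1 ≠ 1 := fun e => hh'1 (Subtype.ext e)
    have hgh1 : g.1 * h'.1 * g.1⁻¹ ≠ 1 := fun e => hh'1' (conj_eq_one_iff.mp e)
    have e1 := hcent h'.1 hh' hh'1'
    have e2 : Subgroup.centralizer ({g.1 * h'.1 * g.1⁻¹} : Set (Sz F m)) =
        Subgroup.centralizer {x.1} := hcent _ hgh hgh1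
    have hgN : g.1 ∈ Subgroup.normalizer ((Subgroup.centralizer ({x.1} : Set (Sz F m)) :
        Subgroup (Sz F m)) : Set (Sz F m)) := by
      rw [Subgroup.mem_normalizer_iff]
      intro y
      have key := cent_conj_iff g.1 h'.1 y
      rw [e1, e2] at key
      exact key
    exact odd_pow_mem _ g.1 (Nat.card M) hodd (hord g) (hnorm g.1 hgN)
  have hdisj : ∀ x y : M, x ≠ 1 → y ≠ 1 → y ∈ tiSet (P x) ∨
      Disjoint (tiSet (P x)) (tiSet (P y)) := by
    intro x y hx hy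
    by_cases hyx : y ∈ tiSet (P x)
    · left; exact hyx
    · right
      rw [Set.disjoint_left]
      rintro z ⟨hz1, g₁, hg₁⟩ ⟨-, g₂, hg₂⟩
      apply hyx
      refine ⟨hy, g₁ * g₂⁻¹, ?_⟩
      rw [hP] at hg₁ hg₂ ⊢
      obtain ⟨-, -, hcentx, -⟩ := htor x hx
      have hz1' : z.1 ≠ 1 := fun e => hz1 (Subtype.ext e)
      have hgz1 : g₁.1 * z.1 * g₁.1⁻¹ ≠ 1 := fun e => hz1' (conj_eq_one_iff.mp e)
      have e1 : Subgroup.centralizer ({g₁.1 * z.1 * g₁.1⁻¹} : Set (Sz F m)) =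
          Subgroup.centralizer {x.1} := hcentx _ hg₁ hgz1
      rw [← e1, Subgroup.mem_centralizer_singleton_iff]
      have hc : g₂.1 * z.1 * g₂.1⁻¹ * y.1 = y.1 * (g₂.1 * z.1 * g₂.1⁻¹) :=
        Subgroup.mem_centralizer_singleton_iff.mp hg₂
      have hc' : z.1 * (g₂.1⁻¹ * y.1 * g₂.1) = (g₂.1⁻¹ * y.1 * g₂.1) * z.1 := by
        have e3 : g₂.1⁻¹ * (g₂.1 * z.1 * g₂.1⁻¹ * y.1) * g₂.1 =
            g₂.1⁻¹ * (y.1 * (g₂.1 * z.1 * g₂.1⁻¹)) * g₂.1 := by rw [hc]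
        calc z.1 * (g₂.1⁻¹ * y.1 * g₂.1) = g₂.1⁻¹ * (g₂.1 * z.1 * g₂.1⁻¹ * y.1) * g₂.1 := by
              group
          _ = g₂.1⁻¹ * (y.1 * (g₂.1 * z.1 * g₂.1⁻¹)) * g₂.1 := e3
          _ = _ := by group
      show (g₁.1 * g₂.1⁻¹ * y.1 * (g₁.1 * g₂.1⁻¹)⁻¹) * (g₁.1 * z.1 * g₁.1⁻¹) =
        (g₁.1 * z.1 * g₁.1⁻¹) * (g₁.1 * g₂.1⁻¹ * y.1 * (g₁.1 * g₂.1⁻¹)⁻¹)
      calc g₁.1 * g₂.1⁻¹ * y.1 * (g₁.1 * g₂.1⁻¹)⁻¹ * (g₁.1 * z.1 * g₁.1⁻¹)
          = g₁.1 * ((g₂.1⁻¹ * y.1 * g₂.1) * z.1) * g₁.1⁻¹ := by group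
        _ = g₁.1 * (z.1 * (g₂.1⁻¹ * y.1 * g₂.1)) * g₁.1⁻¹ := by rw [hc']
        _ = _ := by group
  have hmem : ∀ x : M, x ≠ 1 → x ∈ P x := by
    intro x _
    rw [hP]
    exact Subgroup.mem_centralizer_singleton_iff.mpr rfl
  have htop := ti_partition_top P hmem hTI hdisj ⟨h, hh⟩ (fun e => hh1 (congrArg Subtype.val e))
  intro y hy
  have : (⟨y, hy⟩ : M) ∈ P ⟨h, hh⟩ := by rw [htop]; exact Subgroup.mem_top _
  exact (hP _ _).mp this

end toral

section good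

variable {F : Type*} [Field F] [Fintype F] {m : ℕ} (σ τ : F →+* F)
  (hσ : ∀ x, σ x = x ^ (2 ^ (m + 1)))
  (hσ2 : ∀ x, σ (σ x) = x ^ 2) (hτ : ∀ x, τ x ^ 2 = σ x) (h2 : (2 : F) = 0)

/-- the conclusion of the subgroup theorem, in a form stable under conjugation -/
def Good' (hσ : ∀ x, σ x = x ^ (2 ^ (m + 1))) (hσ2 : ∀ x, σ (σ x) = x ^ 2) (h2 : (2 : F) = 0)
    (M : Subgroup (Sz F m)) : Prop :=
  (∃ P : suzukiOvoid F m, ∀ x ∈ M, x • P = P) ∨
  (∃ h : Sz F m, h ≠ 1 ∧ h ∉ tiSet (szU σ hσ hσ2 h2) ∧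
    M ≤ Subgroup.normalizer ((Subgroup.centralizer ({h} : Set (Sz F m)) :
      Subgroup (Sz F m)) : Set (Sz F m))) ∨
  (∃ (K : Type) (_ : Field K) (_ : Fintype K) (k : ℕ), 1 ≤ k ∧ k < m ∧
    Fintype.card K = 2 ^ (2 * k + 1) ∧ 2 * k + 1 ∣ 2 * m + 1 ∧
    ∃ (j : Sz K k →* Sz F m), Function.Injective j ∧
      ∃ c : Sz F m, ∀ x ∈ M, c * x * c⁻¹ ∈ j.range)

theorem mem_conj_map {G : Type*} [Group G] (c x : G) (M : Subgroup G) :
    c * x * c⁻¹ ∈ M.map (MulAut.conj c).toMonoidHom ↔ x ∈ M := by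
  have : c * x * c⁻¹ = (MulAut.conj c).toMonoidHom x := by
    rw [MulEquiv.coe_toMonoidHom, MulAut.conj_apply]
  rw [this, Subgroup.mem_map_iff_mem (MulAut.conj c).injective]

theorem good'_conj (c : Sz F m) (M : Subgroup (Sz F m))
    (h : Good' σ hσ hσ2 h2 (M.map (MulAut.conj c).toMonoidHom)) : Good' σ hσ hσ2 h2 M := by
  rcases h with ⟨P, hP⟩ | ⟨h, hh1, hhU, hle⟩ | ⟨K, iK, iK', k, hk, hkm, hK, hdiv, j, hj, c', hc'⟩
  · left
    refine ⟨c⁻¹ • P, fun x hx => ?_⟩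
    have h3 := hP _ ((mem_conj_map c x M).mpr hx)
    rw [mul_smul, mul_smul] at h3
    rw [smul_eq_iff_eq_inv_smul] at h3
    exact h3
  · right; left
    refine ⟨c⁻¹ * h * c, ?_, ?_, ?_⟩
    · intro e
      apply hh1
      have : c⁻¹ * h * c⁻¹⁻¹ = 1 := by rw [inv_inv]; exact e
      exact conj_eq_one_iff.mp this
    · rintro ⟨-, g, hg⟩
      apply hhU
      refine ⟨hh1, g * c⁻¹, ?_⟩
      have e : g * c⁻¹ * h * (g * c⁻¹)⁻¹ = g * (c⁻¹ * h * c) * g⁻¹ := by group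
      rw [e]
      exact hg
    · intro x hx
      have h3 := hle ((mem_conj_map c x M).mpr hx)
      rw [Subgroup.mem_normalizer_iff] at h3 ⊢
      intro y
      have e0 : c * (c⁻¹ * h * c) * c⁻¹ = h := by group
      have k1 := cent_conj_iff c (c⁻¹ * h * c) y
      have k2 := cent_conj_iff c (c⁻¹ * h * c) (x * y * x⁻¹)
      rw [e0] at k1 k2
      rw [k1, k2, h3 (c * y * c⁻¹)]
      have e1 : c * x * c⁻¹ * (c * y * c⁻¹) * (c * x * c⁻¹)⁻¹ = c * (x * y * x⁻¹) * c⁻¹ := by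
        group
      rw [e1]
  · right; right
    refine ⟨K, iK, iK', k, hk, hkm, hK, hdiv, j, hj, c' * c, fun x hx => ?_⟩
    have h3 := hc' _ ((mem_conj_map c x M).mpr hx)
    have e : c' * c * x * (c' * c)⁻¹ = c' * (c * x * c⁻¹) * c'⁻¹ := by group
    rw [e]
    exact h3

include hσ hσ2 hτ h2 in
/-- the Frobenius case: the stabiliser of the point at infinity in `M` is a Frobenius
complement -/
theorem case_F (hm : 1 ≤ m) (hF : Fintype.card F = 2 ^ (2 * m + 1)) (M : Subgroup (Sz F m))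
    (β : F) (hβ : β ≠ 0) (ht : uG σ hσ hσ2 h2 0 β ∈ M) (hMB : ¬ M ≤ szB (F := F) m)
    (hFr : ∀ g ∈ M, g ∉ szB (F := F) m → ∀ d ∈ M, d ∈ szB (F := F) m →
      g⁻¹ * d * g ∈ szB (F := F) m → d = 1) : Good' σ hσ hσ2 h2 M := by
  haveI := Sz_finite σ τ hσ hσ2 hτ h2 hm hF
  have ht1 : uG σ hσ hσ2 h2 0 β ≠ 1 := by
    intro h
    rw [← uG_zero σ hσ hσ2 h2] at h
    exact hβ (uG_inj σ hσ hσ2 h2 _ _ _ _ h).2
  have hcomm_B : ∀ n : Sz F m, n * uG σ hσ hσ2 h2 0 β = uG σ hσ hσ2 h2 0 β * n →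
      n ∈ szB (F := F) m := by
    intro n hn
    rw [mem_szB σ]
    obtain ⟨o, ho⟩ := Sz_pt σ hσ n.1 n.2 none
    have hn' : n.1 * tS σ 0 β = tS σ 0 β * n.1 := congrArg (fun y : Sz F m => y.1) hn
    have hfix : tS σ 0 β • pt σ o = pt σ o := by
      rw [← ho, ← mul_smul, ← hn', mul_smul, tS_inf]
    have := tS_fix σ hσ2 h2 0 β (fun h => hβ h.2) o hfix
    rw [ho, this]
  obtain ⟨H', hH'⟩ : ∃ H' : Subgroup M, H' = (szB (F := F) m).subgroupOf M := ⟨_, rfl⟩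
  have hmemH : ∀ x : M, x ∈ H' ↔ x.1 ∈ szB (F := F) m := by
    intro x
    rw [hH']
    exact Subgroup.mem_subgroupOf
  have hFrob : IsFrobeniusComplement H' := by
    refine ⟨?_, ?_, ?_⟩
    · intro hbot
      have h3 : (⟨uG σ hσ hσ2 h2 0 β, ht⟩ : M) ∈ H' :=
        (hmemH _).mpr (uG_mem_szB σ hσ hσ2 h2 _ _)
      rw [hbot, Subgroup.mem_bot] at h3
      exact ht1 (congrArg Subtype.val h3)
    · intro htop
      apply hMB
      intro x hx
      have h3 : (⟨x, hx⟩ : M) ∈ H' := by rw [htop]; exact Subgroup.mem_top _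
      exact (hmemH _).mp h3
    · intro g hg
      rw [Subgroup.eq_bot_iff_forall]
      rintro x ⟨hx1, hx2⟩
      have hx2' : (MulAut.conj g)⁻¹ • x ∈ H' :=
        Subgroup.mem_pointwise_smul_iff_inv_smul_mem.mp hx2
      have e : (MulAut.conj g)⁻¹ • x = g⁻¹ * x * g := by
        simp [MulAut.smul_def]
      rw [e] at hx2'
      have h3 := hFr g.1 g.2 (fun h => hg ((hmemH g).mpr h)) x.1 x.2 ((hmemH x).mp hx1)
        ((hmemH _).mp hx2')
      exact Subtype.ext h3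
  obtain ⟨N, hNset, hNnorm, hNcompl⟩ := Cfsg.Agent.S0035.result H' hFrob
  have hNH : ∀ n : M, n ∈ N → n ∈ H' → n = 1 := by
    intro n hn hn'
    have h3 : n ∈ N ⊓ H' := ⟨hn, hn'⟩
    rw [hNcompl.disjoint.eq_bot, Subgroup.mem_bot] at h3
    exact h3
  have hcardmul := hNcompl.card_mul_card
  have hNbot : N ≠ ⊥ := by
    rintro rfl
    rw [Subgroup.card_bot, one_mul] at hcardmul
    exact hFrob.2.1 ((Subgroup.card_eq_iff_eq_top H').mp hcardmul)
  -- the kernel has odd order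
  have hNodd : Odd (Nat.card N) := by
    by_contra hcon
    have heven : Even (Nat.card N) := Nat.not_odd_iff_even.mp hcon
    letI : MulAction M {n : M // n ∈ N ∧ n ≠ 1} :=
      { smul := fun g n => ⟨g * n.1 * g⁻¹, hNnorm.conj_mem n.1 n.2.1 g,
          fun h => n.2.2 (conj_eq_one_iff.mp h)⟩
        one_smul := fun n => Subtype.ext (by show (1 : M) * n.1 * (1 : M)⁻¹ = n.1; group)
        mul_smul := fun a b n => Subtype.ext (by
          show a * b * n.1 * (a * b)⁻¹ = a * (b * n.1 * b⁻¹) * a⁻¹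
          group) }
    haveI : Fintype M := Fintype.ofFinite _
    have hcardΩ : Fintype.card {n : M // n ∈ N ∧ n ≠ 1} = Nat.card N - 1 := by
      rw [Fintype.card_subtype]
      have e2 : Finset.univ.filter (fun n : M => n ∈ N ∧ n ≠ 1) =
          (Finset.univ.filter (fun n : M => n ∈ N)).erase 1 := by
        ext n
        simp [and_comm]
      have e3 : (Finset.univ.filter (fun n : M => n ∈ N)).card = Nat.card N := by
        rw [Nat.card_eq_fintype_card, Fintype.card_subtype]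
      rw [e2, Finset.card_erase_of_mem (Finset.mem_filter.mpr ⟨Finset.mem_univ _, N.one_mem⟩), e3]
    have hoddΩ : Odd (Fintype.card {n : M // n ∈ N ∧ n ≠ 1}) := by
      rw [hcardΩ]
      have hpos : 0 < Nat.card N := Nat.card_pos
      obtain ⟨r, hr⟩ := heven
      exact ⟨r - 1, by omega⟩
    have ht2 : (⟨uG σ hσ hσ2 h2 0 β, ht⟩ : M) * ⟨uG σ hσ hσ2 h2 0 β, ht⟩ = 1 := by
      apply Subtype.ext
      show uG σ hσ hσ2 h2 0 β * uG σ hσ hσ2 h2 0 β = 1
      rw [uG_sq, map_zero, zero_mul, uG_zero]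
    obtain ⟨n, hn⟩ := invol_has_fixed_point hoddΩ (⟨uG σ hσ hσ2 h2 0 β, ht⟩ : M) ht2
    have hn' : uG σ hσ hσ2 h2 0 β * n.1.1 * (uG σ hσ hσ2 h2 0 β)⁻¹ = n.1.1 :=
      congrArg (fun z : {n : M // n ∈ N ∧ n ≠ 1} => (z.1.1 : Sz F m)) hn
    have hcomm : n.1.1 * uG σ hσ hσ2 h2 0 β = uG σ hσ hσ2 h2 0 β * n.1.1 := by
      rw [mul_inv_eq_iff_eq_mul] at hn'
      exact hn'.symm
    exact n.2.2 (hNH n.1 n.2.1 ((hmemH _).mpr (hcomm_B _ hcomm)))
  -- the image of the kernel in the big group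
  obtain ⟨N', hN'⟩ : ∃ N' : Subgroup (Sz F m), N' = N.map M.subtype := ⟨_, rfl⟩
  have hN'card : Nat.card N' = Nat.card N := by
    rw [hN']
    exact Subgroup.card_map_of_injective M.subtype_injective
  have hN'odd : Odd (Nat.card N') := by rw [hN'card]; exact hNodd
  obtain ⟨n₀, hn₀N, hn₀1⟩ : ∃ n₀ ∈ N, n₀ ≠ 1 := by
    by_contra hcon
    apply hNbot
    rw [Subgroup.eq_bot_iff_forall]
    intro x hx
    by_contra hx1
    exact hcon ⟨x, hx, hx1⟩
  have hn₀N' : n₀.1 ∈ N' := by rw [hN']; exact ⟨n₀, hn₀N, rfl⟩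
  have hn₀1' : n₀.1 ≠ 1 := fun e => hn₀1 (Subtype.ext e)
  have hle := odd_in_torus σ τ hσ hσ2 hτ h2 hm hF N' hN'odd n₀.1 hn₀N' hn₀1'
  have hnU := not_tiU_of_odd σ τ hσ hσ2 hτ h2 hm hF N' hN'odd n₀.1 hn₀N' hn₀1'
  obtain ⟨-, -, hcent, -⟩ := toral σ τ hσ hσ2 hτ h2 hm hF n₀.1 hn₀1' hnU
  right; left
  refine ⟨n₀.1, hn₀1', hnU, fun x hx => ?_⟩
  have hconj : x * n₀.1 * x⁻¹ ∈ N' := by
    rw [hN']
    exact ⟨(⟨x, hx⟩ : M) * n₀ * (⟨x, hx⟩ : M)⁻¹, hNnorm.conj_mem n₀ hn₀N _, rfl⟩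
  have hconj1 : x * n₀.1 * x⁻¹ ≠ 1 := fun e => hn₀1' (conj_eq_one_iff.mp e)
  have e2 := hcent _ (hle hconj) hconj1
  rw [Subgroup.mem_normalizer_iff]
  intro y
  have key := cent_conj_iff x n₀.1 y
  rw [e2] at key
  exact key

end good

section zass

variable {F : Type*} [Field F] [Fintype F] {m : ℕ} (σ τ : F →+* F)
  (hσ : ∀ x, σ x = x ^ (2 ^ (m + 1)))
  (hσ2 : ∀ x, σ (σ x) = x ^ 2) (hτ : ∀ x, τ x ^ 2 = σ x) (h2 : (2 : F) = 0)

theorem sum_filter_swap {α β : Type*} (s : Finset α) (t : Finset β) (r : α → β → Prop) :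
    ∑ a ∈ s, (t.filter (fun b => r a b)).card = ∑ b ∈ t, (s.filter (fun a => r a b)).card :=
  Finset.sum_card_bipartiteAbove_eq_sum_card_bipartiteBelow r

/-- the action on the index set of the ovoid -/
def sact (hσ : ∀ x, σ x = x ^ (2 ^ (m + 1))) (g : Sz F m) (o : Option (F × F)) :
    Option (F × F) :=
  Classical.choose (Sz_pt σ hσ g.1 g.2 o)

theorem sact_spec (g : Sz F m) (o : Option (F × F)) :
    g.1 • pt σ o = pt σ (sact σ hσ g o) :=
  Classical.choose_spec (Sz_pt σ hσ g.1 g.2 o)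

theorem sact_eq_iff (g : Sz F m) (o o' : Option (F × F)) :
    sact σ hσ g o = o' ↔ g.1 • pt σ o = pt σ o' := by
  constructor
  · rintro rfl
    exact sact_spec σ hσ g o
  · intro h
    apply pt_inj σ
    rw [← sact_spec σ hσ g o, h]

theorem sact_one (o : Option (F × F)) : sact σ hσ 1 o = o :=
  (sact_eq_iff σ hσ 1 o o).mpr (one_smul _ _)

theorem sact_mul (g h : Sz F m) (o : Option (F × F)) :
    sact σ hσ (g * h) o = sact σ hσ g (sact σ hσ h o) := by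
  rw [sact_eq_iff]
  show (g.1 * h.1) • _ = _
  rw [mul_smul, sact_spec σ hσ h, sact_spec σ hσ g]

theorem sact_inv (g : Sz F m) (o o' : Option (F × F)) :
    sact σ hσ g⁻¹ o = o' ↔ sact σ hσ g o' = o := by
  rw [sact_eq_iff, sact_eq_iff]
  show g.1⁻¹ • _ = _ ↔ _
  rw [inv_smul_eq_iff]
  exact eq_comm

theorem sact_inj (g : Sz F m) (o o' : Option (F × F))
    (h : sact σ hσ g o = sact σ hσ g o') : o = o' := by
  have := congrArg (sact σ hσ g⁻¹) h
  rwa [← sact_mul, ← sact_mul, inv_mul_cancel, sact_one, sact_one] at this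

theorem sact_uG_none (a b : F) : sact σ hσ (uG σ hσ hσ2 h2 a b) none = none :=
  (sact_eq_iff σ hσ _ _ _).mpr (tS_inf σ a b)

theorem sact_uG_some (a b x y : F) :
    sact σ hσ (uG σ hσ hσ2 h2 a b) (some (x, y)) = some (x + a, y + b + σ a * x) :=
  (sact_eq_iff σ hσ _ _ _).mpr (tS_aff σ hσ2 h2 a b x y)

theorem sact_dG_none (κ : Fˣ) : sact σ hσ (dG σ τ hσ hσ2 hτ κ) none = none :=
  (sact_eq_iff σ hσ _ _ _).mpr (dS_inf σ τ hτ κ)

theorem sact_dG_some (κ : Fˣ) (x y : F) :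
    sact σ hσ (dG σ τ hσ hσ2 hτ κ) (some (x, y)) = some ((κ : F) * x, (κ : F) * σ κ * y) :=
  (sact_eq_iff σ hσ _ _ _).mpr (dS_aff σ τ hσ2 hτ κ x y)

theorem sact_wG_none : sact σ hσ (wG σ hσ hσ2 h2) none = some (0, 0) :=
  (sact_eq_iff σ hσ _ _ _).mpr (wS_inf σ h2)

theorem sact_wG_zero : sact σ hσ (wG σ hσ hσ2 h2) (some (0, 0)) = none :=
  (sact_eq_iff σ hσ _ _ _).mpr (wS_zero σ h2)

theorem sact_wG_aff0 (y : F) (hy : y ≠ 0) :
    sact σ hσ (wG σ hσ hσ2 h2) (some (0, y)) = some (y / σ y, 0) :=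
  (sact_eq_iff σ hσ _ _ _).mpr (wS_aff0 σ hσ2 h2 y hy)

theorem mem_szB_sact (g : Sz F m) : g ∈ szB (F := F) m ↔ sact σ hσ g none = none := by
  rw [mem_szB σ, sact_eq_iff]

include hσ2 hτ h2 in
theorem sact_three (hm : 1 ≤ m) (hF : Fintype.card F = 2 ^ (2 * m + 1)) (g : Sz F m)
    (o₁ o₂ o₃ : Option (F × F)) (h12 : o₁ ≠ o₂) (h23 : o₂ ≠ o₃) (h13 : o₁ ≠ o₃)
    (h1 : sact σ hσ g o₁ = o₁) (h2' : sact σ hσ g o₂ = o₂) (h3 : sact σ hσ g o₃ = o₃) : g = 1 :=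
  Subtype.ext (Sz_three σ τ hσ hσ2 hτ h2 hm hF g.1 g.2 o₁ o₂ o₃ h12 h23 h13
    ((sact_eq_iff σ hσ _ _ _).mp h1) ((sact_eq_iff σ hσ _ _ _).mp h2')
    ((sact_eq_iff σ hσ _ _ _).mp h3))

theorem sact_uG_fix (a b : F) (hab : ¬ (a = 0 ∧ b = 0)) (o : Option (F × F))
    (h : sact σ hσ (uG σ hσ hσ2 h2 a b) o = o) : o = none :=
  tS_fix σ hσ2 h2 a b hab o ((sact_eq_iff σ hσ _ _ _).mp h)

theorem sact_dG_fix (κ : Fˣ) (hκ : κ ≠ 1) (o : Option (F × F))
    (h : sact σ hσ (dG σ τ hσ hσ2 hτ κ) o = o) : o = none ∨ o = some (0, 0) :=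
  dS_fix σ τ hσ2 hτ κ hκ o ((sact_eq_iff σ hσ _ _ _).mp h)

include hσ2 hτ h2 in
theorem fix_two_dG (hm : 1 ≤ m) (hF : Fintype.card F = 2 ^ (2 * m + 1)) (g : Sz F m)
    (h1 : sact σ hσ g none = none) (h0 : sact σ hσ g (some (0, 0)) = some (0, 0)) :
    ∃ κ, g = dG σ τ hσ hσ2 hτ κ := by
  obtain ⟨κ, hκ⟩ := Sz_fix_two σ τ hσ hσ2 hτ h2 hm hF g.1 g.2
    ((sact_eq_iff σ hσ _ _ _).mp h1) ((sact_eq_iff σ hσ _ _ _).mp h0)
  exact ⟨κ, Subtype.ext hκ⟩

theorem sact_conj_fix (g s : Sz F m) (o : Option (F × F)) :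
    sact σ hσ (g * s * g⁻¹) o = o ↔
      sact σ hσ s (sact σ hσ g⁻¹ o) = sact σ hσ g⁻¹ o := by
  rw [sact_mul, sact_mul]
  constructor
  · intro h
    have := congrArg (sact σ hσ g⁻¹) h
    rw [← sact_mul σ hσ g⁻¹ g, inv_mul_cancel, sact_one] at this
    exact this
  · intro h
    rw [h, ← sact_mul, mul_inv_cancel, sact_one]

/-- conjugating a central involution by an element of the Borel subgroup -/
theorem conj_B_central (a b c : F) (κ : Fˣ) :
    (uG σ hσ hσ2 h2 a b * dG σ τ hσ hσ2 hτ κ) * uG σ hσ hσ2 h2 0 c *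
      (uG σ hσ hσ2 h2 a b * dG σ τ hσ hσ2 hτ κ)⁻¹ = uG σ hσ hσ2 h2 0 (κ * σ κ * c) := by
  rw [mul_inv_eq_iff_eq_mul, mul_assoc (uG σ hσ hσ2 h2 a b), dG_uG, mul_zero, ← mul_assoc,
    ← mul_assoc, uG_mul, uG_mul]
  congr 2
  · ring
  · simp only [map_zero, zero_mul, mul_zero, add_zero]
    ring

end zass

end

end Cfsg.Agent.Helper3
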