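import Mathlib
import Cfsg.Agent.Helper3.SuzukiMax

set_option autoImplicit false
set_option linter.unusedSectionVars false
set_option linter.style.haveILetI false
set_option linter.unusedSimpArgs false
set_option linter.unusedVariables false

namespace Cfsg.Agent.Helper3

open scoped Classical Pointwise
open Cfsg Matrix

noncomputable section

section zreg

variable {F : Type*} [Field F] [Fintype F] {m : ℕ} (σ τ : F →+* F)
  (hσ : ∀ x, σ x = x ^ (2 ^ (m + 1)))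
  (hσ2 : ∀ x, σ (σ x) = x ^ 2) (hτ : ∀ x, τ x ^ 2 = σ x) (h2 : (2 : F) = 0)

local notation (name := h3uF2) "uF" => uG σ hσ hσ2 h2
local notation (name := h3dF2) "dF" => dG σ τ hσ hσ2 hτ
local notation (name := h3wF2) "wF" => wG σ hσ hσ2 h2
local notation (name := h3sa2) "sa" => sact σ hσ

theorem sum_filter_swap' {α β : Type*} (s : Finset α) (t : Finset β) (r : α → β → Prop)
    [∀ a b, Decidable (r a b)] :
    ∑ a ∈ s, (t.filter (fun b => r a b)).card = ∑ b ∈ t, (s.filter (fun a => r a b)).card :=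
  Finset.sum_card_bipartiteAbove_eq_sum_card_bipartiteBelow r

theorem invol_fix_iff (g : Sz F m) (b : F) (hb : b ≠ 0) (o : Option (F × F)) :
    sa (g * uF 0 b * g⁻¹) o = o ↔ o = sa g none := by
  rw [sact_conj_fix]
  constructor
  · intro h
    have h3 := sact_uG_fix σ hσ hσ2 h2 0 b (fun hh => hb hh.2) _ h
    exact ((sact_inv σ hσ g o none).mp h3).symm
  · intro h
    have h3 : sa g⁻¹ o = none := (sact_inv σ hσ g o none).mpr h.symm
    rw [h3, sact_uG_none]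

theorem conj_dG_central (c : F) (κ : Fˣ) :
    dF κ * uF 0 c * (dF κ)⁻¹ = uF 0 (κ * σ κ * c) := by
  have := conj_B_central σ τ hσ hσ2 hτ h2 0 0 c κ
  rwa [uG_zero, one_mul] at this

theorem borel_same_torus (a b a' b' : F) (κ : Fˣ) :
    ∃ c d, (uF a b * dF κ)⁻¹ * (uF a' b' * dF κ) = uF c d := by
  refine ⟨((κ⁻¹ : Fˣ) : F) * (a + a'),
    ((κ⁻¹ : Fˣ) : F) * σ ((κ⁻¹ : Fˣ) : F) * (b + σ a * a + b' + σ a * a'), ?_⟩
  rw [_root_.mul_inv_rev, uG_inv, dG_inv, mul_assoc, ← mul_assoc (uF a (b + σ a * a)), uG_mul,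
    ← mul_assoc, dG_uG, mul_assoc, ← dG_mul, inv_mul_cancel, dG_one, mul_one]

include hσ hσ2 hτ h2 in
/-- the counting argument: the unipotent part of `M` is regular on the orbit of the point at
infinity, and the torus part is transitive on the central involutions -/
theorem Z_reg (hm : 1 ≤ m) (hF : Fintype.card F = 2 ^ (2 * m + 1)) (M : Subgroup (Sz F m))
    (β : F) (hβ : β ≠ 0) (ht : uF 0 β ∈ M) (μ : Fˣ) (hμ : μ ≠ 1) (hd : dF μ ∈ M)
    (g₁ : Sz F m) (hg₁M : g₁ ∈ M) (hg₁ : sa g₁ none = some (0, 0)) :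
    (∀ g ∈ M, sa g none ≠ none → ∃ a b, uF a b ∈ M ∧ sa g none = some (a, b)) ∧
    (∀ x ∈ M, sa x none = none → ∃ a b κ, uF a b ∈ M ∧ dF κ ∈ M ∧ x = uF a b * dF κ) ∧
    (∀ b₁ b₂ : F, b₁ ≠ 0 → b₂ ≠ 0 → uF 0 b₁ ∈ M → uF 0 b₂ ∈ M →
      ∃ κ : Fˣ, dF κ ∈ M ∧ b₂ = κ * σ κ * b₁) := by
  haveI := Sz_finite σ τ hσ hσ2 hτ h2 hm hF
  haveI : Fintype (Sz F m) := Fintype.ofFinite _
  -- the finite sets
  obtain ⟨BF, hBF⟩ : ∃ BF : Finset (Sz F m), ∀ x, x ∈ BF ↔ x ∈ M ∧ sa x none = none :=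
    ⟨Finset.univ.filter (fun x => x ∈ M ∧ sa x none = none), fun x => by simp⟩
  obtain ⟨SF, hSF⟩ : ∃ SF : Finset (Sz F m), ∀ x, x ∈ SF ↔ x ∈ M ∧ ∃ a b, x = uF a b :=
    ⟨Finset.univ.filter (fun x => x ∈ M ∧ ∃ a b, x = uF a b), fun x => by simp⟩
  obtain ⟨IS, hIS⟩ : ∃ IS : Finset (Sz F m), ∀ x, x ∈ IS ↔ x ∈ M ∧ ∃ b, b ≠ 0 ∧ x = uF 0 b :=
    ⟨Finset.univ.filter (fun x => x ∈ M ∧ ∃ b, b ≠ 0 ∧ x = uF 0 b), fun x => by simp⟩
  obtain ⟨DF, hDF⟩ : ∃ DF : Finset (Sz F m), ∀ x, x ∈ DF ↔ x ∈ M ∧ ∃ κ, x = dF κ :=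
    ⟨Finset.univ.filter (fun x => x ∈ M ∧ ∃ κ, x = dF κ), fun x => by simp⟩
  obtain ⟨Δ, hΔ⟩ : ∃ Δ : Finset (Option (F × F)), ∀ o, o ∈ Δ ↔ ∃ g ∈ M, sa g none = o :=
    ⟨(Finset.univ.filter (fun x => x ∈ M)).image (fun g => sa g none), fun o => by simp⟩
  obtain ⟨Δ', hΔ', hΔcard⟩ : ∃ Δ' : Finset (Option (F × F)),
      (∀ o, o ∈ Δ' ↔ o ≠ none ∧ ∃ g ∈ M, sa g none = o) ∧ Δ'.card + 1 = Δ.card := by
    refine ⟨Δ.erase none, fun o => by rw [Finset.mem_erase, hΔ], ?_⟩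
    exact Finset.card_erase_add_one ((hΔ none).mpr ⟨1, M.one_mem, sact_one σ hσ none⟩)
  obtain ⟨Inv, hInv⟩ : ∃ Inv : Finset (Sz F m),
      ∀ t, t ∈ Inv ↔ ∃ g ∈ M, ∃ s ∈ IS, t = g * s * g⁻¹ :=
    ⟨Finset.univ.filter (fun t => ∃ g ∈ M, ∃ s ∈ IS, t = g * s * g⁻¹), fun t => by simp⟩
  -- basic facts
  have hBdec : ∀ x, sa x none = none → ∃ a b κ, x = uF a b * dF κ := fun x hx =>
    (mem_szB_iff' σ τ hσ hσ2 hτ h2 hm hF x).mp ((mem_szB_sact σ hσ x).mpr hx)
  have hIS_B : ∀ x ∈ M, sa x none = none → ∀ s ∈ IS, x * s * x⁻¹ ∈ IS := by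
    intro x hx hxB s hs
    obtain ⟨hsM, b, hb, rfl⟩ := (hIS s).mp hs
    obtain ⟨a, c, κ, rfl⟩ := hBdec x hxB
    rw [conj_B_central]
    refine (hIS _).mpr ⟨?_, κ * σ κ * b, ?_, rfl⟩
    · rw [← conj_B_central σ τ hσ hσ2 hτ h2 a c b κ]
      exact M.mul_mem (M.mul_mem hx hsM) (M.inv_mem hx)
    · exact mul_ne_zero (mul_ne_zero κ.ne_zero ((map_ne_zero σ).mpr κ.ne_zero)) hb
  have hInvM : ∀ t ∈ Inv, t ∈ M := by
    intro t ht
    obtain ⟨g, hg, s, hs, rfl⟩ := (hInv t).mp ht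
    exact M.mul_mem (M.mul_mem hg ((hIS s).mp hs).1) (M.inv_mem hg)
  have hInvsq : ∀ t ∈ Inv, t * t = 1 := by
    intro t ht
    obtain ⟨g, hg, s, hs, rfl⟩ := (hInv t).mp ht
    obtain ⟨-, b, hb, rfl⟩ := (hIS s).mp hs
    have : uF 0 b * uF 0 b = 1 := by rw [uG_sq, map_zero, zero_mul, uG_zero]
    calc g * uF 0 b * g⁻¹ * (g * uF 0 b * g⁻¹) = g * (uF 0 b * uF 0 b) * g⁻¹ := by group
      _ = 1 := by rw [this]; group
  have hInvfix : ∀ t ∈ Inv, ∀ o, sa t (sa t o) = o := by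
    intro t ht o
    rw [← sact_mul, hInvsq t ht, sact_one]
  have hISInv : ∀ s ∈ IS, s ∈ Inv := by
    intro s hs
    exact (hInv s).mpr ⟨1, M.one_mem, s, hs, by group⟩
  -- (c1)
  have hc1 : Inv.card = Δ.card * IS.card := by
    have e1 : ∑ t ∈ Inv, (Δ.filter (fun δ => sa t δ = δ)).card =
        ∑ δ ∈ Δ, (Inv.filter (fun t => sa t δ = δ)).card :=
      sum_filter_swap' Inv Δ (fun t δ => sa t δ = δ)
    have e2 : ∀ t ∈ Inv, (Δ.filter (fun δ => sa t δ = δ)).card = 1 := by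
      intro t ht
      obtain ⟨g, hg, s, hs, rfl⟩ := (hInv t).mp ht
      obtain ⟨-, b, hb, rfl⟩ := (hIS s).mp hs
      rw [Finset.card_eq_one]
      refine ⟨sa g none, ?_⟩
      ext δ
      rw [Finset.mem_filter, Finset.mem_singleton, invol_fix_iff σ hσ hσ2 h2 g b hb]
      constructor
      · exact fun h => h.2
      · rintro rfl
        exact ⟨(hΔ _).mpr ⟨g, hg, rfl⟩, rfl⟩
    have e3 : ∀ δ ∈ Δ, (Inv.filter (fun t => sa t δ = δ)).card = IS.card := by
      intro δ hδ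
      obtain ⟨g, hg, rfl⟩ := (hΔ δ).mp hδ
      have e4 : Inv.filter (fun t => sa t (sa g none) = sa g none) =
          IS.image (fun s => g * s * g⁻¹) := by
        ext t
        rw [Finset.mem_filter, Finset.mem_image]
        constructor
        · rintro ⟨ht, hfix⟩
          obtain ⟨g', hg', s, hs, rfl⟩ := (hInv t).mp ht
          obtain ⟨hsM, b, hb, rfl⟩ := (hIS s).mp hs
          rw [invol_fix_iff σ hσ hσ2 h2 g' b hb] at hfix
          have hx : sa (g⁻¹ * g') none = none := by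
            rw [sact_mul, ← hfix, ← sact_mul, inv_mul_cancel, sact_one]
          exact ⟨(g⁻¹ * g') * uF 0 b * (g⁻¹ * g')⁻¹,
            hIS_B _ (M.mul_mem (M.inv_mem hg) hg') hx _ hs, by group⟩
        · rintro ⟨s, hs, rfl⟩
          obtain ⟨hsM, b, hb, rfl⟩ := (hIS s).mp hs
          exact ⟨(hInv _).mpr ⟨g, hg, _, hs, rfl⟩,
            (invol_fix_iff σ hσ hσ2 h2 g b hb _).mpr rfl⟩
      rw [e4, Finset.card_image_of_injective]
      intro s s' hss
      exact mul_left_cancel (mul_right_cancel hss)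
    rw [Finset.sum_congr rfl e2, Finset.sum_congr rfl e3, Finset.sum_const, Finset.sum_const,
      smul_eq_mul, smul_eq_mul, mul_one] at e1
    exact e1
  -- (c3)
  have hc3 : Inv.card = IS.card + ∑ δ ∈ Δ',
      ((Inv.filter (fun t => ¬ sa t none = none)).filter (fun t => sa t none = δ)).card := by
    have e1 := Finset.card_filter_add_card_filter_not (s := Inv) (fun t => sa t none = none)
    have e2 : Inv.filter (fun t => sa t none = none) = IS := by
      ext t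
      rw [Finset.mem_filter]
      constructor
      · rintro ⟨ht, hfix⟩
        obtain ⟨g, hg, s, hs, rfl⟩ := (hInv t).mp ht
        obtain ⟨hsM, b, hb, rfl⟩ := (hIS s).mp hs
        have hgB : sa g none = none := ((invol_fix_iff σ hσ hσ2 h2 g b hb none).mp hfix).symm
        exact hIS_B g hg hgB _ hs
      · intro hs
        obtain ⟨hsM, b, hb, rfl⟩ := (hIS t).mp hs
        exact ⟨hISInv _ hs, sact_uG_none σ hσ hσ2 h2 0 b⟩
    have e3 := Finset.card_eq_sum_card_fiberwise (f := fun t => sa t none)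
      (s := Inv.filter (fun t => ¬ sa t none = none)) (t := Δ') (fun t ht => by
        have ht' := Finset.mem_filter.mp (Finset.mem_coe.mp ht)
        exact Finset.mem_coe.mpr ((hΔ' _).mpr ⟨ht'.2, t, hInvM t ht'.1, rfl⟩))
    rw [e2, e3] at e1
    exact e1.symm
  -- (c2)
  have hc2 : ∀ δ ∈ Δ', ((Inv.filter (fun t => ¬ sa t none = none)).filter
      (fun t => sa t none = δ)).card ≤ (BF.filter (fun g => sa g δ = δ)).card := by
    intro δ hδ
    by_cases hemp : ((Inv.filter (fun t => ¬ sa t none = none)).filter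
        (fun t => sa t none = δ)) = ∅
    · rw [hemp]; exact Nat.zero_le _
    · obtain ⟨t₀, ht₀⟩ := Finset.nonempty_iff_ne_empty.mpr hemp
      rw [Finset.mem_filter, Finset.mem_filter] at ht₀
      obtain ⟨⟨ht₀I, -⟩, ht₀δ⟩ := ht₀
      apply Finset.card_le_card_of_injOn (fun t => t₀ * t)
      · intro t ht
        have ht' := Finset.mem_coe.mp ht
        rw [Finset.mem_filter, Finset.mem_filter] at ht'
        obtain ⟨⟨htI, -⟩, htδ⟩ := ht'
        have h1 : sa t₀ δ = none := by rw [← ht₀δ]; exact hInvfix t₀ ht₀I none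
        have h2' : sa t δ = none := by rw [← htδ]; exact hInvfix t htI none
        refine Finset.mem_coe.mpr (Finset.mem_filter.mpr
          ⟨(hBF _).mpr ⟨M.mul_mem (hInvM _ ht₀I) (hInvM _ htI), ?_⟩, ?_⟩)
        · rw [sact_mul, htδ, h1]
        · rw [sact_mul, h2', ht₀δ]
      · intro t _ t' _ htt
        exact mul_left_cancel htt
  -- (c4)
  have h1BF : (1 : Sz F m) ∈ BF := (hBF 1).mpr ⟨M.one_mem, sact_one σ hσ none⟩
  have hc4 : ∑ δ ∈ Δ', (BF.filter (fun g => sa g δ = δ)).card + SF.card ≤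
      Δ'.card + BF.card := by
    have e1 : ∑ δ ∈ Δ', (BF.filter (fun g => sa g δ = δ)).card =
        ∑ g ∈ BF, (Δ'.filter (fun δ => sa g δ = δ)).card :=
      sum_filter_swap' Δ' BF (fun δ g => sa g δ = δ)
    have e2 : ∀ g ∈ BF, (Δ'.filter (fun δ => sa g δ = δ)).card ≤
        (if g = 1 then Δ'.card else 0) + (if g ∈ SF then 0 else 1) := by
      intro g hg
      by_cases hg1 : g = 1
      · rw [if_pos hg1]
        exact le_trans (Finset.card_filter_le _ _) (Nat.le_add_right _ _)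
      · rw [if_neg hg1, zero_add]
        by_cases hgS : g ∈ SF
        · rw [if_pos hgS, Nat.le_zero, Finset.card_eq_zero, Finset.filter_eq_empty_iff]
          intro δ hδ hfix
          obtain ⟨-, a, b, rfl⟩ := (hSF g).mp hgS
          have := sact_uG_fix σ hσ hσ2 h2 a b
            (fun hh => hg1 (by rw [hh.1, hh.2, uG_zero])) δ hfix
          exact ((hΔ' δ).mp hδ).1 this
        · rw [if_neg hgS, Finset.card_le_one]
          intro δ₁ h₁ δ₂ h₂
          rw [Finset.mem_filter] at h₁ h₂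
          by_contra hne
          exact hg1 (sact_three σ τ hσ hσ2 hτ h2 hm hF g none δ₁ δ₂
            (Ne.symm ((hΔ' δ₁).mp h₁.1).1) hne (Ne.symm ((hΔ' δ₂).mp h₂.1).1)
            ((hBF g).mp hg).2 h₁.2 h₂.2)
    have ea : ∑ g ∈ BF, (if g = 1 then Δ'.card else 0) = Δ'.card := by
      rw [Finset.sum_ite_eq' BF 1 (fun _ => Δ'.card), if_pos h1BF]
    have eb : ∑ g ∈ BF, (if g ∈ SF then 0 else 1) = (BF.filter (fun g => g ∉ SF)).card := by
      rw [Finset.card_filter]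
      apply Finset.sum_congr rfl
      intro g _
      by_cases hg : g ∈ SF <;> simp [hg]
    have e4 : (BF.filter (fun g => g ∉ SF)).card + SF.card = BF.card := by
      have e5 := Finset.card_filter_add_card_filter_not (s := BF) (fun g => g ∈ SF)
      have e6 : BF.filter (fun g => g ∈ SF) = SF := by
        ext g
        rw [Finset.mem_filter]
        constructor
        · exact fun h => h.2
        · intro h
          refine ⟨(hBF g).mpr ?_, h⟩
          obtain ⟨hgM, a, b, rfl⟩ := (hSF g).mp h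
          exact ⟨hgM, sact_uG_none σ hσ hσ2 h2 a b⟩
      rw [e6] at e5
      omega
    have e7 := Finset.sum_le_sum e2
    rw [Finset.sum_add_distrib, ea, eb] at e7
    rw [e1]
    omega
  -- (c5)
  have hc5 : BF.card ≤ SF.card * IS.card := by
    apply Finset.card_le_mul_card_image_of_maps_to (f := fun g => g * uF 0 β * g⁻¹)
    · intro x hx
      obtain ⟨hxM, hxB⟩ := (hBF x).mp hx
      exact hIS_B x hxM hxB _ ((hIS _).mpr ⟨ht, β, hβ, rfl⟩)
    · intro s hs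
      by_cases hemp : BF.filter (fun x => x * uF 0 β * x⁻¹ = s) = ∅
      · rw [hemp]; exact Nat.zero_le _
      · obtain ⟨x₀, hx₀⟩ := Finset.nonempty_iff_ne_empty.mpr hemp
        rw [Finset.mem_filter] at hx₀
        obtain ⟨hx₀B, hx₀s⟩ := hx₀
        obtain ⟨hx₀M, hx₀fix⟩ := (hBF x₀).mp hx₀B
        obtain ⟨a₀, b₀, κ₀, rfl⟩ := hBdec x₀ hx₀fix
        apply Finset.card_le_card_of_injOn (fun x => (uF a₀ b₀ * dF κ₀)⁻¹ * x)
        · intro x hx
          have hx' := Finset.mem_filter.mp (Finset.mem_coe.mp hx)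
          obtain ⟨hxB, hxs⟩ := hx'
          obtain ⟨hxM, hxfix⟩ := (hBF x).mp hxB
          obtain ⟨a, b, κ, rfl⟩ := hBdec x hxfix
          rw [conj_B_central] at hxs hx₀s
          have hκ : κ = κ₀ := by
            have e : uF 0 (κ * σ κ * β) = uF 0 (κ₀ * σ κ₀ * β) := hxs.trans hx₀s.symm
            have e' := (uG_inj σ hσ hσ2 h2 _ _ _ _ e).2
            have e'' : (κ : F) * σ κ = κ₀ * σ κ₀ := mul_right_cancel₀ hβ e'
            exact Units.ext (norm_inj σ hσ2 e'')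
          subst hκ
          obtain ⟨c, d, hcd⟩ := borel_same_torus σ τ hσ hσ2 hτ h2 a₀ b₀ a b κ
          exact Finset.mem_coe.mpr ((hSF _).mpr ⟨M.mul_mem (M.inv_mem hx₀M) hxM, c, d, hcd⟩)
        · intro x _ x' _ hxx
          exact mul_left_cancel hxx
  -- (c6)
  have hmapS : ∀ u ∈ SF, sa u (some (0, 0)) ∈ Δ' := by
    intro u hu
    obtain ⟨huM, a, b, rfl⟩ := (hSF u).mp hu
    refine (hΔ' _).mpr ⟨?_, uF a b * g₁, M.mul_mem huM hg₁M, ?_⟩
    · rw [sact_uG_some]; exact Option.some_ne_none _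
    · rw [sact_mul, hg₁]
  have hinjS : Set.InjOn (fun u => sa u (some (0, 0))) (SF : Set (Sz F m)) := by
    intro u hu u' hu' huu
    obtain ⟨-, a, b, rfl⟩ := (hSF u).mp (Finset.mem_coe.mp hu)
    obtain ⟨-, a', b', rfl⟩ := (hSF u').mp (Finset.mem_coe.mp hu')
    have huu' : sa (uF a b) (some (0, 0)) = sa (uF a' b') (some (0, 0)) := huu
    rw [sact_uG_some, sact_uG_some] at huu'
    simp only [Option.some.injEq, Prod.mk.injEq, zero_add, mul_zero, add_zero] at huu'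
    rw [huu'.1, huu'.2]
  have hc6 : SF.card ≤ Δ'.card :=
    Finset.card_le_card_of_injOn (fun u => sa u (some (0, 0)))
      (fun u hu => Finset.mem_coe.mpr (hmapS u (Finset.mem_coe.mp hu))) hinjS
  have hIS2 : 2 ≤ IS.card := by
    have h1 : uF 0 β ∈ IS := (hIS _).mpr ⟨ht, β, hβ, rfl⟩
    have h2' : uF 0 (μ * σ μ * β) ∈ IS := by
      rw [← conj_dG_central σ τ hσ hσ2 hτ h2 β μ]
      exact hIS_B _ hd (sact_dG_none σ τ hσ hσ2 hτ μ) _ h1
    have hne : uF 0 β ≠ uF 0 (μ * σ μ * β) := by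
      intro e
      have e' := (uG_inj σ hσ hσ2 h2 _ _ _ _ e).2
      have e'' : (μ : F) * σ μ = 1 := by
        have : (1 : F) * β = μ * σ μ * β := by rw [one_mul]; exact e'
        exact (mul_right_cancel₀ hβ this).symm
      exact hμ (Units.ext (norm_eq_one σ hσ2 _ e''))
    exact Finset.one_lt_card.mpr ⟨_, h1, _, h2', hne⟩
  -- arithmetic
  have hfib := Finset.sum_le_sum hc2
  have hDS : Δ'.card = SF.card ∧ BF.card = SF.card * IS.card := by
    have h1 : (Δ'.card + 1) * IS.card = IS.card + ∑ δ ∈ Δ',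
        ((Inv.filter (fun t => ¬ sa t none = none)).filter (fun t => sa t none = δ)).card := by
      rw [hΔcard, ← hc1]; exact hc3
    obtain ⟨e, he⟩ : ∃ e, Δ'.card = SF.card + e := ⟨Δ'.card - SF.card, by omega⟩
    rw [he] at h1 hc4
    rw [he]
    have h3 : (SF.card + e + 1) * IS.card = SF.card * IS.card + e * IS.card + IS.card := by ring
    rw [h3] at h1
    have h4 : e * IS.card ≤ e := by omega
    have h5 : e * 2 ≤ e * IS.card := Nat.mul_le_mul_left e hIS2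
    have h6 : e = 0 := by omega
    subst h6
    refine ⟨by omega, ?_⟩
    omega
  -- (R1)
  have hR1 : ∀ g ∈ M, sa g none ≠ none → ∃ a b, uF a b ∈ M ∧ sa g none = some (a, b) := by
    intro g hg hne
    have himg : SF.image (fun u => sa u (some (0, 0))) = Δ' := by
      apply Finset.eq_of_subset_of_card_le
      · intro o ho
        obtain ⟨u, hu, rfl⟩ := Finset.mem_image.mp ho
        exact hmapS u hu
      · rw [Finset.card_image_of_injOn hinjS, hDS.1]
    have hmem : sa g none ∈ Δ' := (hΔ' _).mpr ⟨hne, g, hg, rfl⟩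
    rw [← himg] at hmem
    obtain ⟨u, hu, hu'⟩ := Finset.mem_image.mp hmem
    obtain ⟨huM, a, b, rfl⟩ := (hSF u).mp hu
    refine ⟨a, b, huM, ?_⟩
    rw [← hu', sact_uG_some]
    simp
  -- (R3)
  have hR3 : ∀ x ∈ M, sa x none = none →
      ∃ a b κ, uF a b ∈ M ∧ dF κ ∈ M ∧ x = uF a b * dF κ := by
    intro x hx hxB
    have hne : sa (x * g₁) none ≠ none := by
      rw [sact_mul, hg₁]
      intro h
      have := sact_inj σ hσ x _ _ (h.trans hxB.symm)
      exact absurd this (by simp)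
    obtain ⟨a, b, huM, hab⟩ := hR1 (x * g₁) (M.mul_mem hx hg₁M) hne
    rw [sact_mul, hg₁] at hab
    have h0 : sa ((uF a b)⁻¹ * x) (some (0, 0)) = some (0, 0) := by
      rw [sact_mul, hab, sact_inv, sact_uG_some]
      simp
    have h1 : sa ((uF a b)⁻¹ * x) none = none := by
      rw [sact_mul, hxB, sact_inv, sact_uG_none]
    obtain ⟨κ, hκ⟩ := fix_two_dG σ τ hσ hσ2 hτ h2 hm hF _ h1 h0
    refine ⟨a, b, κ, huM, ?_, ?_⟩
    · rw [← hκ]; exact M.mul_mem (M.inv_mem huM) hx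
    · rw [← hκ]; group
  refine ⟨hR1, hR3, ?_⟩
  -- (R2)
  intro b₁ b₂ hb₁ hb₂ h₁ h₂
  have hBsub : BF ⊆ Finset.image₂ (fun u d => u * d) SF DF := by
    intro x hx
    obtain ⟨hxM, hxB⟩ := (hBF x).mp hx
    obtain ⟨a, b, κ, huM, hdM, rfl⟩ := hR3 x hxM hxB
    exact Finset.mem_image₂.mpr
      ⟨_, (hSF _).mpr ⟨huM, a, b, rfl⟩, _, (hDF _).mpr ⟨hdM, κ, rfl⟩, rfl⟩
  have hle : BF.card ≤ SF.card * DF.card :=
    le_trans (Finset.card_le_card hBsub) (Finset.card_image₂_le _ _ _)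
  have hSpos : 0 < SF.card :=
    Finset.card_pos.mpr ⟨1, (hSF 1).mpr ⟨M.one_mem, 0, 0, (uG_zero σ hσ hσ2 h2).symm⟩⟩
  have hID : IS.card ≤ DF.card := by
    rw [hDS.2] at hle
    exact Nat.le_of_mul_le_mul_left hle hSpos
  have hinj : Set.InjOn (fun d => d * uF 0 b₁ * d⁻¹) (DF : Set (Sz F m)) := by
    intro d hd' d' hd'' hdd
    obtain ⟨-, κ, rfl⟩ := (hDF d).mp (Finset.mem_coe.mp hd')
    obtain ⟨-, κ', rfl⟩ := (hDF d').mp (Finset.mem_coe.mp hd'')
    have hdd' : dF κ * uF 0 b₁ * (dF κ)⁻¹ = dF κ' * uF 0 b₁ * (dF κ')⁻¹ := hdd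
    rw [conj_dG_central, conj_dG_central] at hdd'
    have e' := (uG_inj σ hσ hσ2 h2 _ _ _ _ hdd').2
    have e'' : (κ : F) * σ κ = κ' * σ κ' := mul_right_cancel₀ hb₁ e'
    rw [Units.ext (norm_inj σ hσ2 e'')]
  have himg : DF.image (fun d => d * uF 0 b₁ * d⁻¹) = IS := by
    apply Finset.eq_of_subset_of_card_le
    · intro s hs
      obtain ⟨d, hd', rfl⟩ := Finset.mem_image.mp hs
      obtain ⟨hdM, κ, rfl⟩ := (hDF d).mp hd'
      exact hIS_B _ hdM (sact_dG_none σ τ hσ hσ2 hτ κ) _ ((hIS _).mpr ⟨h₁, b₁, hb₁, rfl⟩)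
    · rw [Finset.card_image_of_injOn hinj]; exact hID
  have hmem : uF 0 b₂ ∈ IS := (hIS _).mpr ⟨h₂, b₂, hb₂, rfl⟩
  rw [← himg] at hmem
  obtain ⟨d, hd', hd''⟩ := Finset.mem_image.mp hmem
  obtain ⟨hdM, κ, rfl⟩ := (hDF d).mp hd'
  rw [conj_dG_central] at hd''
  exact ⟨κ, hdM, ((uG_inj σ hσ hσ2 h2 _ _ _ _ hd'').2).symm⟩

end zreg

end

end Cfsg.Agent.Helper3
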