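import Mathlib
import Cfsg.Agent.Helper3.SuzukiMax2

set_option autoImplicit false
set_option linter.unusedSectionVars false
set_option linter.style.haveILetI false
set_option linter.unusedSimpArgs false
set_option linter.unusedVariables false

namespace Cfsg.Agent.Helper3

open scoped Classical Pointwise
open Cfsg Matrix

noncomputable section

section zstd

variable {F : Type*} [Field F] [Fintype F] {m : ℕ} (σ τ : F →+* F)
  (hσ : ∀ x, σ x = x ^ (2 ^ (m + 1)))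
  (hσ2 : ∀ x, σ (σ x) = x ^ 2) (hτ : ∀ x, τ x ^ 2 = σ x) (h2 : (2 : F) = 0)

local notation (name := h3uF3) "uF" => uG σ hσ hσ2 h2
local notation (name := h3dF3) "dF" => dG σ τ hσ hσ2 hτ
local notation (name := h3wF3) "wF" => wG σ hσ hσ2 h2
local notation (name := h3sa3) "sa" => sact σ hσ

/-- every root of `X ^ |K| - X` lies in the image of an embedding of `K` -/
theorem root_in_image {K : Type*} [Field K] [Fintype K] (ψ : K →+* F) (y : F)
    (hy : y ^ Fintype.card K = y) : ∃ x, ψ x = y := by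
  obtain ⟨s, hs⟩ : ∃ s, s = Fintype.card K := ⟨_, rfl⟩
  have hs1 : 1 < s := by rw [hs]; exact Fintype.one_lt_card
  let R : Finset F := Finset.univ.filter (fun y : F => y ^ s = y)
  have hR : R.card ≤ s := by
    have hp : (Polynomial.X ^ s - Polynomial.X : Polynomial F) ≠ 0 :=
      FiniteField.X_pow_card_sub_X_ne_zero F hs1
    have hdeg : (Polynomial.X ^ s - Polynomial.X : Polynomial F).natDegree = s :=
      FiniteField.X_pow_card_sub_X_natDegree_eq F hs1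
    have hsub : R ⊆ (Polynomial.X ^ s - Polynomial.X : Polynomial F).roots.toFinset := by
      intro y hy
      rw [Multiset.mem_toFinset, Polynomial.mem_roots hp]
      simp only [Polynomial.IsRoot, Polynomial.eval_sub, Polynomial.eval_pow, Polynomial.eval_X]
      rw [(Finset.mem_filter.mp hy).2, sub_self]
    calc R.card ≤ (Polynomial.X ^ s - Polynomial.X : Polynomial F).roots.toFinset.card :=
          Finset.card_le_card hsub
      _ ≤ Multiset.card (Polynomial.X ^ s - Polynomial.X : Polynomial F).roots :=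
          Multiset.toFinset_card_le _
      _ ≤ (Polynomial.X ^ s - Polynomial.X : Polynomial F).natDegree := Polynomial.card_roots' _
      _ = s := hdeg
  have himg : Finset.univ.image ψ ⊆ R := by
    intro y hy
    obtain ⟨z, -, rfl⟩ := Finset.mem_image.mp hy
    refine Finset.mem_filter.mpr ⟨Finset.mem_univ _, ?_⟩
    rw [← map_pow, hs, FiniteField.pow_card]
  have hcard : (Finset.univ.image ψ).card = s := by
    rw [Finset.card_image_of_injective _ ψ.injective, Finset.card_univ, hs]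
  have heq : Finset.univ.image ψ = R :=
    Finset.eq_of_subset_of_card_le himg (by rw [hcard]; exact hR)
  have hx : y ∈ R := Finset.mem_filter.mpr ⟨Finset.mem_univ _, by rw [hs]; exact hy⟩
  rw [← heq] at hx
  obtain ⟨x, -, hx'⟩ := Finset.mem_image.mp hx
  exact ⟨x, hx'⟩

theorem unit_sqrt (hF : Fintype.card F = 2 ^ (2 * m + 1)) (κ : Fˣ) :
    κ ^ (2 ^ (2 * m)) * κ ^ (2 ^ (2 * m)) = κ := by
  apply Units.ext
  rw [Units.val_mul, Units.val_pow_eq_pow_val, ← pow_two, ← pow_mul]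
  have : 2 ^ (2 * m) * 2 = Fintype.card F := by rw [hF, pow_succ]
  rw [this, FiniteField.pow_card]

include h2 in
theorem sq_inj_char2 (x y : F) (h : x * x = y * y) : x = y := by
  have h3 : (x - y) * (x - y) = 0 := by linear_combination h + (y * y - x * y) * h2
  exact sub_eq_zero.mp (mul_self_eq_zero.mp h3)

theorem conj_map_ne_top {G : Type*} [Group G] (c : G) (M : Subgroup G) (h : M ≠ ⊤) :
    M.map (MulAut.conj c).toMonoidHom ≠ ⊤ := by
  intro htop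
  apply h
  rw [eq_top_iff]
  intro x _
  have h3 : c * x * c⁻¹ ∈ M.map (MulAut.conj c).toMonoidHom := by rw [htop]; trivial
  exact (mem_conj_map c x M).mp h3

include hσ hσ2 hτ h2 in
/-- the standard position: `M` contains the Weyl element, a central involution and a nontrivial
torus element, hence is a subfield subgroup -/
theorem Z_std (hm : 1 ≤ m) (hF : Fintype.card F = 2 ^ (2 * m + 1)) (M : Subgroup (Sz F m))
    (hMtop : M ≠ ⊤) (β : F) (hβ : β ≠ 0) (ht : uF 0 β ∈ M) (μ : Fˣ) (hμ : μ ≠ 1)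
    (hd : dF μ ∈ M) (hw : wF ∈ M) : Good' σ hσ hσ2 h2 M := by
  obtain ⟨hR1, hR3, hR2⟩ := Z_reg σ τ hσ hσ2 hτ h2 hm hF M β hβ ht μ hμ hd wF hw
    (sact_wG_none σ hσ hσ2 h2)
  have hσ0 : ∀ x : F, x ≠ 0 → σ x ≠ 0 := fun x hx => (map_ne_zero σ).mpr hx
  have s0a : ∀ (κ : Fˣ) (b : F), dF κ ∈ M → uF 0 b ∈ M → uF 0 (κ * σ κ * b) ∈ M := by
    intro κ b hκ hb
    rw [← conj_dG_central σ τ hσ hσ2 hτ h2 b κ]
    exact M.mul_mem (M.mul_mem hκ hb) (M.inv_mem hκ)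
  have s0b : ∀ (κ : Fˣ) (a b : F), dF κ ∈ M → uF a b ∈ M →
      uF (κ * a) (κ * σ κ * b) ∈ M := by
    intro κ a b hκ hab
    have e : uF (κ * a) (κ * σ κ * b) = dF κ * uF a b * (dF κ)⁻¹ := by
      rw [dG_uG, mul_inv_cancel_right]
    rw [e]
    exact M.mul_mem (M.mul_mem hκ hab) (M.inv_mem hκ)
  have s1 : ∀ b : F, b ≠ 0 → uF 0 b ∈ M → uF (b / σ b) 0 ∈ M ∧ uF 0 b⁻¹ ∈ M := by
    intro b hb hbM
    have hgM : wF * uF 0 b * wF ∈ M := M.mul_mem (M.mul_mem hw hbM) hw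
    have hval : sa (wF * uF 0 b * wF) none = some (b / σ b, 0) := by
      rw [sact_mul, sact_wG_none, sact_mul, sact_uG_some]
      simp only [zero_add, map_zero, zero_mul, mul_zero, add_zero]
      exact sact_wG_aff0 σ hσ hσ2 h2 b hb
    obtain ⟨a', b', hM', hab'⟩ := hR1 _ hgM (by rw [hval]; exact Option.some_ne_none _)
    rw [hval] at hab'
    simp only [Option.some.injEq, Prod.mk.injEq] at hab'
    rw [← hab'.1, ← hab'.2] at hM'
    refine ⟨hM', ?_⟩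
    have hsq := M.mul_mem hM' hM'
    rw [uG_sq] at hsq
    have e : σ (b / σ b) * (b / σ b) = b⁻¹ := by
      rw [map_div₀, hσ2]
      have hσb := hσ0 b hb
      field_simp
    rw [e] at hsq
    exact hsq
  have h0Z : uF 0 0 ∈ M := by rw [uG_zero]; exact M.one_mem
  have hadd : ∀ b b' : F, uF 0 b ∈ M → uF 0 b' ∈ M → uF 0 (b + b') ∈ M := by
    intro b b' hb hb'
    have h3 := M.mul_mem hb hb'
    rw [uG_mul] at h3
    simpa using h3
  have hsqrtM : ∀ κ : Fˣ, dF κ ∈ M → ∃ κ' : Fˣ, κ' * κ' = κ ∧ dF κ' ∈ M := by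
    intro κ hκ
    refine ⟨κ ^ (2 ^ (2 * m)), unit_sqrt hF κ, ?_⟩
    rw [dG_pow]
    exact M.pow_mem hκ _
  have h1Z : uF 0 1 ∈ M := by
    obtain ⟨-, hβinv⟩ := s1 β hβ ht
    obtain ⟨κ, hκM, hκ⟩ := hR2 β β⁻¹ hβ (inv_ne_zero hβ) ht hβinv
    obtain ⟨κ', hκ', hκ'M⟩ := hsqrtM κ hκM
    have hN : (κ' : F) * σ κ' = β⁻¹ := by
      apply sq_inj_char2 h2
      have e1 : (κ : F) = κ' * κ' := by rw [← hκ', Units.val_mul]
      have e2 : (κ : F) * σ κ = β⁻¹ * β⁻¹ := by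
        calc (κ : F) * σ κ = (κ * σ κ * β) * β⁻¹ := by field_simp
          _ = β⁻¹ * β⁻¹ := by rw [← hκ]
      calc (κ' : F) * σ κ' * (κ' * σ κ') = (κ' * κ') * σ (κ' * κ') := by rw [map_mul]; ring
        _ = κ * σ κ := by rw [← e1]
        _ = β⁻¹ * β⁻¹ := e2
    have h3 := s0a κ' β hκ'M ht
    rw [hN, inv_mul_cancel₀ hβ] at h3
    exact h3
  have hmulZ : ∀ b b' : F, uF 0 b ∈ M → uF 0 b' ∈ M → uF 0 (b * b') ∈ M := by
    intro b b' hb hb'
    by_cases hb0 : b = 0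
    · rw [hb0, zero_mul]; exact h0Z
    · obtain ⟨κ, hκM, hκ⟩ := hR2 1 b one_ne_zero hb0 h1Z hb
      rw [mul_one] at hκ
      rw [hκ]
      exact s0a κ b' hκM hb'
  have hinvZ : ∀ b : F, uF 0 b ∈ M → uF 0 b⁻¹ ∈ M := by
    intro b hb
    by_cases hb0 : b = 0
    · rw [hb0, _root_.inv_zero]; exact h0Z
    · exact (s1 b hb0 hb).2
  -- the subfield
  let K : Subfield F :=
    { carrier := {b | uF 0 b ∈ M}
      mul_mem' := fun {a b} ha hb => hmulZ a b ha hb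
      one_mem' := h1Z
      add_mem' := fun {a b} ha hb => hadd a b ha hb
      zero_mem' := h0Z
      neg_mem' := fun {a} ha => by
        have e : -a = a := by linear_combination (-a) * h2
        show uF 0 (-a) ∈ M
        rw [e]; exact ha
      inv_mem' := fun a ha => hinvZ a ha }
  have hK : ∀ b : F, b ∈ K ↔ uF 0 b ∈ M := fun b => Iff.rfl
  have hσmem : ∀ c : F, c ∈ K → σ c ∈ K := by
    intro c hc
    rw [hσ]
    exact K.pow_mem hc _
  have hNK : ∀ b : F, b ∈ K → ∃ c : F, c ∈ K ∧ c * σ c = b := by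
    intro b hb
    have hinj : Function.Injective
        (fun c : K => (⟨c.1 * σ c.1, K.mul_mem c.2 (hσmem c.1 c.2)⟩ : K)) := by
      intro c c' hcc
      have h3 : c.1 * σ c.1 = c'.1 * σ c'.1 := congrArg Subtype.val hcc
      exact Subtype.ext (norm_inj σ hσ2 h3)
    obtain ⟨c, hc⟩ := Finite.surjective_of_injective hinj ⟨b, hb⟩
    exact ⟨c.1, c.2, congrArg Subtype.val hc⟩
  have hΛK : ∀ κ : Fˣ, dF κ ∈ M → (κ : F) ∈ K := by
    intro κ hκ
    have h1 : (κ : F) * σ κ ∈ K := by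
      have h3 := s0a κ 1 hκ h1Z
      rw [mul_one] at h3
      exact h3
    obtain ⟨c, hcK, hc⟩ := hNK _ h1
    have h4 : c = κ := norm_inj σ hσ2 hc
    rw [← h4]; exact hcK
  have hKΛ : ∀ c : F, c ∈ K → c ≠ 0 → ∃ κ : Fˣ, (κ : F) = c ∧ dF κ ∈ M := by
    intro c hc hc0
    have h1 : c * σ c ∈ K := K.mul_mem hc (hσmem c hc)
    have h10 : c * σ c ≠ 0 := mul_ne_zero hc0 (hσ0 c hc0)
    obtain ⟨κ, hκM, hκ⟩ := hR2 1 (c * σ c) one_ne_zero h10 h1Z h1
    rw [mul_one] at hκ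
    exact ⟨κ, (norm_inj σ hσ2 hκ).symm, hκM⟩
  have hu10 : uF 1 0 ∈ M := by
    have h3 := (s1 1 one_ne_zero h1Z).1
    rwa [map_one, div_one] at h3
  have huc0 : ∀ c : F, c ∈ K → uF c 0 ∈ M := by
    intro c hc
    by_cases hc0 : c = 0
    · rw [hc0]; exact h0Z
    · obtain ⟨κ, hκc, hκM⟩ := hKΛ c hc hc0
      have h3 := s0b κ 1 0 hκM hu10
      rw [mul_one, mul_zero, hκc] at h3
      exact h3
  have hKK : ∀ a b : F, a ∈ K → b ∈ K → uF a b ∈ M := by
    intro a b ha hb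
    rw [uG_split]
    exact M.mul_mem (huc0 a ha) hb
  have hMK : ∀ a b : F, uF a b ∈ M → a ∈ K ∧ b ∈ K := by
    intro a b hab
    have hsq := M.mul_mem hab hab
    rw [uG_sq] at hsq
    have h1 : a * σ a ∈ K := by rw [mul_comm]; exact hsq
    obtain ⟨c, hcK, hc⟩ := hNK _ h1
    have hca : c = a := norm_inj σ hσ2 hc
    have haK : a ∈ K := by rw [← hca]; exact hcK
    refine ⟨haK, ?_⟩
    have e : uF 0 b = (uF a 0)⁻¹ * uF a b := by
      rw [uG_split σ hσ hσ2 h2 a b, inv_mul_cancel_left]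
    show uF 0 b ∈ M
    rw [e]
    exact M.mul_mem (M.inv_mem (huc0 a haK)) hab
  -- cardinality
  haveI : Fintype K := Fintype.ofFinite K
  have h2K : (2 : K) = 0 := Subtype.ext (by push_cast; exact h2)
  have hcharK : ringChar K = 2 :=
    CharP.ringChar_of_prime_eq_zero Nat.prime_two (by exact_mod_cast h2K)
  haveI : CharP K 2 := hcharK ▸ ringChar.charP K
  obtain ⟨n, -, hn⟩ := FiniteField.card K 2
  have hpow := Module.card_eq_pow_finrank (K := K) (V := F)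
  rw [hF, hn, ← pow_mul] at hpow
  have hnr : 2 * m + 1 = n * Module.finrank K F := Nat.pow_right_injective (le_refl 2) hpow
  have hndvd : (n : ℕ) ∣ 2 * m + 1 := ⟨_, hnr⟩
  have hnodd : (n : ℕ) % 2 = 1 := by
    by_contra hcon
    have h0 : (n : ℕ) % 2 = 0 := by omega
    obtain ⟨e, he⟩ := hndvd
    have h3 : (2 * m + 1) % 2 = 0 := by rw [he, Nat.mul_mod, h0]; simp
    omega
  obtain ⟨k, hk⟩ : ∃ k, (n : ℕ) = 2 * k + 1 := ⟨n / 2, by omega⟩
  have hk1 : 1 ≤ k := by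
    by_contra hcon
    have hk0 : k = 0 := by omega
    have hcard2 : Fintype.card K = 2 := by rw [hn, hk, hk0]; norm_num
    have h3 : 2 < Fintype.card K := by
      rw [Fintype.two_lt_card_iff]
      have hNμ : (μ : F) * σ μ ∈ K := by
        have h4 := s0a μ 1 hd h1Z
        rwa [mul_one] at h4
      refine ⟨0, 1, ⟨_, hNμ⟩, zero_ne_one, ?_, ?_⟩
      · intro e
        have h4 : (0 : F) = μ * σ μ := congrArg Subtype.val e
        exact (mul_ne_zero μ.ne_zero (hσ0 _ μ.ne_zero)) h4.symm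
      · intro e
        have h4 : (1 : F) = μ * σ μ := congrArg Subtype.val e
        exact hμ (Units.ext (norm_eq_one σ hσ2 _ h4.symm))
    omega
  have hkm : k < m := by
    by_contra hcon
    have hle : (n : ℕ) ≤ 2 * m + 1 := Nat.le_of_dvd (by omega) hndvd
    have hkm' : k = m := by omega
    have hcardeq : Fintype.card K = Fintype.card F := by rw [hn, hk, hkm', hF]
    have hall : ∀ b : F, b ∈ K := by
      have hbij : Function.Bijective (fun c : K => (c : F)) :=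
        (Fintype.bijective_iff_injective_and_card _).mpr ⟨Subtype.val_injective, hcardeq⟩
      intro b
      obtain ⟨c, hc⟩ := hbij.2 b
      rw [← hc]; exact c.2
    apply hMtop
    apply eq_top_of σ τ hσ hσ2 hτ h2 hm hF M ?_ ?_ wF hw (wS_not_inf σ τ hσ hσ2 hτ h2)
    · intro g hg
      obtain ⟨a, b, rfl⟩ := (mem_szU_iff σ hσ hσ2 h2 g).mp hg
      exact hKK a b (hall a) (hall b)
    · intro g hg
      obtain ⟨κ, rfl⟩ := (mem_szD_iff σ τ hσ hσ2 hτ g).mp hg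
      obtain ⟨κ', hκ', hκ'M⟩ := hKΛ κ (hall _) κ.ne_zero
      rw [← Units.ext hκ']; exact hκ'M
  obtain ⟨K', iK', iK'', ι, hK'⟩ := exists_subfield_emb hF h2 n n.ne_zero hndvd
  rw [hk] at hK' hndvd hn
  obtain ⟨σK, τK, hσK, hσ2K, hτK, h2K'⟩ := sz_ctx hK'
  have hc : ∀ x, σ (ι x) = ι (σK x) := sigma_emb σ hσ σK hσK hK' hndvd ι
  have hc' : ∀ x, τ (ι x) = ι (τK x) := tau_emb σ τ hσ hτ h2 σK τK hσK hτK hK' hndvd ι
  have himg : ∀ b : F, b ∈ K → ∃ y : K', ι y = b := by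
    intro b hb
    apply root_in_image ι b
    rw [hK', ← hn]
    have e := FiniteField.pow_card (⟨b, hb⟩ : K)
    exact congrArg Subtype.val e
  obtain ⟨j, hj⟩ : ∃ j : Sz K' k →* Sz F m,
      j = szEmb σ τ σK τK hσ hσ2 hτ h2 hσK hσ2K hτK h2K' hk1 hK' ι hc hc' := ⟨_, rfl⟩
  have hjinj : Function.Injective j := by
    rw [hj]
    exact szEmb_inj σ τ hσ hσ2 hτ h2 σK τK hσK hσ2K hτK h2K' hk1 hK' ι hc hc'
  have hju : ∀ a b : F, uF a b ∈ M → uF a b ∈ j.range := by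
    intro a b hab
    obtain ⟨haK, hbK⟩ := hMK a b hab
    obtain ⟨a', rfl⟩ := himg a haK
    obtain ⟨b', rfl⟩ := himg b hbK
    exact ⟨uG σK hσK hσ2K h2K' a' b', by rw [hj, szEmb_uG]⟩
  have hjd : ∀ κ : Fˣ, dF κ ∈ M → dF κ ∈ j.range := by
    intro κ hκ
    obtain ⟨y, hy⟩ := himg _ (hΛK κ hκ)
    have hy0 : y ≠ 0 := by
      rintro rfl
      rw [map_zero] at hy
      exact κ.ne_zero hy.symm
    refine ⟨dG σK τK hσK hσ2K hτK (Units.mk0 y hy0), ?_⟩
    rw [hj, szEmb_dG]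
    congr 1
    apply Units.ext
    simp [hy]
  have hjw : wF ∈ j.range := ⟨wG σK hσK hσ2K h2K', by rw [hj, szEmb_wG]⟩
  have hjB : ∀ x ∈ M, sa x none = none → x ∈ j.range := by
    intro x hx hxB
    obtain ⟨a, b, κ, huM, hdM, rfl⟩ := hR3 x hx hxB
    exact j.range.mul_mem (hju a b huM) (hjd κ hdM)
  have hrange : ∀ x ∈ M, x ∈ j.range := by
    intro x hx
    by_cases hxB : sa x none = none
    · exact hjB x hx hxB
    · obtain ⟨a, b, huM, hab⟩ := hR1 x hx hxB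
      have hyM : (uF a b * wF)⁻¹ * x ∈ M := M.mul_mem (M.inv_mem (M.mul_mem huM hw)) hx
      have hyB : sa ((uF a b * wF)⁻¹ * x) none = none := by
        rw [sact_mul, hab, sact_inv, sact_mul, sact_wG_none, sact_uG_some]
        simp
      have h3 := j.range.mul_mem (j.range.mul_mem (hju a b huM) hjw) (hjB _ hyM hyB)
      rwa [mul_inv_cancel_left] at h3
  right; right
  refine ⟨K', iK', iK'', k, hk1, hkm, hK', hndvd, j, hjinj, 1, fun x hx => ?_⟩
  rw [one_mul, inv_one, mul_one]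
  exact hrange x hx

include hσ hσ2 hτ h2 in
/-- conjugating into standard position -/
theorem Z_swap (hm : 1 ≤ m) (hF : Fintype.card F = 2 ^ (2 * m + 1)) (M : Subgroup (Sz F m))
    (β : F) (hβ : β ≠ 0) (ht : uF 0 β ∈ M) (μ : Fˣ) (hμ : μ ≠ 1) (hd : dF μ ∈ M)
    (g₁ : Sz F m) (hg₁M : g₁ ∈ M) (hg₁ : sa g₁ none = some (0, 0)) :
    ∃ (c : Sz F m) (β' : F), β' ≠ 0 ∧ uF 0 β' ∈ M.map (MulAut.conj c).toMonoidHom ∧
      dF μ ∈ M.map (MulAut.conj c).toMonoidHom ∧ wF ∈ M.map (MulAut.conj c).toMonoidHom := by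
  obtain ⟨hR1, hR3, hR2⟩ := Z_reg σ τ hσ hσ2 hτ h2 hm hF M β hβ ht μ hμ hd g₁ hg₁M hg₁
  have hne : sa g₁⁻¹ none ≠ none := by
    intro h
    rw [sact_inv, hg₁] at h
    exact absurd h (by simp)
  obtain ⟨a, b, huM, hab⟩ := hR1 g₁⁻¹ (M.inv_mem hg₁M) hne
  have hs1 : sa (g₁ * uF a b * wF) none = none := by
    rw [sact_mul, sact_wG_none, sact_mul, sact_uG_some]
    simp only [zero_add, map_zero, zero_mul, mul_zero, add_zero]
    exact (sact_inv σ hσ g₁ none (some (a, b))).mp hab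
  have hs0 : sa (g₁ * uF a b * wF) (some (0, 0)) = some (0, 0) := by
    rw [sact_mul, sact_wG_zero, sact_mul, sact_uG_none, hg₁]
  obtain ⟨ν, hν⟩ := fix_two_dG σ τ hσ hσ2 hτ h2 hm hF _ hs1 hs0
  have hh : dF ν * wF ∈ M := by
    have e : dF ν * wF = g₁ * uF a b := by
      rw [← hν, mul_assoc, wG_sq, mul_one]
    rw [e]
    exact M.mul_mem hg₁M huM
  obtain ⟨ν', hν'⟩ : ∃ ν' : Fˣ, ν' * ν' = ν⁻¹ := ⟨_, unit_sqrt hF ν⁻¹⟩
  refine ⟨dF ν', ν' * σ ν' * β, ?_, ?_, ?_, ?_⟩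
  · exact mul_ne_zero (mul_ne_zero ν'.ne_zero ((map_ne_zero σ).mpr ν'.ne_zero)) hβ
  · rw [← conj_dG_central σ τ hσ hσ2 hτ h2 β ν']
    exact (mem_conj_map _ _ M).mpr ht
  · have e : dF ν' * dF μ * (dF ν')⁻¹ = dF μ := by
      rw [← dG_mul, mul_comm, dG_mul, mul_inv_cancel_right]
    rw [← e]
    exact (mem_conj_map _ _ M).mpr hd
  · have e : dF ν' * (dF ν * wF) * (dF ν')⁻¹ = wF := by
      calc dF ν' * (dF ν * wF) * (dF ν')⁻¹ = dF ν' * dF ν * (wF * dF ν'⁻¹) := by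
            rw [dG_inv]; group
        _ = dF ν' * dF ν * (dF ν' * wF) := by rw [wG_dG, inv_inv]
        _ = dF (ν' * ν * ν') * wF := by rw [dG_mul, dG_mul]; group
        _ = wF := by
          have h3 : ν' * ν * ν' = 1 := by rw [mul_comm ν' ν, mul_assoc, hν', mul_inv_cancel]
          rw [h3, dG_one, one_mul]
    rw [← e]
    exact (mem_conj_map _ _ M).mpr hh

include hσ hσ2 hτ h2 in
/-- the case where some nonidentity element of `M` fixes two points of the orbit -/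
theorem case_Z (hm : 1 ≤ m) (hF : Fintype.card F = 2 ^ (2 * m + 1)) (M : Subgroup (Sz F m))
    (hMtop : M ≠ ⊤) (β : F) (hβ : β ≠ 0) (ht : uF 0 β ∈ M)
    (g : Sz F m) (hgM : g ∈ M) (hgB : g ∉ szB (F := F) m) (d : Sz F m) (hdM : d ∈ M)
    (hdB : d ∈ szB (F := F) m) (hgd : g⁻¹ * d * g ∈ szB (F := F) m) (hd1 : d ≠ 1) :
    Good' σ hσ hσ2 h2 M := by
  have hgne : sa g none ≠ none := fun h => hgB ((mem_szB_sact σ hσ g).mpr h)
  have hfixg : sa d (sa g none) = sa g none := by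
    have h3 := (mem_szB_sact σ hσ _).mp hgd
    rw [sact_mul, sact_mul, sact_inv] at h3
    exact h3.symm
  obtain ⟨a, b, κ, hdec⟩ := (mem_szB_iff' σ τ hσ hσ2 hτ h2 hm hF d).mp hdB
  have hκ1 : κ ≠ 1 := by
    intro hκ
    rw [hκ, dG_one, mul_one] at hdec
    rw [hdec] at hfixg
    have hab : a = 0 ∧ b = 0 := by
      by_contra hcon
      exact hgne (sact_uG_fix σ hσ hσ2 h2 a b hcon _ hfixg)
    apply hd1
    rw [hdec, hab.1, hab.2, uG_zero]
  obtain ⟨x₀, y₀, ν, hν⟩ := borel_conj_torus σ τ hσ hσ2 hτ h2 hm hF a b κ hκ1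
  rw [← hdec] at hν
  have hν1 : ν ≠ 1 := by
    intro h
    rw [h, dG_one] at hν
    apply hd1
    have h3 : (uF x₀ y₀)⁻¹ * d * (uF x₀ y₀)⁻¹⁻¹ = 1 := by rw [inv_inv]; exact hν
    exact conj_eq_one_iff.mp h3
  obtain ⟨c, hc⟩ : ∃ c : Sz F m, c = (uF x₀ y₀)⁻¹ := ⟨_, rfl⟩
  have hcinv : c⁻¹ = uF x₀ y₀ := by rw [hc, inv_inv]
  have hcinvnone : sa c⁻¹ none = none := by rw [hcinv, sact_uG_none]
  have hA : ∀ y : Sz F m, sa (c * y * c⁻¹) none = sa c (sa y none) := by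
    intro y
    rw [sact_mul, hcinvnone, sact_mul]
  obtain ⟨M', hM'⟩ : ∃ M' : Subgroup (Sz F m), M' = M.map (MulAut.conj c).toMonoidHom :=
    ⟨_, rfl⟩
  have hdν : dF ν = c * d * c⁻¹ := by rw [hcinv, hc]; exact hν.symm
  have hdM' : dF ν ∈ M' := by
    rw [hdν, hM']
    exact (mem_conj_map c d M).mpr hdM
  have htM' : uF 0 β ∈ M' := by
    have hcomm : uF x₀ y₀ * uF 0 β = uF 0 β * uF x₀ y₀ := by
      rw [uG_mul, uG_mul]
      congr 1
      · ring
      · simp only [map_zero, zero_mul, mul_zero, add_zero]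
        ring
    have e : c * uF 0 β * c⁻¹ = uF 0 β := by
      rw [hcinv, hc, mul_assoc, ← hcomm, inv_mul_cancel_left]
    rw [← e, hM']
    exact (mem_conj_map c _ M).mpr ht
  have hg'M' : c * g * c⁻¹ ∈ M' := by
    rw [hM']
    exact (mem_conj_map c g M).mpr hgM
  have hg'0 : sa (c * g * c⁻¹) none = some (0, 0) := by
    have hfix' : sa (dF ν) (sa (c * g * c⁻¹) none) = sa (c * g * c⁻¹) none := by
      have e2 : c * d * c⁻¹ * (c * g * c⁻¹) = c * (d * g) * c⁻¹ := by group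
      rw [hdν, ← sact_mul, e2, hA, hA, sact_mul, hfixg]
    rcases sact_dG_fix σ τ hσ hσ2 hτ ν hν1 _ hfix' with h | h
    · exfalso
      rw [hA] at h
      apply hgne
      have h3 := (sact_inv σ hσ c none (sa g none)).mpr h
      rw [hcinvnone] at h3
      exact h3.symm
    · exact h
  have hM'top : M' ≠ ⊤ := by rw [hM']; exact conj_map_ne_top c M hMtop
  obtain ⟨c₂, β', hβ', h1', h2', h3'⟩ :=
    Z_swap σ τ hσ hσ2 hτ h2 hm hF M' β hβ htM' ν hν1 hdM' _ hg'M' hg'0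
  apply good'_conj σ hσ hσ2 h2 c M
  rw [← hM']
  apply good'_conj σ hσ hσ2 h2 c₂ M'
  exact Z_std σ τ hσ hσ2 hτ h2 hm hF _ (conj_map_ne_top c₂ M' hM'top) β' hβ' h1' ν hν1 h2' h3'

include hσ hσ2 hτ h2 in
/-- a subgroup of even order contains, up to conjugacy, a central involution of the standard
Sylow `2`-subgroup -/
theorem invol_conj (hm : 1 ≤ m) (hF : Fintype.card F = 2 ^ (2 * m + 1)) (M : Subgroup (Sz F m))
    (heven : Even (Nat.card M)) :
    ∃ (c : Sz F m) (β : F), β ≠ 0 ∧ uF 0 β ∈ M.map (MulAut.conj c).toMonoidHom := by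
  haveI := Sz_finite σ τ hσ hσ2 hτ h2 hm hF
  haveI : Finite (suzukiOvoid F m) := (ovoid_finite m).to_subtype
  haveI : Fintype (suzukiOvoid F m) := Fintype.ofFinite _
  haveI : Fact (Nat.Prime 2) := ⟨Nat.prime_two⟩
  obtain ⟨t, ht⟩ := exists_prime_orderOf_dvd_card' (G := M) 2 heven.two_dvd
  have ht1 : t.1 ≠ 1 := by
    intro h
    have : t = 1 := Subtype.ext h
    rw [this, orderOf_one] at ht
    omega
  have ht2 : t.1 * t.1 = 1 := by
    have h3 : t ^ 2 = 1 := by rw [← ht]; exact pow_orderOf_eq_one t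
    rw [pow_two] at h3
    exact congrArg Subtype.val h3
  obtain ⟨c₀, hc₀⟩ := invol_has_fixed_point (ovoid_odd hF) t.1 ht2
  obtain ⟨o, ho⟩ := (mem_ovoid_iff σ hσ _).mp c₀.2
  have hfix : t.1.1 • pt σ o = pt σ o := by
    rw [← ho]
    exact congrArg Subtype.val hc₀
  have hcase : ∃ (c : Sz F m) (β : F), β ≠ 0 ∧ c * t.1 * c⁻¹ = uG σ hσ hσ2 h2 0 β := by
    rcases fix_cases σ τ hσ hσ2 hτ h2 hm hF t.1 ht1 o hfix with ⟨-, c, hc⟩ | ⟨-, c, hc⟩
    · obtain ⟨a, b, hab⟩ := (mem_szU_iff σ hσ hσ2 h2 _).mp hc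
      have hsq : uG σ hσ hσ2 h2 a b * uG σ hσ hσ2 h2 a b = 1 := by
        rw [← hab]
        calc c * t.1 * c⁻¹ * (c * t.1 * c⁻¹) = c * (t.1 * t.1) * c⁻¹ := by group
          _ = 1 := by rw [ht2]; group
      rw [uG_sq, ← uG_zero σ hσ hσ2 h2] at hsq
      have h3 : σ a * a = 0 := (uG_inj σ hσ hσ2 h2 _ _ _ _ hsq).2
      have ha : a = 0 := by
        rcases mul_eq_zero.mp h3 with h | h
        · rw [hσ] at h
          exact pow_eq_zero_iff (by positivity) |>.mp h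
        · exact h
      subst ha
      refine ⟨c, b, ?_, hab⟩
      rintro rfl
      rw [uG_zero] at hab
      exact ht1 (conj_eq_one_iff.mp hab)
    · exfalso
      obtain ⟨κ, hκ⟩ := (mem_szD_iff σ τ hσ hσ2 hτ _).mp hc
      have hsq : dG σ τ hσ hσ2 hτ κ * dG σ τ hσ hσ2 hτ κ = 1 := by
        rw [← hκ]
        calc c * t.1 * c⁻¹ * (c * t.1 * c⁻¹) = c * (t.1 * t.1) * c⁻¹ := by group
          _ = 1 := by rw [ht2]; group
      rw [← dG_mul, ← dG_one σ τ hσ hσ2 hτ] at hsq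
      have h3 : κ * κ = 1 := dG_inj σ τ hσ hσ2 hτ _ _ hsq
      have h4 : (κ : F) * κ = 1 := by rw [← Units.val_mul, h3, Units.val_one]
      have h5 : ((κ : F) + 1) * ((κ : F) + 1) = 0 := by
        linear_combination h4 + ((κ : F) + 1) * h2
      have h6 : (κ : F) + 1 = 0 := by
        rcases mul_eq_zero.mp h5 with h | h <;> exact h
      have h7 : κ = 1 := by
        apply Units.ext
        show (κ : F) = 1
        linear_combination h6 - h2
      rw [h7, dG_one] at hκ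
      exact ht1 (conj_eq_one_iff.mp hκ)
  obtain ⟨c, β, hβ, hcβ⟩ := hcase
  refine ⟨c, β, hβ, ?_⟩
  rw [← hcβ]
  exact (mem_conj_map c t.1 M).mpr t.2

include hσ hσ2 hτ h2 in
/-- the subgroup theorem in conjugation-stable form -/
theorem Sz_good (hm : 1 ≤ m) (hF : Fintype.card F = 2 ^ (2 * m + 1)) (M : Subgroup (Sz F m))
    (hMtop : M ≠ ⊤) : Good' σ hσ hσ2 h2 M := by
  haveI := Sz_finite σ τ hσ hσ2 hτ h2 hm hF
  by_cases hodd : Odd (Nat.card M)
  · by_cases hbot : M = ⊥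
    · left
      refine ⟨ptO σ hσ none, fun x hx => ?_⟩
      rw [hbot, Subgroup.mem_bot] at hx
      rw [hx, one_smul]
    · obtain ⟨h, hh, hh1⟩ : ∃ h ∈ M, h ≠ 1 := by
        by_contra hcon
        apply hbot
        rw [Subgroup.eq_bot_iff_forall]
        intro x hx
        by_contra hx1
        exact hcon ⟨x, hx, hx1⟩
      right; left
      exact ⟨h, hh1, not_tiU_of_odd σ τ hσ hσ2 hτ h2 hm hF M hodd h hh hh1,
        le_trans (odd_in_torus σ τ hσ hσ2 hτ h2 hm hF M hodd h hh hh1) Subgroup.le_normalizer⟩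
  · have heven : Even (Nat.card M) := Nat.not_odd_iff_even.mp hodd
    obtain ⟨c, β, hβ, hcβ⟩ := invol_conj σ τ hσ hσ2 hτ h2 hm hF M heven
    apply good'_conj σ hσ hσ2 h2 c M
    obtain ⟨M', hM'⟩ : ∃ M' : Subgroup (Sz F m), M' = M.map (MulAut.conj c).toMonoidHom :=
      ⟨_, rfl⟩
    rw [← hM'] at hcβ ⊢
    have hM'top : M' ≠ ⊤ := by rw [hM']; exact conj_map_ne_top c M hMtop
    by_cases hMB : M' ≤ szB (F := F) m
    · left
      refine ⟨ptO σ hσ none, fun x hx => ?_⟩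
      exact Subtype.ext_iff.mpr ((mem_szB σ x).mp (hMB hx))
    · by_cases hFr : ∀ g ∈ M', g ∉ szB (F := F) m → ∀ d ∈ M', d ∈ szB (F := F) m →
          g⁻¹ * d * g ∈ szB (F := F) m → d = 1
      · exact case_F σ τ hσ hσ2 hτ h2 hm hF M' β hβ hcβ hMB hFr
      · push Not at hFr
        obtain ⟨g, hgM, hgB, d, hdM, hdB, hgd, hd1⟩ := hFr
        exact case_Z σ τ hσ hσ2 hτ h2 hm hF M' hM'top β hβ hcβ g hgM hgB d hdM hdB hgd hd1

end zstd

/-- every proper subgroup of `Sz(q)` lies in a Sylow `2`-normaliser, a torus normaliser or a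
subfield subgroup -/
theorem Sz_subgroups {F : Type*} [Field F] [Fintype F] {m : ℕ} (hm : 1 ≤ m)
    (hF : Fintype.card F = 2 ^ (2 * m + 1)) (M : Subgroup ↥(Cfsg.Sz F m)) (hM : M ≠ ⊤) :
    (∃ P : Sylow 2 ↥(Cfsg.Sz F m), M ≤ Subgroup.normalizer
      ((P : Subgroup ↥(Cfsg.Sz F m)) : Set ↥(Cfsg.Sz F m))) ∨
    (∃ U : Subgroup ↥(Cfsg.Sz F m), IsCyclic ↥U ∧ Nat.card ↥U ∈
      ({2 ^ (2 * m + 1) - 1, 2 ^ (2 * m + 1) + 2 ^ (m + 1) + 1,
        2 ^ (2 * m + 1) - 2 ^ (m + 1) + 1} : Set ℕ) ∧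
      M ≤ Subgroup.normalizer (U : Set ↥(Cfsg.Sz F m))) ∨
    (∃ (K : Type) (_ : Field K) (_ : Fintype K) (k : ℕ), 1 ≤ k ∧ k < m ∧
      Fintype.card K = 2 ^ (2 * k + 1) ∧ 2 * k + 1 ∣ 2 * m + 1 ∧
      ∃ S : Subgroup ↥(Cfsg.Sz F m), Nonempty (↥S ≃* ↥(Cfsg.Sz K k)) ∧ M ≤ S) := by
  obtain ⟨σ, τ, hσ, hσ2, hτ, h2⟩ := sz_ctx hF
  haveI := Sz_finite σ τ hσ hσ2 hτ h2 hm hF
  rcases Sz_good σ τ hσ hσ2 hτ h2 hm hF M hM with
    ⟨P, hP⟩ | ⟨h, hh1, hhU, hle⟩ | ⟨K, iK, iK', k, hk, hkm, hK, hdiv, j, hj, c, hc⟩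
  · left
    obtain ⟨o, ho⟩ := (mem_ovoid_iff σ hσ _).mp P.2
    obtain ⟨g, hg, -, hgo⟩ := Sz_trans σ hσ hσ2 h2 o
    obtain ⟨g', hg'⟩ : ∃ g' : Sz F m, g' = ⟨g, hg⟩ := ⟨_, rfl⟩
    have hB : ∀ x ∈ M, g'⁻¹ * x * g' ∈ szB (F := F) m := by
      intro x hx
      have hfix : x.1 • pt σ o = pt σ o := by
        rw [← ho]
        exact congrArg Subtype.val (hP x hx)
      rw [mem_szB σ]
      show (g'.1⁻¹ * x.1 * g'.1) • pt σ none = pt σ none
      rw [hg']
      show (g⁻¹ * x.1 * g) • pt σ none = pt σ none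
      rw [mul_smul, mul_smul, hgo, hfix, ← hgo, inv_smul_smul]
    obtain ⟨P₁, hP₁⟩ := (sylow2_conj σ τ hσ hσ2 hτ h2 hm hF).2 g'⁻¹
    refine ⟨P₁, fun y hy => ?_⟩
    rw [Subgroup.mem_normalizer_iff]
    intro x
    have h1 : x ∈ (P₁ : Subgroup (Sz F m)) ↔ g'⁻¹ * x * g'⁻¹⁻¹ ∈ szU σ hσ hσ2 h2 := hP₁ x
    have h2' : y * x * y⁻¹ ∈ (P₁ : Subgroup (Sz F m)) ↔
        g'⁻¹ * (y * x * y⁻¹) * g'⁻¹⁻¹ ∈ szU σ hσ hσ2 h2 := hP₁ _
    have hN := szB_le_normalizer σ τ hσ hσ2 hτ h2 hm hF (hB y hy)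
    rw [Subgroup.mem_normalizer_iff] at hN
    have e : g'⁻¹ * (y * x * y⁻¹) * g'⁻¹⁻¹ =
        (g'⁻¹ * y * g') * (g'⁻¹ * x * g'⁻¹⁻¹) * (g'⁻¹ * y * g')⁻¹ := by group
    rw [h1, h2', e]
    exact hN _
  · right; left
    obtain ⟨hcyc, hcard, -, -⟩ := toral σ τ hσ hσ2 hτ h2 hm hF h hh1 hhU
    exact ⟨_, hcyc, hcard, hle⟩
  · right; right
    refine ⟨K, iK, iK', k, hk, hkm, hK, hdiv,
      j.range.map (MulAut.conj c⁻¹).toMonoidHom, ?_, ?_⟩
    · exact ⟨((Subgroup.equivMapOfInjective _ _ (MulAut.conj c⁻¹).injective).symm).trans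
        (MonoidHom.ofInjective hj).symm⟩
    · intro x hx
      have h3 := (mem_conj_map c⁻¹ (c * x * c⁻¹) j.range).mpr (hc x hx)
      have e : c⁻¹ * (c * x * c⁻¹) * c⁻¹⁻¹ = x := by group
      rw [e] at h3
      exact h3

end

end Cfsg.Agent.Helper3
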